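import Groth.Agent.Lib.Lead.RSp.Slice
import Groth.Prelude.Def_ModSite

/-! # Modules on a ringed space: restriction of sections, local generation, finite type. -/

universe u
open CategoryTheory Limits Opposite TopologicalSpace

namespace Groth.Agent.LD.RSp

section Top
variable {X : TopCat.{u}} {O : TopCat.Sheaf CommRingCat.{u} X}

/-- restriction of functions, as a ring homomorphism. -/
noncomputable def rr (O : TopCat.Sheaf CommRingCat.{u} X) {V W : Opens X} (h : W ≤ V) :
    (ModSite.ringSh O).obj.obj (op V) →+* (ModSite.ringSh O).obj.obj (op W) :=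
  ((ModSite.ringSh O).obj.map (homOfLE h).op).hom

/-- restriction of sections along an inclusion of opens. -/
noncomputable def res (F : ModSite.Mod O) {V W : Opens X} (h : W ≤ V) (t : ModSite.sect F V) :
    ModSite.sect F W :=
  rs F (homOfLE h) t

lemma rs_eq_res (F : ModSite.Mod O) {V W : Opens X} (g : W ⟶ V) (t : ModSite.sect F V) :
    rs F g t = res F (leOfHom g) t := rfl

lemma res_add (F : ModSite.Mod O) {V W : Opens X} (h : W ≤ V) (t t' : ModSite.sect F V) :
    res F h (t + t') = res F h t + res F h t' := rs_add F _ t t'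

lemma res_zero (F : ModSite.Mod O) {V W : Opens X} (h : W ≤ V) :
    res F h (0 : ModSite.sect F V) = 0 := rs_zero F _

lemma res_sub (F : ModSite.Mod O) {V W : Opens X} (h : W ≤ V) (t t' : ModSite.sect F V) :
    res F h (t - t') = res F h t - res F h t' := rs_sub F _ t t'

lemma res_sum (F : ModSite.Mod O) {V W : Opens X} (h : W ≤ V) {ι : Type*} (s : Finset ι)
    (t : ι → ModSite.sect F V) : res F h (∑ i ∈ s, t i) = ∑ i ∈ s, res F h (t i) :=
  rs_sum F _ s t

lemma res_smul (F : ModSite.Mod O) {V W : Opens X} (h : W ≤ V)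
    (a : (ModSite.ringSh O).obj.obj (op V)) (t : ModSite.sect F V) :
    res F h (a • t) = rr O h a • res F h t := rs_smul F _ a t

lemma res_res (F : ModSite.Mod O) {V W Z : Opens X} (h : W ≤ V) (h' : Z ≤ W)
    (t : ModSite.sect F V) : res F h' (res F h t) = res F (h'.trans h) t :=
  rs_rs F _ _ t

lemma res_self (F : ModSite.Mod O) (V : Opens X) (t : ModSite.sect F V) :
    res F (le_refl V) t = t := rs_id F V t

lemma app_res {F G : ModSite.Mod O} (φ : F ⟶ G) {V W : Opens X} (h : W ≤ V)
    (t : ModSite.sect F V) :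
    φ.val.app (op W) (res F h t) = res G h (φ.val.app (op V) t) := app_rs φ _ t

lemma rr_rr (O : TopCat.Sheaf CommRingCat.{u} X) {V W Z : Opens X} (h : W ≤ V) (h' : Z ≤ W)
    (a : (ModSite.ringSh O).obj.obj (op V)) : rr O h' (rr O h a) = rr O (h'.trans h) a := by
  change ((ModSite.ringSh O).obj.map (homOfLE h').op)
      (((ModSite.ringSh O).obj.map (homOfLE h).op) a) =
    ((ModSite.ringSh O).obj.map (homOfLE (h'.trans h)).op) a
  rw [← ConcreteCategory.comp_apply, ← Functor.map_comp, ← op_comp]
  rfl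

lemma rr_self (O : TopCat.Sheaf CommRingCat.{u} X) (V : Opens X)
    (a : (ModSite.ringSh O).obj.obj (op V)) : rr O (le_refl V) a = a := by
  change ((ModSite.ringSh O).obj.map (homOfLE (le_refl V)).op) a = a
  have : (homOfLE (le_refl V)).op = 𝟙 (op V) := rfl
  rw [this, (ModSite.ringSh O).obj.map_id]
  rfl

/-- finitely many local conditions, each stable under shrinking, hold on a common
neighbourhood. -/
lemma exists_common_nbhd {κ : Type*} [Finite κ] (x : X) (U : Opens X) (hx : x ∈ U)
    (P : κ → Opens X → Prop)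
    (hmono : ∀ (j : κ) (W W' : Opens X), W' ≤ W → P j W → P j W')
    (hP : ∀ j, ∃ W : Opens X, W ≤ U ∧ x ∈ W ∧ P j W) :
    ∃ W : Opens X, W ≤ U ∧ x ∈ W ∧ ∀ j, P j W := by
  classical
  haveI := Fintype.ofFinite κ
  have key : ∀ s : Finset κ, ∃ W : Opens X, W ≤ U ∧ x ∈ W ∧ ∀ j ∈ s, P j W := by
    intro s
    induction s using Finset.induction_on with
    | empty => exact ⟨U, le_refl U, hx, fun j hj => absurd hj (Finset.notMem_empty j)⟩
    | insert j s _ ih =>
      obtain ⟨W, hWU, hxW, hW⟩ := ih
      obtain ⟨W', hW'U, hxW', hW'⟩ := hP j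
      refine ⟨W ⊓ W', inf_le_left.trans hWU, ⟨hxW, hxW'⟩, ?_⟩
      intro k hk
      rcases Finset.mem_insert.mp hk with rfl | hk
      · exact hmono _ _ _ inf_le_right hW'
      · exact hmono _ _ _ inf_le_left (hW k hk)
  obtain ⟨W, hWU, hxW, hW⟩ := key Finset.univ
  exact ⟨W, hWU, hxW, fun j => hW j (Finset.mem_univ j)⟩

/-- epimorphisms of modules on a ringed space are the locally surjective morphisms. -/
theorem epi_iff_forall_exists {F G : ModSite.Mod O} (φ : F ⟶ G) :
    Epi φ ↔ ∀ (U : Opens X) (t : ModSite.sect G U) (x : X), x ∈ U →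
      ∃ (W : Opens X) (hW : W ≤ U), x ∈ W ∧
        ∃ m : ModSite.sect F W, φ.val.app (op W) m = res G hW t := by
  constructor
  · intro hφ U t x hx
    obtain ⟨S, hS, hS'⟩ := exists_sieve_of_epi φ U t
    obtain ⟨V, f, hf, hxV⟩ := hS x hx
    obtain ⟨m, hm⟩ := hS' f hf
    exact ⟨V, leOfHom f, hxV, m, hm⟩
  · intro h
    apply epi_of_exists_sieve
    intro U t
    refine ⟨Presheaf.imageSieve ((PresheafOfModules.toPresheaf (ModSite.ringSh O).obj).map φ.val) t,
      ?_, ?_⟩
    · intro x hx
      obtain ⟨W, hW, hxW, m, hm⟩ := h U t x hx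
      exact ⟨W, homOfLE hW, ⟨m, hm⟩, hxW⟩
    · rintro V g ⟨m, hm⟩
      exact ⟨m, hm⟩

/-- finitely many sections over `U` can be lifted along an epimorphism near a point. -/
theorem exists_lift_fin {F G : ModSite.Mod O} (φ : F ⟶ G) [Epi φ] {κ : Type*} [Finite κ]
    (U : Opens X) (c : κ → ModSite.sect G U) (x : X) (hx : x ∈ U) :
    ∃ (W : Opens X) (hW : W ≤ U), x ∈ W ∧
      ∃ b : κ → ModSite.sect F W, ∀ j, φ.val.app (op W) (b j) = res G hW (c j) := by
  have h := (epi_iff_forall_exists φ).mp inferInstance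
  obtain ⟨W, hWU, hxW, hW⟩ := exists_common_nbhd x U hx
    (fun j W => ∃ hW : W ≤ U, ∃ b : ModSite.sect F W, φ.val.app (op W) b = res G hW (c j))
    (by
      rintro j W W' hW' ⟨hW, b, hb⟩
      refine ⟨hW'.trans hW, res F hW' b, ?_⟩
      rw [app_res, hb, res_res])
    (by
      intro j
      obtain ⟨W, hW, hxW, m, hm⟩ := h U (c j) x hx
      exact ⟨W, hW, hxW, hW, m, hm⟩)
  choose _ b hb using hW
  exact ⟨W, hWU, hxW, b, hb⟩

/-- the sections `s` over `U` generate `F` over `U`: every section over a smaller open is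
locally a combination of them. -/
def LocGen (F : ModSite.Mod O) (U : Opens X) {ι : Type u} [Fintype ι]
    (s : ι → ModSite.sect F U) : Prop :=
  ∀ (V : Opens X) (hV : V ≤ U) (t : ModSite.sect F V) (x : X), x ∈ V →
    ∃ (W : Opens X) (hW : W ≤ V), x ∈ W ∧ ∃ r : ι → (ModSite.ringSh O).obj.obj (op W),
      res F hW t = ∑ i, r i • res F (hW.trans hV) (s i)

theorem locGen_iff_epi (F : ModSite.Mod O) (U : Opens X) {ι : Type u} [Fintype ι]
    (s : ι → ModSite.sect F U) :
    LocGen F U s ↔
      Epi ((SheafOfModules.over F U).freeHomEquiv.symm (fun i => secOver F U (s i))) := by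
  constructor
  · intro h
    apply epi_of_combSieve_mem
    intro V f t x hx
    obtain ⟨W, hW, hxW, r, hr⟩ := h V (leOfHom f) t x hx
    exact ⟨W, homOfLE hW, ⟨r, hr⟩, hxW⟩
  · intro h V hV t x hx
    obtain ⟨W, g, ⟨r, hr⟩, hxW⟩ := combSieve_mem_of_epi F U s h (homOfLE hV) t x hx
    exact ⟨W, leOfHom g, hxW, r, hr⟩

/-- restriction of a generating family to a smaller open. -/
theorem LocGen.res {F : ModSite.Mod O} {U : Opens X} {ι : Type u} [Fintype ι]
    {s : ι → ModSite.sect F U} (h : LocGen F U s) {U' : Opens X} (hU : U' ≤ U) :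
    LocGen F U' (fun i => res F hU (s i)) := by
  intro V hV t x hx
  obtain ⟨W, hW, hxW, r, hr⟩ := h V (hV.trans hU) t x hx
  refine ⟨W, hW, hxW, r, ?_⟩
  rw [hr]
  refine Finset.sum_congr rfl fun i _ => ?_
  rw [res_res]

/-- finite type on a ringed space, in terms of local generating sections. -/
theorem isFiniteType_iff (F : ModSite.Mod O) :
    SheafOfModules.IsFiniteType (R := ModSite.ringSh O) F ↔
      ∀ x : X, ∃ U : Opens X, x ∈ U ∧
        ∃ (ι : Type u) (_ : Fintype ι) (s : ι → ModSite.sect F U), LocGen F U s := by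
  constructor
  · intro hF x
    obtain ⟨σ, hσ⟩ := SheafOfModules.IsFiniteType.exists_localGeneratorsData F
    obtain ⟨V, f, ⟨i, ⟨g⟩⟩, hxV⟩ := σ.coversTop ⊤ x trivial
    haveI : Finite (σ.generators i).I := (hσ.isFiniteType i).finite
    haveI := Fintype.ofFinite (σ.generators i).I
    refine ⟨σ.X i, leOfHom g hxV, (σ.generators i).I, inferInstance,
      fun j => evalId F (σ.X i) ((σ.generators i).s j), ?_⟩
    rw [locGen_iff_epi]
    have e : (fun j => secOver F (σ.X i) (evalId F (σ.X i) ((σ.generators i).s j))) =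
        (σ.generators i).s := funext fun j => secOver_evalId F (σ.X i) _
    rw [e]
    exact (σ.generators i).epi
  · intro h
    choose U hxU ι hι s hs using h
    have hcov : (Opens.grothendieckTopology X).CoversTop U := by
      intro W y hy
      exact ⟨W ⊓ U y, homOfLE inf_le_left, ⟨y, ⟨homOfLE inf_le_right⟩⟩, ⟨hy, hxU y⟩⟩
    let σ : SheafOfModules.LocalGeneratorsData.{u} F :=
      { I := (↑X : Type u)
        X := U
        coversTop := hcov
        generators := fun x =>
          { I := ι x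
            s := fun i => secOver F (U x) (s x i)
            epi := (locGen_iff_epi F (U x) (s x)).mp (hs x) } }
    have hσ : σ.IsFiniteType :=
      { isFiniteType := fun x => { finite := (Finite.of_fintype (ι x) : Finite (ι x)) } }
    exact { exists_localGeneratorsData := ⟨σ, hσ⟩ }

end Top

end Groth.Agent.LD.RSp
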