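import Groth.Agent.Lib.Lead.RSp.SiteCoprod
import Groth.Agent.Lib.Lead.EZ.FreeOn

/-! # Sections over a quasi-compact object commute with coproducts of sheaves of modules. -/

universe u
open CategoryTheory Limits Opposite DirectSum

namespace Groth.Agent.LD.RSp.SC

open Groth.Agent.LD.RSp

variable {C : Type u} [SmallCategory C] {J : GrothendieckTopology C}

section Sections
variable (R : Sheaf J RingCat.{u})

/-- the sections functor. -/
noncomputable abbrev Γf (W : C) : SheafOfModules.{u} R ⥤ AddCommGrpCat.{u} :=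
  SheafOfModules.toSheaf R ⋙ (sheafSections J AddCommGrpCat.{u}).obj (op W)

variable {R} {ι : Type u} (F : ι → SheafOfModules.{u} R) [HasCoproduct F] (W : C)

/-- the comparison map from the direct sum of the sections. -/
noncomputable def φ [DecidableEq ι] :
    (⨁ i, ((Γf R W).obj (F i) : Type u)) →+ ((Γf R W).obj (∐ F) : Type u) :=
  DirectSum.toAddMonoid (fun i => ((Γf R W).map (Sigma.ι F i)).hom)

lemma φ_of [DecidableEq ι] (i : ι) (a : ((Γf R W).obj (F i) : Type u)) :
    φ F W (DirectSum.of (fun i => ((Γf R W).obj (F i) : Type u)) i a) =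
      ((Γf R W).map (Sigma.ι F i)).hom a := by
  unfold φ
  exact DirectSum.toAddMonoid_of (β := fun i => ((Γf R W).obj (F i) : Type u)) _ i a

/-- the projections. -/
noncomputable def ψ [DecidableEq ι] (i : ι) :
    ((Γf R W).obj (∐ F) : Type u) →+ ((Γf R W).obj (F i) : Type u) :=
  ((Γf R W).map (Sigma.π F i)).hom

lemma ψ_φ [DecidableEq ι] (x : ⨁ i, ((Γf R W).obj (F i) : Type u)) (i : ι) :
    ψ F W i (φ F W x) = x i := by
  have h : (ψ F W i).comp (φ F W) = DFinsupp.evalAddMonoidHom i := by
    apply DirectSum.addHom_ext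
    intro j y
    rw [AddMonoidHom.comp_apply, φ_of]
    by_cases hji : j = i
    · subst hji
      have e1 : DFinsupp.evalAddMonoidHom j
          (DirectSum.of (fun i => ((Γf R W).obj (F i) : Type u)) j y) = y := by
        show (DirectSum.of (fun i => ((Γf R W).obj (F i) : Type u)) j y) j = y
        exact DirectSum.of_eq_same (β := fun i => ((Γf R W).obj (F i) : Type u)) j y
      rw [e1]
      exact π_ι_same F W j y
    · have e1 : DFinsupp.evalAddMonoidHom i
          (DirectSum.of (fun i => ((Γf R W).obj (F i) : Type u)) j y) = 0 := by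
        show (DirectSum.of (fun i => ((Γf R W).obj (F i) : Type u)) j y) i = 0
        exact DirectSum.of_eq_of_ne (β := fun i => ((Γf R W).obj (F i) : Type u)) j i y (Ne.symm hji)
      rw [e1]
      exact π_ι_ne F W hji y
  exact DFunLike.congr_fun h x

lemma φ_injective [DecidableEq ι] : Function.Injective (φ F W) := by
  rw [injective_iff_map_eq_zero]
  intro x hx
  apply DFinsupp.ext
  intro i
  have h := ψ_φ F W x i
  rw [hx, map_zero] at h
  exact h.symm

lemma φ_surjective [DecidableEq ι] (hW : CohCx.IsQcObject (hSh J W)) :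
    Function.Surjective (φ F W) := by
  intro z
  obtain ⟨T, hT⟩ := coprod_sections_surj F W hW (show (∐ F).val.obj (op W) from z)
  refine ⟨∑ i ∈ T, DirectSum.of (fun i => ((Γf R W).obj (F i) : Type u)) i (ψ F W i z), ?_⟩
  rw [map_sum]
  refine Eq.trans (Finset.sum_congr rfl fun i _ => φ_of F W i _) ?_
  exact hT.symm

theorem nonempty_isColimit (hW : CohCx.IsQcObject (hSh J W)) :
    Nonempty (IsColimit (Cofan.mk ((Γf R W).obj (∐ F))
      (fun i => (Γf R W).map (Sigma.ι F i)))) := by
  classical
  have hφ : Function.Bijective (φ F W) := ⟨φ_injective F W, φ_surjective F W hW⟩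
  obtain ⟨E, hE⟩ : ∃ E : (⨁ i, ((Γf R W).obj (F i) : Type u)) ≃+ ((Γf R W).obj (∐ F) : Type u),
      ∀ x, E x = φ F W x := ⟨AddEquiv.ofBijective (φ F W) hφ, fun _ => rfl⟩
  refine ⟨Cofan.IsColimit.mk _ (fun s => AddCommGrpCat.ofHom
    ((DirectSum.toAddMonoid (fun i => (s.inj i).hom)).comp E.symm.toAddMonoidHom)) ?_ ?_⟩
  · intro s i
    apply AddCommGrpCat.ext
    intro a
    show (DirectSum.toAddMonoid (fun i => (s.inj i).hom))
      (E.symm (((Γf R W).map (Sigma.ι F i)).hom a)) = (s.inj i).hom a
    have h1 : E.symm (((Γf R W).map (Sigma.ι F i)).hom a) =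
        DirectSum.of (fun i => ((Γf R W).obj (F i) : Type u)) i a := by
      rw [AddEquiv.symm_apply_eq, hE]
      exact (φ_of F W i a).symm
    rw [h1, DirectSum.toAddMonoid_of]
  · intro s m hm
    apply AddCommGrpCat.ext
    intro z
    obtain ⟨d, rfl⟩ := hφ.2 z
    show m.hom (φ F W d) = (DirectSum.toAddMonoid (fun i => (s.inj i).hom))
      (E.symm (φ F W d))
    have h1 : E.symm (φ F W d) = d := by
      rw [AddEquiv.symm_apply_eq, hE]
    rw [h1]
    have h2 : m.hom.comp (φ F W) = DirectSum.toAddMonoid (fun i => (s.inj i).hom) := by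
      apply DirectSum.addHom_ext
      intro i a
      rw [AddMonoidHom.comp_apply, φ_of, DirectSum.toAddMonoid_of]
      exact congrArg (fun k => k.hom a) (hm i)
    exact DFunLike.congr_fun h2 d

theorem preservesCoproduct (hW : CohCx.IsQcObject (hSh J W)) :
    PreservesColimit (Discrete.functor F) (Γf R W) := by
  obtain ⟨h⟩ := nonempty_isColimit F W hW
  exact preservesColimit_of_preserves_colimit_cocone (coproductIsCoproduct F)
    ((isColimitMapCoconeCofanMkEquiv (Γf R W) F (Sigma.ι F)).symm h)

/-- **S9102**. -/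
theorem preservesColimitsOfShape_sections (W : C) (hW : CohCx.IsQcObject (hSh J W))
    (ι : Type u) [HasColimitsOfShape (Discrete ι) (SheafOfModules.{u} R)] :
    PreservesColimitsOfShape (Discrete ι) (Γf R W) := by
  constructor
  intro K
  haveI := preservesCoproduct (K.obj ∘ Discrete.mk) W hW
  exact preservesColimit_of_iso_diagram (Γf R W) (Discrete.natIsoFunctor (F := K)).symm

end Sections

section FreeOn
variable (O : Sheaf J CommRingCat.{u}) (U : C)

lemma freeOnEquiv_eq (M : ModSite.Mod O) (ψ : ModSite.freeOn O U ⟶ M) :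
    EZ.freeOnEquiv O U M ψ =
      evAt _ _ U ψ (EZ.freeOnEquiv O U (ModSite.freeOn O U) (𝟙 _)) := by
  have h := EZ.freeOnEquiv_comp O U (𝟙 (ModSite.freeOn O U)) ψ
  rw [Category.id_comp] at h
  exact h

/-- `Hom(j_! O, M) ≃+ M(U)`. -/
noncomputable def freeOnAddEquiv (M : ModSite.Mod O) :
    (ModSite.freeOn O U ⟶ M) ≃+ M.val.obj (op U) :=
  { EZ.freeOnEquiv O U M with
    map_add' := fun ψ ψ' => by
      show EZ.freeOnEquiv O U M (ψ + ψ') = EZ.freeOnEquiv O U M ψ + EZ.freeOnEquiv O U M ψ'
      rw [freeOnEquiv_eq, freeOnEquiv_eq O U M ψ, freeOnEquiv_eq O U M ψ', map_add,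
        LinearMap.add_apply] }

/-- `Hom(j_! O, -) ≅ Γ(U, -)`. -/
noncomputable def coyonedaFreeOnIso :
    preadditiveCoyoneda.obj (op (ModSite.freeOn O U)) ≅ Γf (ModSite.ringSh O) U :=
  NatIso.ofComponents (fun M => (freeOnAddEquiv O U M).toAddCommGrpIso)
    (fun {M M'} g => by
      apply AddCommGrpCat.ext
      intro ψ
      exact EZ.freeOnEquiv_comp O U ψ g)

/-- **S9103**. -/
theorem preservesColimitsOfShape_coyoneda_freeOn
    (hU : CohCx.IsQcObject ((presheafToSheaf J (Type u)).obj (yoneda.obj U))) (ι : Type u) :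
    PreservesColimitsOfShape (Discrete ι)
      (preadditiveCoyoneda.obj (op (ModSite.freeOn O U))) := by
  haveI := preservesColimitsOfShape_sections (R := ModSite.ringSh O) U hU ι
  exact preservesColimitsOfShape_of_natIso (coyonedaFreeOnIso O U).symm

end FreeOn

end Groth.Agent.LD.RSp.SC
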