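import Groth.Agent.Lib.Lead.RSp.FPKer

/-! # Modules on a ringed space: separatedness, monomorphisms, local bases of locally free
modules; a surjection between finite locally free modules of the same rank is injective. -/

universe u
open CategoryTheory Limits Opposite TopologicalSpace

namespace Groth.Agent.LD.RSp

section GenSite
variable {C : Type u} [SmallCategory C] {J : GrothendieckTopology C} {R : Sheaf J RingCat.{u}}

/-- a morphism of sheaves of modules which is injective on sections is a monomorphism. -/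
theorem mono_of_injective {M N : SheafOfModules.{u} R} (φ : M ⟶ N)
    (h : ∀ U : C, Function.Injective (φ.val.app (op U))) : Mono φ := by
  constructor
  intro P g₁ g₂ hg
  apply SheafOfModules.hom_ext
  apply PresheafOfModules.hom_ext
  intro Y
  apply ModuleCat.hom_ext
  apply LinearMap.ext
  intro z
  apply h Y.unop
  have h1 : (g₁ ≫ φ).val.app Y z = (g₂ ≫ φ).val.app Y z := by rw [hg]
  exact h1

/-- the sieve of arrows along which two sections agree. -/
def eqSieve (M : SheafOfModules.{u} R) {U : C} (t t' : M.val.obj (op U)) : Sieve U where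
  arrows V g := rs M g t = rs M g t'
  downward_closed := by
    intro V W g hg h
    change rs M (h ≫ g) t = rs M (h ≫ g) t'
    rw [← rs_rs, ← rs_rs, hg]

/-- sections agreeing on a covering sieve are equal. -/
theorem eq_of_eqSieve_mem (M : SheafOfModules.{u} R) {U : C} (t t' : M.val.obj (op U))
    (h : eqSieve M t t' ∈ J U) : t = t' := by
  refine M.isSheaf.isSeparated U (eqSieve M t t') h t t' ?_
  intro V g hg
  exact hg

lemma evAt_hom_inv {M N : SheafOfModules.{u} R} (α : M ≅ N) (U : C) (z : M.val.obj (op U)) :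
    evAt N M U α.inv (evAt M N U α.hom z) = z := by
  rw [← evAt_comp, α.hom_inv_id, evAt_id]

lemma evAt_inv_hom {M N : SheafOfModules.{u} R} (α : M ≅ N) (U : C) (z : N.val.obj (op U)) :
    evAt M N U α.hom (evAt N M U α.inv z) = z := by
  rw [← evAt_comp, α.inv_hom_id, evAt_id]

/-- the combination map of a finite free module is bijective. -/
lemma comb_bas_bijective (R : Sheaf J RingCat.{u}) (ι : Type u) [Fintype ι] [DecidableEq ι]
    (U : C) :
    Function.Bijective (fun c : ι → R.obj.obj (op U) => ∑ i, c i • bas R ι i U) := by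
  refine Function.bijective_iff_has_inverse.mpr ⟨fun z i => coord R ι i U z, ?_, ?_⟩
  · intro c
    funext i
    exact coord_sum_bas R ι U c i
  · intro z
    exact (eq_sum_coord_bas R ι U z).symm

/-- an isomorphism of `M.over U` with a finite free module gives sections over `U` which form
a basis over every object above `U`. -/
theorem exists_basis_of_iso_free (M : SheafOfModules.{u} R) (U : C) {ι : Type u} [Fintype ι]
    [DecidableEq ι] (α : M.over U ≅ SheafOfModules.free (R := R.over U) ι) :
    ∃ e : ι → M.val.obj (op U), ∀ {V : C} (f : V ⟶ U),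
      Function.Bijective (fun c : ι → R.obj.obj (op V) => ∑ i, c i • rs M f (e i)) := by
  let T : Over U := Over.mk (𝟙 U)
  let e : ι → M.val.obj (op U) := fun i => evAt _ _ T α.inv (bas (R.over U) ι i T)
  refine ⟨e, ?_⟩
  intro V f
  let Y : Over U := Over.mk f
  let g : Y ⟶ T := Over.homMk f (by simp [Y, T])
  have h1 : ∀ i, rs M f (e i) = evAt _ _ Y α.inv (bas (R.over U) ι i Y) := by
    intro i
    rw [← rs_bas (R.over U) ι i g]
    exact (app_rs α.inv g (bas (R.over U) ι i T)).symm
  have hb := comb_bas_bijective (R.over U) ι Y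
  have hα : Function.Bijective (evAt _ _ Y α.inv) :=
    Function.bijective_iff_has_inverse.mpr
      ⟨evAt _ _ Y α.hom, fun z => evAt_inv_hom α Y z, fun z => evAt_hom_inv α Y z⟩
  have hcomp : Function.Bijective (fun c : ι → (R.over U).obj.obj (op Y) =>
      ∑ i, c i • evAt _ _ Y α.inv (bas (R.over U) ι i Y)) := by
    have h2 : (fun c : ι → (R.over U).obj.obj (op Y) =>
        ∑ i, c i • evAt _ _ Y α.inv (bas (R.over U) ι i Y)) =
        (evAt _ _ Y α.inv) ∘
          (fun c : ι → (R.over U).obj.obj (op Y) => ∑ i, c i • bas (R.over U) ι i Y) := by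
      funext c
      rw [Function.comp_apply, map_sum]
      refine Finset.sum_congr rfl fun i _ => ?_
      rw [map_smul]
    rw [h2]
    exact hα.comp hb
  simp only [h1]
  exact hcomp

end GenSite

/-- over a commutative ring, a left inverse of a square matrix (given as a function) is a
right inverse. -/
lemma sum_mul_comm_of_eq_one {S : Type*} [CommRing S] {ι : Type*} [Fintype ι] [DecidableEq ι]
    (A B : ι → ι → S) (h : ∀ j k, ∑ i, B j i * A i k = if j = k then 1 else 0) :
    ∀ i l, ∑ k, A i k * B k l = if i = l then 1 else 0 := by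
  have h1 : (Matrix.of B) * (Matrix.of A) = 1 := by
    ext j k
    rw [Matrix.mul_apply, Matrix.one_apply]
    exact h j k
  have h2 := mul_eq_one_comm.mp h1
  intro i l
  have h3 := congrFun (congrFun h2 i) l
  rw [Matrix.mul_apply, Matrix.one_apply] at h3
  exact h3

section TopBasis
variable {X : TopCat.{u}} {O : TopCat.Sheaf CommRingCat.{u} X}

/-- sections agreeing locally are equal. -/
theorem eq_of_locally (F : ModSite.Mod O) (V : Opens X) (t t' : ModSite.sect F V)
    (h : ∀ x : X, x ∈ V → ∃ (W : Opens X) (hW : W ≤ V), x ∈ W ∧ res F hW t = res F hW t') :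
    t = t' := by
  apply eq_of_eqSieve_mem F t t'
  intro x hx
  obtain ⟨W, hW, hxW, h1⟩ := h x hx
  exact ⟨W, homOfLE hW, h1, hxW⟩

/-- the sections `e` over `U` form a basis of `F` over every smaller open. -/
def IsLocBasis (F : ModSite.Mod O) (U : Opens X) {ι : Type u} [Fintype ι]
    (e : ι → ModSite.sect F U) : Prop :=
  ∀ (V : Opens X) (hV : V ≤ U), Function.Bijective
    (fun c : ι → (ModSite.ringSh O).obj.obj (op V) => ∑ i, c i • res F hV (e i))

/-- a trivialisation of `F` over `U` gives a local basis. -/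
theorem exists_isLocBasis (F : ModSite.Mod O) (U : Opens X) {ι : Type u} [Fintype ι]
    [DecidableEq ι] (h : Nonempty ((ModSite.restr O U).obj F ≅ SheafOfModules.free ι)) :
    ∃ e : ι → ModSite.sect F U, IsLocBasis F U e := by
  obtain ⟨α⟩ := h
  have α' : SheafOfModules.over F U ≅
      SheafOfModules.free (R := (ModSite.ringSh O).over U) ι := α
  obtain ⟨e, he⟩ := exists_basis_of_iso_free F U α'
  exact ⟨e, fun V hV => he (homOfLE hV)⟩

/-- an epimorphism between modules with local bases of the same finite cardinality is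
injective on sections near every point. -/
theorem exists_nbhd_injective {F G : ModSite.Mod O} (φ : F ⟶ G) [Epi φ] {ι : Type u}
    [Fintype ι] [DecidableEq ι] {U₁ U₂ : Opens X} (e : ι → ModSite.sect F U₁)
    (he : IsLocBasis F U₁ e) (e' : ι → ModSite.sect G U₂) (he' : IsLocBasis G U₂ e') (x : X)
    (hx₁ : x ∈ U₁) (hx₂ : x ∈ U₂) :
    ∃ W : Opens X, x ∈ W ∧ ∀ (W' : Opens X) (_ : W' ≤ W) (t : ModSite.sect F W'),
      φ.val.app (op W') t = 0 → t = 0 := by
  have hA₀ : ∀ i, ∃ a : ι → (ModSite.ringSh O).obj.obj (op (U₁ ⊓ U₂)),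
      φ.val.app (op (U₁ ⊓ U₂)) (res F inf_le_left (e i)) =
        ∑ k, a k • res G inf_le_right (e' k) := by
    intro i
    obtain ⟨a, ha⟩ := (he' (U₁ ⊓ U₂) inf_le_right).2
      (φ.val.app (op (U₁ ⊓ U₂)) (res F inf_le_left (e i)))
    exact ⟨a, ha.symm⟩
  choose a₀ ha₀ using hA₀
  obtain ⟨W, hW, hxW, b, hb⟩ :=
    exists_lift_fin φ (U₁ ⊓ U₂) (fun k => res G inf_le_right (e' k)) x ⟨hx₁, hx₂⟩
  have hW₁ : W ≤ U₁ := hW.trans inf_le_left
  have hW₂ : W ≤ U₂ := hW.trans inf_le_right
  have hB₀ : ∀ j, ∃ c : ι → (ModSite.ringSh O).obj.obj (op W),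
      b j = ∑ i, c i • res F hW₁ (e i) := by
    intro j
    obtain ⟨c, hc⟩ := (he W hW₁).2 (b j)
    exact ⟨c, hc.symm⟩
  choose B hB using hB₀
  let A : ι → ι → (ModSite.ringSh O).obj.obj (op W) := fun i k => rr O hW (a₀ i k)
  have hA : ∀ i, φ.val.app (op W) (res F hW₁ (e i)) = ∑ k, A i k • res G hW₂ (e' k) := by
    intro i
    rw [← res_res F inf_le_left hW, app_res, ha₀ i, res_sum]
    refine Finset.sum_congr rfl fun k _ => ?_
    rw [res_smul, res_res]
  have hBA : ∀ j k, ∑ i, B j i * A i k = if j = k then 1 else 0 := by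
    intro j
    have h2 : φ.val.app (op W) (b j) = res G hW₂ (e' j) :=
      (hb j).trans (res_res G inf_le_right hW (e' j))
    rw [hB j, map_sum] at h2
    simp only [map_smul, hA, Finset.smul_sum, smul_smul] at h2
    rw [Finset.sum_comm] at h2
    have h1 : ∑ k, (∑ i, B j i * A i k) • res G hW₂ (e' k) =
        ∑ k, (if j = k then (1 : (ModSite.ringSh O).obj.obj (op W)) else 0) •
          res G hW₂ (e' k) := by
      simp only [Finset.sum_smul]
      rw [h2]
      simp only [ite_smul, one_smul, zero_smul, Finset.sum_ite_eq, Finset.mem_univ, if_true]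
    have h3 := @(he' W hW₂).1 (fun k => ∑ i, B j i * A i k)
      (fun k => if j = k then (1 : (ModSite.ringSh O).obj.obj (op W)) else 0) h1
    exact fun k => congrFun h3 k
  let A' : ι → ι → ↑(O.obj.obj (op W)) := A
  let B' : ι → ι → ↑(O.obj.obj (op W)) := B
  have hBA' : ∀ j k, ∑ i, B' j i * A' i k = if j = k then 1 else 0 := hBA
  have hAB' := sum_mul_comm_of_eq_one A' B' hBA'
  have hAB : ∀ i l, ∑ k, A i k * B k l = if i = l then 1 else 0 := hAB'
  refine ⟨W, hxW, ?_⟩
  intro W' hW' t ht
  obtain ⟨c, hc⟩ := (he W' (hW'.trans hW₁)).2 t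
  have hc' : t = ∑ i, c i • res F (hW'.trans hW₁) (e i) := hc.symm
  have hA' : ∀ i, φ.val.app (op W') (res F (hW'.trans hW₁) (e i)) =
      ∑ k, rr O hW' (A i k) • res G (hW'.trans hW₂) (e' k) := by
    intro i
    rw [← res_res F hW₁ hW', app_res, hA i, res_sum]
    refine Finset.sum_congr rfl fun k _ => ?_
    rw [res_smul, res_res]
  have h4 : ∑ k, (∑ i, c i * rr O hW' (A i k)) • res G (hW'.trans hW₂) (e' k) =
      ∑ k, (0 : (ModSite.ringSh O).obj.obj (op W')) • res G (hW'.trans hW₂) (e' k) := by
    rw [hc', map_sum] at ht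
    simp only [map_smul, hA', Finset.smul_sum, smul_smul] at ht
    rw [Finset.sum_comm] at ht
    simp only [Finset.sum_smul, zero_smul, Finset.sum_const_zero]
    exact ht
  have h5 := @(he' W' (hW'.trans hW₂)).1 (fun k => ∑ i, c i * rr O hW' (A i k))
    (fun _ => (0 : (ModSite.ringSh O).obj.obj (op W'))) h4
  have h6 : ∀ k, ∑ i, c i * rr O hW' (A i k) = 0 := fun k => congrFun h5 k
  have h7 : ∀ l, c l = 0 := by
    intro l
    have h8 : ∀ i, ∑ k, rr O hW' (A i k) * rr O hW' (B k l) = if i = l then 1 else 0 := by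
      intro i
      have h9 := congrArg (rr O hW') (hAB i l)
      rw [map_sum] at h9
      simp only [map_mul] at h9
      rw [h9]
      split_ifs
      · exact map_one _
      · exact map_zero _
    calc c l = ∑ i, c i * (if i = l then 1 else 0) := by
          simp only [mul_ite, mul_one, mul_zero, Finset.sum_ite_eq', Finset.mem_univ, if_true]
      _ = ∑ i, c i * ∑ k, rr O hW' (A i k) * rr O hW' (B k l) := by
          refine Finset.sum_congr rfl fun i _ => ?_
          rw [h8 i]
      _ = ∑ k, (∑ i, c i * rr O hW' (A i k)) * rr O hW' (B k l) := by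
          simp only [Finset.mul_sum, Finset.sum_mul, mul_assoc]
          rw [Finset.sum_comm]
      _ = 0 := by
          simp only [h6, zero_mul, Finset.sum_const_zero]
  rw [hc']
  simp only [h7, zero_smul, Finset.sum_const_zero]

/-- an epimorphism between modules with local bases of the same finite cardinality is a
monomorphism. -/
theorem mono_of_epi_of_locBasis {F G : ModSite.Mod O} (φ : F ⟶ G) [Epi φ] {ι : Type u}
    [Fintype ι] [DecidableEq ι]
    (hF : ∀ x : X, ∃ U : Opens X, x ∈ U ∧ ∃ e : ι → ModSite.sect F U, IsLocBasis F U e)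
    (hG : ∀ x : X, ∃ U : Opens X, x ∈ U ∧ ∃ e : ι → ModSite.sect G U, IsLocBasis G U e) :
    Mono φ := by
  have key : ∀ (V : Opens X) (t : ModSite.sect F V), φ.val.app (op V) t = 0 → t = 0 := by
    intro V t ht
    apply eq_of_locally F V t 0
    intro x hx
    obtain ⟨U₁, hx₁, e, he⟩ := hF x
    obtain ⟨U₂, hx₂, e', he'⟩ := hG x
    obtain ⟨W, hxW, hW⟩ := exists_nbhd_injective φ e he e' he' x hx₁ hx₂
    refine ⟨V ⊓ W, inf_le_left, ⟨hx, hxW⟩, ?_⟩
    rw [res_zero]
    apply hW (V ⊓ W) inf_le_right
    rw [app_res, ht, res_zero]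
  apply mono_of_injective
  intro V t t' htt'
  have h1 : φ.val.app (op V) (t - t') = 0 := by
    rw [map_sub, htt', sub_self]
  exact sub_eq_zero.mp (key V (t - t') h1)

end TopBasis

end Groth.Agent.LD.RSp
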