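import Groth.Agent.Lib.Lead.RSp.SubSh

/-! # Modules on a ringed space generated over an open by an arbitrary family of sections. -/

universe u
open CategoryTheory Limits Opposite TopologicalSpace

namespace Groth.Agent.LD.RSp

variable {X : TopCat.{u}} {O : TopCat.Sheaf CommRingCat.{u} X}

/-- a section killed by the cokernel projection of a subsheaf lies in the subsheaf. -/
theorem SubSh.mem_of_π_eq_zero {F : ModSite.Mod O} (S : SubSh F) (W : Opens X)
    (t : ModSite.sect F W) (h : (cokernel.π S.ι).val.app (op W) t = 0) : t ∈ S.N W := by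
  obtain ⟨a, ha⟩ := exists_of_exact
    (S := ShortComplex.mk S.ι (cokernel.π S.ι) (cokernel.condition _))
    (ShortComplex.exact_of_g_is_cokernel _ (cokernelIsCokernel _)) W t h
  exact (S.mem_iff W t).mpr ⟨a, ha⟩

/-- a subsheaf whose cokernel projection vanishes is everything. -/
theorem SubSh.mem_of_π_eq_zero' {F : ModSite.Mod O} (S : SubSh F) (h : cokernel.π S.ι = 0)
    (W : Opens X) (t : ModSite.sect F W) : t ∈ S.N W := by
  apply S.mem_of_π_eq_zero W t
  rw [h]
  rfl

/-- the sections `s` (an arbitrary family) generate `F` over `U`: every section over a smaller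
open lies locally in their span. -/
def LocSpan (F : ModSite.Mod O) (U : Opens X) {ι : Type u} (s : ι → ModSite.sect F U) : Prop :=
  ∀ (V : Opens X) (hV : V ≤ U) (t : ModSite.sect F V) (x : X), x ∈ V →
    ∃ (W : Opens X) (hW : W ≤ V), x ∈ W ∧
      res F hW t ∈ Submodule.span ((ModSite.ringSh O).obj.obj (op W))
        (Set.range fun i => res F (hW.trans hV) (s i))

lemma res_mem_span (F : ModSite.Mod O) {U W W' : Opens X} (hU : W ≤ U) (h : W' ≤ W)
    {ι : Type*} (s : ι → ModSite.sect F U) (t : ModSite.sect F W)
    (ht : t ∈ Submodule.span ((ModSite.ringSh O).obj.obj (op W))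
      (Set.range fun j => res F hU (s j))) :
    res F h t ∈ Submodule.span ((ModSite.ringSh O).obj.obj (op W'))
      (Set.range fun j => res F (h.trans hU) (s j)) := by
  induction ht using Submodule.span_induction with
  | mem x hx =>
    obtain ⟨j, rfl⟩ := hx
    change res F h (res F hU (s j)) ∈ _
    rw [res_res]
    exact Submodule.subset_span ⟨j, rfl⟩
  | zero =>
    rw [res_zero]
    exact Submodule.zero_mem _
  | add x y _ _ hx hy =>
    rw [res_add]
    exact Submodule.add_mem _ hx hy
  | smul a x _ hx =>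
    rw [res_smul]
    exact Submodule.smul_mem _ _ hx

/-- sections whose restriction to `W ⊓ U` lies in the span of the `s j`. -/
def spanOn (F : ModSite.Mod O) (U : Opens X) {ι : Type u} (s : ι → ModSite.sect F U)
    (W : Opens X) : Submodule ((ModSite.ringSh O).obj.obj (op W)) (ModSite.sect F W) where
  carrier := {t | res F (inf_le_left : W ⊓ U ≤ W) t ∈
    Submodule.span ((ModSite.ringSh O).obj.obj (op (W ⊓ U)))
      (Set.range fun j => res F (inf_le_right : W ⊓ U ≤ U) (s j))}
  zero_mem' := by
    rw [Set.mem_setOf_eq, res_zero]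
    exact Submodule.zero_mem _
  add_mem' := by
    intro a b ha hb
    rw [Set.mem_setOf_eq] at ha hb ⊢
    rw [res_add]
    exact Submodule.add_mem _ ha hb
  smul_mem' := by
    intro r a ha
    rw [Set.mem_setOf_eq] at ha ⊢
    rw [res_smul]
    exact Submodule.smul_mem _ _ ha

lemma mem_spanOn (F : ModSite.Mod O) (U : Opens X) {ι : Type u} (s : ι → ModSite.sect F U)
    (W : Opens X) (t : ModSite.sect F W) :
    t ∈ spanOn F U s W ↔ res F (inf_le_left : W ⊓ U ≤ W) t ∈
      Submodule.span ((ModSite.ringSh O).obj.obj (op (W ⊓ U)))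
        (Set.range fun j => res F (inf_le_right : W ⊓ U ≤ U) (s j)) := Iff.rfl

lemma spanOn_res (F : ModSite.Mod O) (U : Opens X) {ι : Type u} (s : ι → ModSite.sect F U)
    {W W' : Opens X} (h : W' ≤ W) (t : ModSite.sect F W) (ht : t ∈ spanOn F U s W) :
    res F h t ∈ spanOn F U s W' := by
  rw [mem_spanOn] at ht ⊢
  have h1 : W' ⊓ U ≤ W ⊓ U := inf_le_inf_right U h
  have h2 := res_mem_span F (inf_le_right : W ⊓ U ≤ U) h1 s (res F inf_le_left t) ht
  rw [res_res] at h2 ⊢
  exact h2

/-- generating sections of `F.over U` (an arbitrary family) generate in the sense of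
`LocSpan`. -/
theorem locSpan_of_epi (F : ModSite.Mod O) (U : Opens X) {ι : Type u}
    (σ : ι → (SheafOfModules.over F U).sections)
    (hσ : Epi ((SheafOfModules.over F U).freeHomEquiv.symm σ)) :
    LocSpan F U (fun j => evalId F U (σ j)) := by
  let s : ι → ModSite.sect F U := fun j => evalId F U (σ j)
  let N := SubSh.ofLocal F (spanOn F U s) (fun h t ht => spanOn_res F U s h t ht)
  let q := cokernel.π N.ι
  let qU := (SheafOfModules.overFunctor (ModSite.ringSh O) U).map q
  have hmem : ∀ (W : Opens X) (hW : W ≤ U) (j : ι), res F hW (s j) ∈ N.N W := by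
    intro W hW j x hx
    refine ⟨W, le_rfl, hx, ?_⟩
    rw [mem_spanOn, res_res, res_res]
    exact Submodule.subset_span ⟨j, rfl⟩
  have hq : ∀ (W : Opens X) (hW : W ≤ U) (j : ι),
      q.val.app (op W) (res F hW (s j)) = 0 := by
    intro W hW j
    obtain ⟨a, ha⟩ := (N.mem_iff W _).mp (hmem W hW j)
    rw [← ha]
    change (N.ι ≫ q).val.app (op W) a = 0
    rw [cokernel.condition]
    rfl
  have h0 : ∀ i, SheafOfModules.sectionsMap qU (σ i) =
      SheafOfModules.sectionsMap (0 : SheafOfModules.over F U ⟶ _) (σ i) := by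
    intro i
    apply Subtype.ext
    funext Y
    have h1 := congrArg (fun τ : (SheafOfModules.over F U).sections => τ.val Y)
      (secOver_evalId F U (σ i)).symm
    have h2 : qU.val.app Y ((σ i).val Y) = qU.val.app Y ((secOver F U (s i)).val Y) :=
      congrArg (fun z => qU.val.app Y z) h1
    exact h2.trans (hq Y.unop.left (leOfHom Y.unop.hom) i)
  have hzero : (SheafOfModules.over F U).freeHomEquiv.symm σ ≫ qU = 0 := by
    rw [SheafOfModules.freeHomEquiv_symm_comp, funext h0,
      ← SheafOfModules.freeHomEquiv_symm_comp, comp_zero]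
  have hqU : qU = 0 := zero_of_epi_comp _ hzero
  intro V hV t x hx
  have h3 : q.val.app (op V) t = 0 := by
    have h4 : qU.val.app (op (Over.mk (homOfLE hV)))
        (show (SheafOfModules.over F U).val.obj (op (Over.mk (homOfLE hV))) from t) = 0 := by
      rw [hqU]
      rfl
    exact h4
  have h5 : t ∈ N.N V := N.mem_of_π_eq_zero V t h3
  obtain ⟨W', hW', hxW', h6⟩ := h5 x hx
  refine ⟨W' ⊓ U, inf_le_left.trans hW', ⟨hxW', hV hx⟩, ?_⟩
  have h7 : res F (inf_le_left : W' ⊓ U ≤ W') (res F hW' t) ∈
      Submodule.span ((ModSite.ringSh O).obj.obj (op (W' ⊓ U)))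
        (Set.range fun j => res F (inf_le_right : W' ⊓ U ≤ U) (s j)) := h6
  rw [res_res] at h7
  exact h7

/-- conversely, a family generating in the sense of `LocSpan` gives an epimorphism from a free
module on the slice. -/
theorem epi_of_locSpan (F : ModSite.Mod O) (U : Opens X) {ι : Type u}
    (s : ι → ModSite.sect F U) (h : LocSpan F U s) :
    Epi ((SheafOfModules.over F U).freeHomEquiv.symm (fun j => secOver F U (s j))) := by
  apply epi_of_exists_sieve (J := (Opens.grothendieckTopology X).over U)
    (R := (ModSite.ringSh O).over U)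
  intro Y t
  let π := (SheafOfModules.over F U).freeHomEquiv.symm (fun j => secOver F U (s j))
  refine ⟨Presheaf.imageSieve ((PresheafOfModules.toPresheaf _).map π.val) t, ?_, ?_⟩
  · rw [GrothendieckTopology.mem_over_iff]
    intro x hx
    obtain ⟨W, hW, hxW, hmem⟩ := h Y.left (leOfHom Y.hom) t x hx
    refine ⟨W, homOfLE hW, ?_, hxW⟩
    rw [Sieve.overEquiv_iff]
    let Z : Over U := Over.mk (homOfLE hW ≫ Y.hom)
    have hle : Submodule.span (((ModSite.ringSh O).over U).obj.obj (op Z))
        (Set.range fun j => PresheafOfModules.sections.eval (secOver F U (s j)) (op Z)) ≤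
        LinearMap.range (evAt _ _ Z π) := by
      rw [Submodule.span_le]
      rintro _ ⟨j, rfl⟩
      exact ⟨evAt _ _ Z (SheafOfModules.ιFree j) (1 : ((ModSite.ringSh O).over U).obj.obj (op Z)),
        freeHom_apply_basis (R := (ModSite.ringSh O).over U) (SheafOfModules.over F U)
          (fun j => secOver F U (s j)) Z j⟩
    have hmem' : (show (SheafOfModules.over F U).val.obj (op Z) from res F hW t) ∈
        Submodule.span (((ModSite.ringSh O).over U).obj.obj (op Z))
          (Set.range fun j => PresheafOfModules.sections.eval (secOver F U (s j)) (op Z)) :=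
      hmem
    obtain ⟨m, hm⟩ := hle hmem'
    exact ⟨m, hm⟩
  · rintro Z g ⟨m, hm⟩
    exact ⟨m, hm⟩

end Groth.Agent.LD.RSp
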