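import Groth.Agent.Lib.Lead.RSp.DirColim
import Groth.Agent.Lib.Lead.RSp.LocSpan

/-! # Directed colimits of modules on a ringed space: a section of a stage dying in the colimit
dies locally at a later stage, and at a later stage over a quasi-compact open. -/

universe u
open CategoryTheory Limits Opposite TopologicalSpace

namespace Groth.Agent.LD.RSp

variable {X : TopCat.{u}} {O : TopCat.Sheaf CommRingCat.{u} X}

/-- sections in a subsheaf are killed by the cokernel projection. -/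
lemma SubSh.π_app_eq_zero {F : ModSite.Mod O} (S : SubSh F) (W : Opens X) (t : ModSite.sect F W)
    (ht : t ∈ S.N W) : (cokernel.π S.ι).val.app (op W) t = 0 := by
  obtain ⟨t', ht'⟩ := (S.mem_iff W t).mp ht
  have h1 : (cokernel.π S.ι).val.app (op W) (S.ι.val.app (op W) t') = 0 := by
    change (S.ι ≫ cokernel.π S.ι).val.app (op W) t' = 0
    rw [cokernel.condition]
    rfl
  rw [ht'] at h1
  exact h1

/-- a morphism with values in a subsheaf is killed by the cokernel projection. -/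
lemma SubSh.comp_π_eq_zero {G F : ModSite.Mod O} (φ : G ⟶ F) (S : SubSh F)
    (h : ∀ (W : Opens X) (t : ModSite.sect G W), φ.val.app (op W) t ∈ S.N W) :
    φ ≫ cokernel.π S.ι = 0 := by
  apply SheafOfModules.hom_ext
  apply PresheafOfModules.hom_ext
  intro Y
  obtain ⟨V⟩ := Y
  apply ModuleCat.hom_ext
  apply LinearMap.ext
  intro t
  exact S.π_app_eq_zero V _ (h V t)

section Directed
variable {I : Type u} [Preorder I] [Nonempty I] [IsDirected I (· ≤ ·)]
  (D : I ⥤ ModSite.Mod O)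

/-- the transition maps on sections. -/
noncomputable def tr {i k : I} (h : i ≤ k) (W : Opens X) :
    ModSite.sect (D.obj i) W →ₗ[(ModSite.ringSh O).obj.obj (op W)] ModSite.sect (D.obj k) W :=
  evAt _ _ W (D.map (homOfLE h))

lemma tr_tr {i k l : I} (h₁ : i ≤ k) (h₂ : k ≤ l) (W : Opens X)
    (s : ModSite.sect (D.obj i) W) : tr D h₂ W (tr D h₁ W s) = tr D (h₁.trans h₂) W s := by
  have e : D.map (homOfLE (h₁.trans h₂)) = D.map (homOfLE h₁) ≫ D.map (homOfLE h₂) := by
    rw [← D.map_comp]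
    rfl
  change evAt _ _ W (D.map (homOfLE h₂)) (evAt _ _ W (D.map (homOfLE h₁)) s) =
    evAt _ _ W (D.map (homOfLE (h₁.trans h₂))) s
  rw [e, evAt_comp]

lemma tr_res {i k : I} (h : i ≤ k) {W W' : Opens X} (hW : W' ≤ W)
    (s : ModSite.sect (D.obj i) W) :
    tr D h W' (res (D.obj i) hW s) = res (D.obj k) hW (tr D h W s) :=
  app_res (D.map (homOfLE h)) hW s

lemma leg_tr (c : Cocone D) {i k : I} (h : i ≤ k) (W : Opens X) (s : ModSite.sect (D.obj i) W) :
    (leg c k).val.app (op W) (tr D h W s) = (leg c i).val.app (op W) s :=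
  leg_map c (homOfLE h) W s

/-- sections killed at a later stage. -/
noncomputable def killSubmodule (i : I) (W : Opens X) :
    Submodule ((ModSite.ringSh O).obj.obj (op W)) (ModSite.sect (D.obj i) W) where
  carrier := {s | ∃ (k : I) (h : i ≤ k), tr D h W s = 0}
  zero_mem' := ⟨i, le_rfl, map_zero _⟩
  add_mem' := by
    rintro s₁ s₂ ⟨k₁, h₁, e₁⟩ ⟨k₂, h₂, e₂⟩
    obtain ⟨k, hk₁, hk₂⟩ := exists_ge_ge k₁ k₂
    refine ⟨k, h₁.trans hk₁, ?_⟩
    have a₁ : tr D (h₁.trans hk₁) W s₁ = 0 := by rw [← tr_tr D h₁ hk₁, e₁, map_zero]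
    have a₂ : tr D (h₂.trans hk₂) W s₂ = 0 := by rw [← tr_tr D h₂ hk₂, e₂, map_zero]
    have a₂' : tr D (h₁.trans hk₁) W s₂ = 0 := a₂
    rw [map_add, a₁, a₂', add_zero]
  smul_mem' := by
    rintro r s ⟨k, h, e⟩
    exact ⟨k, h, by rw [map_smul, e, smul_zero]⟩

lemma killSubmodule_res (i : I) {W W' : Opens X} (h : W' ≤ W) (s : ModSite.sect (D.obj i) W)
    (hs : s ∈ killSubmodule D i W) : res (D.obj i) h s ∈ killSubmodule D i W' := by
  obtain ⟨k, hk, e⟩ := hs
  exact ⟨k, hk, by rw [tr_res, e, res_zero]⟩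

/-- the subsheaf of sections locally killed at a later stage. -/
noncomputable def killSub (i : I) : SubSh (D.obj i) :=
  SubSh.ofLocal (D.obj i) (killSubmodule D i) (fun h s hs => killSubmodule_res D i h s hs)

lemma mem_killSub_iff (i : I) (W : Opens X) (s : ModSite.sect (D.obj i) W) :
    s ∈ (killSub D i).N W ↔ ∀ x ∈ W, ∃ (W' : Opens X) (h : W' ≤ W), x ∈ W' ∧
      ∃ (k : I) (hk : i ≤ k), tr D hk W' (res (D.obj i) h s) = 0 := Iff.rfl

lemma tr_mem_killSub {i k : I} (h : i ≤ k) (W : Opens X) (s : ModSite.sect (D.obj i) W)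
    (hs : s ∈ (killSub D i).N W) : tr D h W s ∈ (killSub D k).N W := by
  rw [mem_killSub_iff] at hs ⊢
  intro x hx
  obtain ⟨W', hW', hxW', k', hk', e⟩ := hs x hx
  obtain ⟨l, hl₁, hl₂⟩ := exists_ge_ge k k'
  refine ⟨W', hW', hxW', l, hl₁, ?_⟩
  rw [← tr_res, tr_tr]
  have h2 : tr D (hk'.trans hl₂) W' (res (D.obj i) hW' s) = 0 := by
    rw [← tr_tr D hk' hl₂, e, map_zero]
  exact h2

lemma mem_killSub_of_tr {i k : I} (h : i ≤ k) (W : Opens X) (s : ModSite.sect (D.obj i) W)
    (hs : tr D h W s ∈ (killSub D k).N W) : s ∈ (killSub D i).N W := by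
  rw [mem_killSub_iff] at hs ⊢
  intro x hx
  obtain ⟨W', hW', hxW', k', hk', e⟩ := hs x hx
  refine ⟨W', hW', hxW', k', h.trans hk', ?_⟩
  rw [← tr_res, tr_tr] at e
  exact e

/-- the quotient by the sections locally killed at a later stage. -/
noncomputable def qπ (i : I) : D.obj i ⟶ cokernel (killSub D i).ι := cokernel.π _

instance (i : I) : Epi (qπ D i) := by
  unfold qπ
  infer_instance

lemma qπ_app_eq_zero_iff (i : I) (W : Opens X) (s : ModSite.sect (D.obj i) W) :
    (qπ D i).val.app (op W) s = 0 ↔ s ∈ (killSub D i).N W :=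
  ⟨fun h => (killSub D i).mem_of_π_eq_zero W s h, fun h => (killSub D i).π_app_eq_zero W s h⟩

lemma killSub_ι_tr_qπ {i k : I} (h : i ≤ k) :
    (killSub D i).ι ≫ D.map (homOfLE h) ≫ qπ D k = 0 := by
  rw [← Category.assoc]
  apply SubSh.comp_π_eq_zero
  intro W t
  have h1 : (killSub D i).ι.val.app (op W) t ∈ (killSub D i).N W :=
    ((killSub D i).mem_iff W _).mpr ⟨t, rfl⟩
  exact tr_mem_killSub D h W _ h1

/-- the transition maps of the quotients. -/
noncomputable def Qmap {i k : I} (h : i ≤ k) :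
    cokernel (killSub D i).ι ⟶ cokernel (killSub D k).ι :=
  cokernel.desc _ (D.map (homOfLE h) ≫ qπ D k) (killSub_ι_tr_qπ D h)

lemma qπ_Qmap {i k : I} (h : i ≤ k) : qπ D i ≫ Qmap D h = D.map (homOfLE h) ≫ qπ D k :=
  cokernel.π_desc _ _ _

lemma qπ_Qmap_assoc' {i k : I} (h : i ≤ k) {Z : ModSite.Mod O}
    (g : cokernel (killSub D k).ι ⟶ Z) :
    qπ D i ≫ Qmap D h ≫ g = D.map (homOfLE h) ≫ qπ D k ≫ g := by
  rw [← Category.assoc, qπ_Qmap, Category.assoc]

/-- the system of quotients. -/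
noncomputable def Qfun : I ⥤ ModSite.Mod O where
  obj i := cokernel (killSub D i).ι
  map f := Qmap D (leOfHom f)
  map_id i := by
    rw [← cancel_epi (qπ D i), qπ_Qmap, Category.comp_id]
    have h1 : homOfLE (leOfHom (𝟙 i)) = 𝟙 i := rfl
    rw [h1, D.map_id, Category.id_comp]
  map_comp {i j k} f g := by
    rw [← cancel_epi (qπ D i)]
    rw [qπ_Qmap, qπ_Qmap_assoc', qπ_Qmap, ← Category.assoc, ← D.map_comp]
    rfl

/-- the projection onto the system of quotients. -/
noncomputable def qNat : D ⟶ Qfun D where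
  app i := qπ D i
  naturality i k f := (qπ_Qmap D (leOfHom f)).symm

lemma Qmap_app_eq_zero {i k : I} (h : i ≤ k) (W : Opens X)
    (z : ModSite.sect (cokernel (killSub D i).ι) W)
    (hz : (Qmap D h).val.app (op W) z = 0) : z = 0 := by
  apply eq_of_locally _ W z 0
  intro x hx
  obtain ⟨W', hW', hxW', s, hs⟩ :=
    (epi_iff_forall_exists (qπ D i)).mp inferInstance W z x hx
  refine ⟨W', hW', hxW', ?_⟩
  rw [res_zero, ← hs, qπ_app_eq_zero_iff]
  apply mem_killSub_of_tr D h
  rw [← qπ_app_eq_zero_iff]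
  have h1 : (qπ D k).val.app (op W') (tr D h W' s) =
      (Qmap D h).val.app (op W') ((qπ D i).val.app (op W') s) := by
    have h2 := congrArg (fun φ => evAt _ _ W' φ s) (qπ_Qmap D h)
    exact h2.symm
  rw [h1, hs, app_res, hz, res_zero]

lemma mono_Qmap (i k : I) (f : i ⟶ k) : Mono ((Qfun D).map f) := by
  apply mono_of_injective
  intro W a b hab
  let a' : ModSite.sect (cokernel (killSub D i).ι) W := a
  let b' : ModSite.sect (cokernel (killSub D i).ι) W := b
  have h1 : evAt _ _ W (Qmap D (leOfHom f)) (a' - b') = 0 := by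
    rw [map_sub]
    exact sub_eq_zero.mpr hab
  have h2 : a' - b' = 0 := Qmap_app_eq_zero D (leOfHom f) W _ h1
  exact sub_eq_zero.mp h2

/-- a section of a stage dying in the colimit dies locally at a later stage. -/
theorem locKill_of_isColimit (c : Cocone D) (hc : IsColimit c) (i : I) (V : Opens X)
    (s : ModSite.sect (D.obj i) V) (hs : (leg c i).val.app (op V) s = 0) (x : X) (hx : x ∈ V) :
    ∃ (W : Opens X) (hW : W ≤ V), x ∈ W ∧
      ∃ (k : I) (hk : i ≤ k), tr D hk W (res (D.obj i) hW s) = 0 := by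
  let cQ := colimit.cocone (Qfun D)
  let c' : Cocone D := { pt := cQ.pt, ι := qNat D ≫ cQ.ι }
  let Θ : c.pt ⟶ cQ.pt := hc.desc c'
  have hΘ : leg c i ≫ Θ = qπ D i ≫ cQ.ι.app i := hc.fac c' i
  haveI : Mono (cQ.ι.app i) :=
    mono_leg_of_mono cQ (colimit.isColimit _) (mono_Qmap D) i
  have h1 : (cQ.ι.app i).val.app (op V) ((qπ D i).val.app (op V) s) = 0 := by
    have h2 := congrArg (fun φ => evAt _ _ V φ s) hΘ
    have h3 : evAt _ _ V (leg c i ≫ Θ) s = 0 := by
      rw [evAt_comp]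
      have h4 : evAt _ _ V (leg c i) s = 0 := hs
      rw [h4, map_zero]
    exact h2.symm.trans h3
  have h4 : (qπ D i).val.app (op V) s = 0 := by
    apply injective_of_mono (cQ.ι.app i) V
    exact h1.trans (map_zero (evAt _ _ V (cQ.ι.app i))).symm
  exact ((qπ_app_eq_zero_iff D i V s).mp h4) x hx

/-- over a quasi-compact open, a section of a stage dying in the colimit dies at a later
stage. -/
theorem exists_kill_of_isCompact (c : Cocone D) (hc : IsColimit c) (i : I) (V : Opens X)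
    (hV : IsCompact (V : Set X)) (s : ModSite.sect (D.obj i) V)
    (hs : (leg c i).val.app (op V) s = 0) : ∃ (k : I) (hk : i ≤ k), tr D hk V s = 0 := by
  classical
  choose W hW hxW k hk hk0 using
    fun (x : V) => locKill_of_isColimit D c hc i V s hs x.1 x.2
  obtain ⟨T, hT⟩ := hV.elim_finite_subcover (fun x : V => (W x : Set X))
    (fun x => (W x).isOpen) (fun y hy => Set.mem_iUnion.mpr ⟨⟨y, hy⟩, hxW ⟨y, hy⟩⟩)
  obtain ⟨k₀, hk₀⟩ := Finset.exists_le (T.image k)
  obtain ⟨k₁, hik₁, hk₀₁⟩ := exists_ge_ge i k₀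
  refine ⟨k₁, hik₁, ?_⟩
  apply eq_of_locally (D.obj k₁) V _ 0
  intro y hy
  obtain ⟨x, hxT, hyx⟩ : ∃ x ∈ T, y ∈ W x := by
    have h2 := hT hy
    simp only [Set.mem_iUnion, exists_prop] at h2
    exact h2
  refine ⟨W x, hW x, hyx, ?_⟩
  rw [res_zero, ← tr_res]
  have hkx : k x ≤ k₁ := (hk₀ (k x) (Finset.mem_image_of_mem k hxT)).trans hk₀₁
  have h3 : tr D ((hk x).trans hkx) (W x) (res (D.obj i) (hW x) s) = 0 := by
    rw [← tr_tr D (hk x) hkx, hk0 x, map_zero]
  exact h3

/-- over a quasi-compact open, two sections of a stage which agree in the colimit agree at a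
later stage. -/
theorem exists_eq_of_isCompact (c : Cocone D) (hc : IsColimit c) (i : I) (V : Opens X)
    (hV : IsCompact (V : Set X)) (s s' : ModSite.sect (D.obj i) V)
    (h : (leg c i).val.app (op V) s = (leg c i).val.app (op V) s') :
    ∃ (k : I) (hk : i ≤ k), tr D hk V s = tr D hk V s' := by
  obtain ⟨k, hk, e⟩ := exists_kill_of_isCompact D c hc i V hV (s - s')
    (by rw [map_sub, h, sub_self])
  refine ⟨k, hk, sub_eq_zero.mp ?_⟩
  rw [← map_sub]
  exact e

end Directed

end Groth.Agent.LD.RSp
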