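import Groth.Agent.Lib.Lead.RSp.StalkFree

/-! # A direct summand of a finite locally free module on a locally ringed space is finite
locally free. -/

universe u
open CategoryTheory Limits Opposite TopologicalSpace

namespace Groth.Agent.LD.RSp

/-- a retract `F` of `H` is the cokernel of the complementary idempotent. -/
noncomputable def summandIsoCokernel {A : Type*} [Category A] [Abelian A] {F H : A} (i : F ⟶ H)
    (p : H ⟶ F) (hip : i ≫ p = 𝟙 F) : cokernel (𝟙 H - p ≫ i) ≅ F where
  hom := cokernel.desc _ p (by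
    rw [Preadditive.sub_comp, Category.id_comp, Category.assoc, hip, Category.comp_id, sub_self])
  inv := i ≫ cokernel.π _
  hom_inv_id := by
    rw [← cancel_epi (cokernel.π (𝟙 H - p ≫ i)), cokernel.π_desc_assoc, Category.comp_id]
    have h := cokernel.condition (𝟙 H - p ≫ i)
    rw [Preadditive.sub_comp, Category.id_comp, Category.assoc, sub_eq_zero] at h
    exact h.symm
  inv_hom_id := by rw [Category.assoc, cokernel.π_desc, hip]

section Top
variable {X : TopCat.{u}} {O : TopCat.Sheaf CommRingCat.{u} X}

theorem LocSpan.locGen {F : ModSite.Mod O} {U : Opens X} {ι : Type u} [Fintype ι]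
    {s : ι → ModSite.sect F U} (h : LocSpan F U s) : LocGen F U s := by
  intro V hV t x hx
  obtain ⟨W, hW, hxW, a, ha⟩ := exists_fun_coeff F h V hV t x hx
  exact ⟨W, hW, hxW, a, ha.symm⟩

/-- a finite local frame has no relations. -/
theorem IsLocFrame.locRel {F : ModSite.Mod O} {U : Opens X} {ι : Type u} [Fintype ι]
    {e : ι → ModSite.sect F U} (he : IsLocFrame F U e) :
    LocRel F U e (fun (j : PEmpty.{u + 1}) (_ : ι) =>
      (j.elim : (ModSite.ringSh O).obj.obj (op U))) := by
  refine ⟨fun j => j.elim, ?_⟩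
  intro V hV c hc x hx
  refine ⟨V, le_rfl, hx, fun j => j.elim, fun i => ?_⟩
  have h1 := he.2 V hV Finset.univ c hc i (Finset.mem_univ i)
  rw [h1, map_zero, Finset.univ_eq_empty, Finset.sum_empty]

/-- a module with finite local frames is of finite presentation. -/
theorem isFinitePresentation_of_frames (F : ModSite.Mod O)
    (h : ∀ x : X, ∃ (U : Opens X) (n : ℕ), x ∈ U ∧
      Nonempty ((ModSite.restr O U).obj F ≅ SheafOfModules.free (ULift.{u} (Fin n)))) :
    SheafOfModules.IsFinitePresentation (R := ModSite.ringSh O) F := by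
  rw [isFinitePresentation_iff]
  intro y
  obtain ⟨U, n, hyU, hiso⟩ := h y
  obtain ⟨e, he⟩ := exists_isLocFrame F U hiso
  exact ⟨U, hyU, ULift.{u} (Fin n), PEmpty.{u + 1}, inferInstance, inferInstance, e, _,
    he.1.locGen, he.locRel⟩

/-- the comparison map from the stalk of the structure presheaf to the fibre at the point of
the site of opens. -/
noncomputable def stalkToFiber (O : TopCat.Sheaf CommRingCat.{u} X) (x : X) :
    O.presheaf.stalk x ⟶ ModSite.stalkRing (Opens.pointGrothendieckTopology x) O :=
  colimit.desc ((OpenNhds.inclusion x).op ⋙ O.presheaf)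
    { pt := ModSite.stalkRing (Opens.pointGrothendieckTopology x) O
      ι :=
        { app := fun U => (Opens.pointGrothendieckTopology x).toPresheafFiber U.unop.1
            (pt x U.unop.1 U.unop.2) O.obj
          naturality := fun U V f => by
            have h1 := (Opens.pointGrothendieckTopology x).toPresheafFiber_w
              ((OpenNhds.inclusion x).map f.unop) (pt x V.unop.1 V.unop.2) O.obj
            have h2 : (Opens.pointGrothendieckTopology x).fiber.map
                ((OpenNhds.inclusion x).map f.unop) (pt x V.unop.1 V.unop.2) =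
                pt x U.unop.1 U.unop.2 := Subsingleton.elim _ _
            rw [h2] at h1
            exact h1.trans (Category.comp_id _).symm } }

lemma stalkToFiber_germ (O : TopCat.Sheaf CommRingCat.{u} X) (x : X) (U : Opens X)
    (hxU : x ∈ U) (a : O.presheaf.obj (op U)) :
    (stalkToFiber O x).hom (O.presheaf.germ U x hxU a) = gmR O x U hxU a := by
  have h : O.presheaf.germ U x hxU ≫ stalkToFiber O x =
      (Opens.pointGrothendieckTopology x).toPresheafFiber U (pt x U hxU) O.obj :=
    colimit.ι_desc _ (op (⟨U, hxU⟩ : OpenNhds x))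
  exact congrArg (fun f => f.hom a) h

lemma stalkToFiber_surjective (O : TopCat.Sheaf CommRingCat.{u} X) (x : X) :
    Function.Surjective (stalkToFiber O x).hom := by
  intro γ
  obtain ⟨U, hxU, a, rfl⟩ := gmR_surj O x γ
  exact ⟨O.presheaf.germ U x hxU a, stalkToFiber_germ O x U hxU a⟩

lemma nontrivial_stalkRing (O : TopCat.Sheaf CommRingCat.{u} X) (x : X)
    (hO : Nontrivial (O.presheaf.stalk x)) :
    Nontrivial (ModSite.stalkRing (Opens.pointGrothendieckTopology x) O) := by
  refine ⟨⟨1, 0, fun h => ?_⟩⟩
  have h1 : gmR O x ⊤ trivial 1 = gmR O x ⊤ trivial 0 := by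
    rw [map_one, map_zero]
    exact h
  obtain ⟨W, hW, hxW, h2⟩ := gmR_eq_same O x (U := ⊤) trivial _ _ h1
  rw [map_one, map_zero] at h2
  have h' : (1 : ↑(O.presheaf.obj (op W))) = 0 := h2
  have h3 := congrArg (O.presheaf.germ W x hxW).hom h'
  rw [map_one, map_zero] at h3
  exact one_ne_zero h3

theorem isLocalRing_stalkRing (O : TopCat.Sheaf CommRingCat.{u} X) (x : X)
    (hO : IsLocalRing (O.presheaf.stalk x)) :
    IsLocalRing (ModSite.stalkRing (Opens.pointGrothendieckTopology x) O) := by
  haveI := hO
  haveI : Nontrivial (ModSite.stalkRing (Opens.pointGrothendieckTopology x) O) :=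
    nontrivial_stalkRing O x inferInstance
  exact IsLocalRing.of_surjective' (stalkToFiber O x).hom (stalkToFiber_surjective O x)

/-- finitely many germs of functions have representatives over a common neighbourhood. -/
lemma exists_gmR_repr (O : TopCat.Sheaf CommRingCat.{u} X) (x : X) {μ : Type*} [Finite μ]
    (c : μ → ModSite.stalkRing (Opens.pointGrothendieckTopology x) O) (U : Opens X)
    (hxU : x ∈ U) :
    ∃ (W : Opens X) (_ : W ≤ U) (hxW : x ∈ W) (α : μ → (ModSite.ringSh O).obj.obj (op W)),
      ∀ m, gmR O x W hxW (α m) = c m := by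
  obtain ⟨W, hWle, hxW, hW⟩ := exists_common_nbhd x U hxU
    (fun m W => ∀ hx : x ∈ W, ∃ α : (ModSite.ringSh O).obj.obj (op W), gmR O x W hx α = c m)
    (by
      intro m W W' hW' h hx'
      obtain ⟨α, hα⟩ := h (hW' hx')
      exact ⟨rr O hW' α, (gmR_rr O x hW' hx' (hW' hx') α).trans hα⟩)
    (by
      intro m
      obtain ⟨Y, hxY, α, hα⟩ := gmR_surj O x (c m)
      refine ⟨Y ⊓ U, inf_le_right, ⟨hxY, hxU⟩, ?_⟩
      intro hx
      exact ⟨rr O inf_le_left α, (gmR_rr O x inf_le_left hx hxY α).trans hα⟩)
  choose α hα using fun m => hW m hxW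
  exact ⟨W, hWle, hxW, α, hα⟩

/-- the germs of a generating family generate the stalk. -/
theorem stalk_rep_of_locSpan (F : ModSite.Mod O) (x : X) {U : Opens X} (hxU : x ∈ U)
    {μ : Type u} [Fintype μ] (e : μ → ModSite.sect F U) (he : LocSpan F U e)
    (γ : ModSite.stalkAb (Opens.pointGrothendieckTopology x) F) :
    ∃ c : μ → ModSite.stalkRing (Opens.pointGrothendieckTopology x) O,
      γ = ∑ m, c m • gm F x U hxU (e m) := by
  obtain ⟨V, hxV, t, rfl⟩ := gm_surj F x γ
  obtain ⟨W, hW, hxW, a, ha⟩ := exists_fun_coeff F he (V ⊓ U) inf_le_right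
    (res F inf_le_left t) x ⟨hxV, hxU⟩
  refine ⟨fun m => gmR O x W hxW (a m), ?_⟩
  have h1 : gm F x V hxV t = gm F x W hxW (res F hW (res F inf_le_left t)) := by
    rw [gm_res F x hW hxW ⟨hxV, hxU⟩, gm_res F x inf_le_left ⟨hxV, hxU⟩ hxV]
  rw [h1, ← ha, map_sum]
  refine Finset.sum_congr rfl fun m _ => ?_
  rw [gm_smul, gm_res F x (hW.trans inf_le_right) hxW hxU]

/-- the germs of a local frame are independent in the stalk. -/
theorem stalk_ind_of_isLocFrame (F : ModSite.Mod O) (x : X) {U : Opens X} (hxU : x ∈ U)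
    {μ : Type u} [Fintype μ] (e : μ → ModSite.sect F U) (he : IsLocFrame F U e)
    (c : μ → ModSite.stalkRing (Opens.pointGrothendieckTopology x) O)
    (hc : ∑ m, c m • gm F x U hxU (e m) = 0) : ∀ m, c m = 0 := by
  obtain ⟨W, hWU, hxW, α, hα⟩ := exists_gmR_repr O x c U hxU
  have h1 : gm F x W hxW (∑ m, α m • res F hWU (e m)) = gm F x W hxW 0 := by
    rw [map_sum, map_zero]
    refine Eq.trans (Finset.sum_congr rfl fun m _ => ?_) hc
    rw [gm_smul, gm_res F x hWU hxW hxU, hα m]
  obtain ⟨W', hW', hxW', h2⟩ := gm_eq_same F x hxW _ _ h1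
  rw [res_sum, res_zero] at h2
  have h3 : ∑ m ∈ Finset.univ, rr O hW' (α m) • res F (hW'.trans hWU) (e m) = 0 := by
    refine Eq.trans (Finset.sum_congr rfl fun m _ => ?_) h2
    rw [res_smul, res_res]
  intro m
  have h4 := he.2 W' (hW'.trans hWU) Finset.univ _ h3 m (Finset.mem_univ m)
  rw [← hα m, ← gmR_rr O x hW' hxW' hxW (α m), h4, map_zero]

/-- the stalk of a module with a finite local frame near `x` is finite free. -/
theorem stalk_free_finite_of_isLocFrame (F : ModSite.Mod O) (x : X) {U : Opens X} (hxU : x ∈ U)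
    {μ : Type u} [Fintype μ] (e : μ → ModSite.sect F U) (he : IsLocFrame F U e) :
    Module.Free (ModSite.stalkRing (Opens.pointGrothendieckTopology x) O)
        (ModSite.stalkMod (Opens.pointGrothendieckTopology x) F) ∧
      Module.Finite (ModSite.stalkRing (Opens.pointGrothendieckTopology x) O)
        (ModSite.stalkMod (Opens.pointGrothendieckTopology x) F) := by
  classical
  let B : μ → ModSite.stalkMod (Opens.pointGrothendieckTopology x) F :=
    fun m => gm F x U hxU (e m)
  have hli : LinearIndependent (ModSite.stalkRing (Opens.pointGrothendieckTopology x) O) B :=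
    Fintype.linearIndependent_iff.mpr
      (fun c hc => stalk_ind_of_isLocFrame F x hxU e he c hc)
  have hsp : ⊤ ≤ Submodule.span (ModSite.stalkRing (Opens.pointGrothendieckTopology x) O)
      (Set.range B) := by
    intro γ _
    obtain ⟨c, hc⟩ := stalk_rep_of_locSpan F x hxU e he.1 γ
    have hc' : γ = ∑ m, c m • B m := hc
    rw [hc']
    exact Submodule.sum_mem _ fun m _ =>
      Submodule.smul_mem _ _ (Submodule.subset_span ⟨m, rfl⟩)
  exact ⟨Module.Free.of_basis (Module.Basis.mk hli hsp),
    Module.Finite.of_basis (Module.Basis.mk hli hsp)⟩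

/-- the map on stalks at `x`, as a linear map. -/
noncomputable def stalkLin {G F : ModSite.Mod O} (φ : G ⟶ F) (x : X) :
    ModSite.stalkMod (Opens.pointGrothendieckTopology x) G
      →ₗ[ModSite.stalkRing (Opens.pointGrothendieckTopology x) O]
      ModSite.stalkMod (Opens.pointGrothendieckTopology x) F :=
  (ModSite.stalkMap (Opens.pointGrothendieckTopology x) φ).hom

lemma stalkLin_gm {G F : ModSite.Mod O} (φ : G ⟶ F) (x : X) {U : Opens X} (hxU : x ∈ U)
    (s : ModSite.sect G U) :
    stalkLin φ x (gm G x U hxU s) = gm F x U hxU (φ.val.app (op U) s) :=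
  (Opens.pointGrothendieckTopology x).toPresheafFiber_naturality_apply
    ((SheafOfModules.toSheaf (ModSite.ringSh O)).map φ).hom U (pt x U hxU) s

lemma stalkLin_comp_eq_id {F H : ModSite.Mod O} (i : F ⟶ H) (p : H ⟶ F) (hip : i ≫ p = 𝟙 F)
    (x : X) : (stalkLin p x).comp (stalkLin i x) = LinearMap.id := by
  apply LinearMap.ext
  intro γ
  obtain ⟨V, hxV, t, rfl⟩ := gm_surj F x γ
  have h3 : p.val.app (op V) (i.val.app (op V) t) = t := by
    have h4 : (i ≫ p).val.app (op V) t = (𝟙 F : F ⟶ F).val.app (op V) t := by rw [hip]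
    exact h4
  show stalkLin p x (stalkLin i x (gm F x V hxV t)) = gm F x V hxV t
  rw [stalkLin_gm, stalkLin_gm, h3]

/-- a direct summand of a finite locally free module on a locally ringed space is finite
locally free. -/
theorem summand_free_near (O : TopCat.Sheaf CommRingCat.{u} X)
    (hO : ∀ x : X, IsLocalRing (O.presheaf.stalk x)) {F H : ModSite.Mod O}
    (hH : ∀ x : X, ∃ (U : Opens X) (n : ℕ), x ∈ U ∧
      Nonempty ((ModSite.restr O U).obj H ≅ SheafOfModules.free (ULift.{u} (Fin n))))
    (i : F ⟶ H) (p : H ⟶ F) (hip : i ≫ p = 𝟙 F) (x : X) :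
    ∃ (U : Opens X) (n : ℕ), x ∈ U ∧
      Nonempty ((ModSite.restr O U).obj F ≅ SheafOfModules.free (ULift.{u} (Fin n))) := by
  classical
  have hHfp : SheafOfModules.IsFinitePresentation (R := ModSite.ringSh O) H :=
    isFinitePresentation_of_frames H hH
  have hHft : SheafOfModules.IsFiniteType (R := ModSite.ringSh O) H := inferInstance
  have hFfp : SheafOfModules.IsFinitePresentation (R := ModSite.ringSh O) F :=
    (SheafOfModules.isFinitePresentation (ModSite.ringSh O)).prop_of_iso
      (summandIsoCokernel i p hip) (isFinitePresentation_cokernel _ hHft hHfp)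
  haveI : IsLocalRing (ModSite.stalkRing (Opens.pointGrothendieckTopology x) O) :=
    isLocalRing_stalkRing O x (hO x)
  obtain ⟨U, n, hxU, hiso⟩ := hH x
  obtain ⟨e, he⟩ := exists_isLocFrame H U hiso
  obtain ⟨hfree, hfin⟩ := stalk_free_finite_of_isLocFrame H x hxU e he
  have hcomp := stalkLin_comp_eq_id i p hip x
  haveI : Module.Projective (ModSite.stalkRing (Opens.pointGrothendieckTopology x) O)
      (ModSite.stalkMod (Opens.pointGrothendieckTopology x) F) :=
    Module.Projective.of_split (stalkLin i x) (stalkLin p x) hcomp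
  haveI : Module.Finite (ModSite.stalkRing (Opens.pointGrothendieckTopology x) O)
      (ModSite.stalkMod (Opens.pointGrothendieckTopology x) F) :=
    Module.Finite.of_surjective (stalkLin p x)
      (fun γ => ⟨stalkLin i x γ, LinearMap.congr_fun hcomp γ⟩)
  haveI : Module.Free (ModSite.stalkRing (Opens.pointGrothendieckTopology x) O)
      (ModSite.stalkMod (Opens.pointGrothendieckTopology x) F) :=
    Module.free_of_flat_of_isLocalRing
  let bs : Module.Basis (ULift.{u} (Fin (Module.finrank
      (ModSite.stalkRing (Opens.pointGrothendieckTopology x) O)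
      (ModSite.stalkMod (Opens.pointGrothendieckTopology x) F))))
      (ModSite.stalkRing (Opens.pointGrothendieckTopology x) O)
      (ModSite.stalkMod (Opens.pointGrothendieckTopology x) F) :=
    (Module.finBasis _ _).reindex Equiv.ulift.symm
  obtain ⟨U', hxU', e', he'⟩ := exists_isLocFrame_of_stalk_basis F x (fun m => bs m)
    (fun γ => ⟨fun m => bs.repr γ m, (bs.sum_repr γ).symm⟩)
    (fun c hc => Fintype.linearIndependent_iff.mp bs.linearIndependent c hc)
  exact ⟨U', _, hxU', iso_of_isLocFrame F U' e' he'⟩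

end Top

end Groth.Agent.LD.RSp
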