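import Groth.Agent.Lib.Lead.RSp.TopFP

/-! # Modules on a ringed space: cokernels and kernels of maps between modules of finite type
and of finite presentation. -/

universe u
open CategoryTheory Limits Opposite TopologicalSpace

namespace Groth.Agent.LD.RSp

variable {X : TopCat.{u}} {O : TopCat.Sheaf CommRingCat.{u} X}

/-- local exactness on sections. -/
theorem exists_local_preimage_of_exact {S : ShortComplex (ModSite.Mod O)} (hS : S.Exact)
    (V : Opens X) (t : ModSite.sect S.X₂ V) (ht : S.g.val.app (op V) t = 0) (x : X)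
    (hx : x ∈ V) :
    ∃ (W : Opens X) (hW : W ≤ V), x ∈ W ∧
      ∃ a : ModSite.sect S.X₁ W, S.f.val.app (op W) a = res S.X₂ hW t := by
  obtain ⟨k, hk⟩ := exists_kernel_lift S.g V t ht
  haveI : Epi (kernel.lift S.g S.f S.zero) := S.exact_iff_epi_kernel_lift.mp hS
  obtain ⟨W, hW, hxW, a, ha⟩ :=
    (epi_iff_forall_exists (kernel.lift S.g S.f S.zero)).mp inferInstance V k x hx
  refine ⟨W, hW, hxW, a, ?_⟩
  have h1 : S.f.val.app (op W) a =
      (kernel.ι S.g).val.app (op W) ((kernel.lift S.g S.f S.zero).val.app (op W) a) := by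
    change _ = (kernel.lift S.g S.f S.zero ≫ kernel.ι S.g).val.app (op W) a
    rw [kernel.lift_ι]
  rw [h1, ha, app_res, hk]

/-- the image of a generating family under an epimorphism is generating. -/
theorem LocGen.map_epi {F Q : ModSite.Mod O} (q : F ⟶ Q) [Epi q] {U : Opens X} {ι : Type u}
    [Fintype ι] {e : ι → ModSite.sect F U} (h : LocGen F U e) :
    LocGen Q U (fun i => q.val.app (op U) (e i)) := by
  intro V hV t y hy
  obtain ⟨V₁, hV₁, hy₁, f, hf⟩ := (epi_iff_forall_exists q).mp inferInstance V t y hy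
  obtain ⟨V₂, hV₂, hy₂, r, hr⟩ := h V₁ (hV₁.trans hV) f y hy₁
  refine ⟨V₂, hV₂.trans hV₁, hy₂, r, ?_⟩
  rw [← res_res Q hV₁ hV₂, ← hf, ← app_res, hr, map_sum]
  refine Finset.sum_congr rfl fun i _ => ?_
  rw [map_smul, app_res]

/-- the images under `φ` of finitely many sections are, near a point, combinations of a
generating family. -/
theorem exists_matrix {G F : ModSite.Mod O} (φ : G ⟶ F) {U₁ U₂ : Opens X} {ι μ : Type u}
    [Fintype ι] [Finite μ] (e : ι → ModSite.sect F U₁) (he : LocGen F U₁ e)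
    (g : μ → ModSite.sect G U₂) (x : X) (hx₁ : x ∈ U₁) (hx₂ : x ∈ U₂) :
    ∃ (W : Opens X) (hW₁ : W ≤ U₁) (hW₂ : W ≤ U₂), x ∈ W ∧
      ∃ a : μ → ι → (ModSite.ringSh O).obj.obj (op W),
        ∀ k, φ.val.app (op W) (res G hW₂ (g k)) = ∑ i, a k i • res F hW₁ (e i) := by
  obtain ⟨W, hW, hxW, ha⟩ := exists_common_nbhd x (U₁ ⊓ U₂) ⟨hx₁, hx₂⟩
    (fun k W => ∃ (hW : W ≤ U₁ ⊓ U₂) (a : ι → (ModSite.ringSh O).obj.obj (op W)),
      φ.val.app (op W) (res G (hW.trans inf_le_right) (g k)) =
        ∑ i, a i • res F (hW.trans inf_le_left) (e i))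
    (by
      rintro k W W' hW' ⟨hW, a, ha⟩
      refine ⟨hW'.trans hW, fun i => rr O hW' (a i), ?_⟩
      rw [← res_res G (hW.trans inf_le_right) hW', app_res, ha, res_sum]
      refine Finset.sum_congr rfl fun i _ => ?_
      rw [res_smul, res_res])
    (by
      intro k
      obtain ⟨W, hW, hxW, r, hr⟩ := he (U₁ ⊓ U₂) inf_le_left
        (φ.val.app (op (U₁ ⊓ U₂)) (res G inf_le_right (g k))) x ⟨hx₁, hx₂⟩
      refine ⟨W, hW, hxW, hW, r, ?_⟩
      rw [← hr, ← app_res, res_res])
  choose _ a ha using ha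
  exact ⟨W, hW.trans inf_le_left, hW.trans inf_le_right, hxW, a, ha⟩

/-- the cokernel of a map from a module of finite type to a module of finite presentation is
of finite presentation. -/
theorem isFinitePresentation_cokernel {G F : ModSite.Mod O} (φ : G ⟶ F)
    (hG : SheafOfModules.IsFiniteType (R := ModSite.ringSh O) G)
    (hF : SheafOfModules.IsFinitePresentation (R := ModSite.ringSh O) F) :
    SheafOfModules.IsFinitePresentation (R := ModSite.ringSh O) (cokernel φ) := by
  classical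
  rw [isFinitePresentation_iff] at hF ⊢
  rw [isFiniteType_iff] at hG
  intro x
  obtain ⟨U₁, hx₁, ι, κ, _, _, e, ρ, hgen, hrel⟩ := hF x
  obtain ⟨U₂, hx₂, μ, _, g, hg⟩ := hG x
  obtain ⟨W, hW₁, hW₂, hxW, a, ha⟩ := exists_matrix φ e hgen g x hx₁ hx₂
  let q := cokernel.π φ
  have hqφ : ∀ (V : Opens X) (z : ModSite.sect G V),
      q.val.app (op V) (φ.val.app (op V) z) = 0 := by
    intro V z
    change (φ ≫ q).val.app (op V) z = 0
    rw [cokernel.condition]
    rfl
  refine ⟨W, hxW, ι, κ ⊕ μ, inferInstance, inferInstance,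
    fun i => q.val.app (op W) (res F hW₁ (e i)),
    Sum.elim (fun j i => rr O hW₁ (ρ j i)) a, ?_, ?_, ?_⟩
  · exact (hgen.res hW₁).map_epi q
  · rintro (j | k)
    · simp only [Sum.elim_inl]
      have h5 : ∑ i, rr O hW₁ (ρ j i) • q.val.app (op W) (res F hW₁ (e i)) =
          q.val.app (op W) (res F hW₁ (∑ i, ρ j i • e i)) := by
        rw [res_sum, map_sum]
        refine Finset.sum_congr rfl fun i _ => ?_
        rw [res_smul, map_smul]
      rw [h5, hrel.1 j, res_zero, map_zero]
    · simp only [Sum.elim_inr]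
      have h5 : ∑ i, a k i • q.val.app (op W) (res F hW₁ (e i)) =
          q.val.app (op W) (∑ i, a k i • res F hW₁ (e i)) := by
        rw [map_sum]
        refine Finset.sum_congr rfl fun i _ => ?_
        rw [map_smul]
      rw [h5, ← ha k, hqφ]
  · intro V hV c hc y hy
    let tF : ModSite.sect F V := ∑ i, c i • res F (hV.trans hW₁) (e i)
    have htF : q.val.app (op V) tF = 0 := by
      rw [← hc]
      simp only [tF, map_sum, map_smul]
      refine Finset.sum_congr rfl fun i _ => ?_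
      rw [← res_res F hW₁ hV, app_res]
    obtain ⟨V₁, hV₁, hy₁, γ, hγ⟩ := exists_local_preimage_of_exact
      (S := ShortComplex.mk φ q (cokernel.condition φ))
      (ShortComplex.exact_of_g_is_cokernel _ (cokernelIsCokernel φ)) V tF htF y hy
    obtain ⟨V₂, hV₂, hy₂, b, hb⟩ := hg V₁ ((hV₁.trans hV).trans hW₂) γ y hy₁
    have hV₂U₁ : V₂ ≤ U₁ := ((hV₂.trans hV₁).trans hV).trans hW₁
    have key : ∑ i, (rr O (hV₂.trans hV₁) (c i) -
        ∑ k, b k * rr O ((hV₂.trans hV₁).trans hV) (a k i)) • res F hV₂U₁ (e i) = 0 := by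
      have h1 : ∑ i, rr O (hV₂.trans hV₁) (c i) • res F hV₂U₁ (e i) =
          res F (hV₂.trans hV₁) tF := by
        simp only [tF, res_sum, res_smul, res_res]
      have h2 : res F (hV₂.trans hV₁) tF =
          ∑ i, (∑ k, b k * rr O ((hV₂.trans hV₁).trans hV) (a k i)) • res F hV₂U₁ (e i) := by
        have h3 : ∀ k, φ.val.app (op V₂)
            (res G (hV₂.trans ((hV₁.trans hV).trans hW₂)) (g k)) =
            ∑ i, rr O ((hV₂.trans hV₁).trans hV) (a k i) • res F hV₂U₁ (e i) := by
          intro k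
          rw [← res_res G hW₂ ((hV₂.trans hV₁).trans hV), app_res, ha k, res_sum]
          refine Finset.sum_congr rfl fun i _ => ?_
          rw [res_smul, res_res]
        rw [← res_res F hV₁ hV₂]
        change res F hV₂ (res (ShortComplex.mk φ q (cokernel.condition φ)).X₂ hV₁ tF) = _
        rw [← hγ]
        change res F hV₂ (φ.val.app (op V₁) γ) = _
        rw [← app_res, hb, map_sum]
        simp only [map_smul, h3, Finset.smul_sum, smul_smul]
        rw [Finset.sum_comm]
        refine Finset.sum_congr rfl fun i _ => ?_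
        rw [Finset.sum_smul]
      simp only [sub_smul, Finset.sum_sub_distrib]
      rw [h1, h2, sub_self]
    obtain ⟨V₃, hV₃, hy₃, d, hd⟩ := hrel.2 V₂ hV₂U₁ _ key y hy₂
    refine ⟨V₃, (hV₃.trans hV₂).trans hV₁, hy₃, Sum.elim d (fun k => rr O hV₃ (b k)),
      fun i => ?_⟩
    rw [Fintype.sum_sum_type]
    simp only [Sum.elim_inl, Sum.elim_inr]
    have h4 := hd i
    simp only [map_sub, map_sum, map_mul, rr_rr] at h4
    rw [sub_eq_iff_eq_add] at h4
    simp only [rr_rr]
    exact h4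

/-- the kernel of an epimorphism from a module of finite type onto a module of finite
presentation is of finite type. -/
theorem isFiniteType_kernel {G F : ModSite.Mod O} (θ : G ⟶ F) [Epi θ]
    (hG : SheafOfModules.IsFiniteType (R := ModSite.ringSh O) G)
    (hF : SheafOfModules.IsFinitePresentation (R := ModSite.ringSh O) F) :
    SheafOfModules.IsFiniteType (R := ModSite.ringSh O) (kernel θ) := by
  classical
  rw [isFinitePresentation_iff] at hF
  rw [isFiniteType_iff] at hG ⊢
  intro x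
  obtain ⟨U₁, hx₁, ι, κ, _, _, e, ρ, hgen, hrel⟩ := hF x
  obtain ⟨U₂, hx₂, μ, _, g, hg⟩ := hG x
  obtain ⟨W₀, hW₁, hW₂, hxW₀, a₀, ha₀⟩ := exists_matrix θ e hgen g x hx₁ hx₂
  obtain ⟨W, hW, hxW, et, het⟩ := exists_lift_fin θ W₀ (fun i => res F hW₁ (e i)) x hxW₀
  have hWU₁ : W ≤ U₁ := hW.trans hW₁
  have hWU₂ : W ≤ U₂ := hW.trans hW₂
  let a : μ → ι → (ModSite.ringSh O).obj.obj (op W) := fun k i => rr O hW (a₀ k i)
  have ha : ∀ k, θ.val.app (op W) (res G hWU₂ (g k)) = ∑ i, a k i • res F hWU₁ (e i) := by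
    intro k
    rw [← res_res G hW₂ hW, app_res, ha₀ k, res_sum]
    refine Finset.sum_congr rfl fun i _ => ?_
    rw [res_smul, res_res]
  have het' : ∀ i, θ.val.app (op W) (et i) = res F hWU₁ (e i) := by
    intro i
    rw [het, res_res]
  let hk : μ → ModSite.sect G W := fun k => res G hWU₂ (g k) - ∑ i, a k i • et i
  have hhk : ∀ k, θ.val.app (op W) (hk k) = 0 := by
    intro k
    simp only [hk, map_sub, map_sum, map_smul, ha, het', sub_self]
  let qj : κ → ModSite.sect G W := fun j => ∑ i, rr O hWU₁ (ρ j i) • et i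
  have hqj : ∀ j, θ.val.app (op W) (qj j) = 0 := by
    intro j
    have h5 : θ.val.app (op W) (qj j) = res F hWU₁ (∑ i, ρ j i • e i) := by
      simp only [qj, map_sum, map_smul, het', res_sum, res_smul]
    rw [h5, hrel.1 j, res_zero]
  choose sk hsk using fun k => exists_kernel_lift θ W (hk k) (hhk k)
  choose sq hsq using fun j => exists_kernel_lift θ W (qj j) (hqj j)
  refine ⟨W, hxW, μ ⊕ κ, inferInstance, Sum.elim sk sq, ?_⟩
  intro V hV t y hy
  let τ : ModSite.sect G V := (kernel.ι θ).val.app (op V) t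
  have hτ : θ.val.app (op V) τ = 0 := kernel_ι_app θ V t
  obtain ⟨V₁, hV₁, hy₁, b, hb⟩ := hg V (hV.trans hWU₂) τ y hy
  have hV₁W : V₁ ≤ W := hV₁.trans hV
  let c : ι → (ModSite.ringSh O).obj.obj (op V₁) := fun i => ∑ k, b k * rr O hV₁W (a k i)
  have h1 : res G hV₁ τ =
      ∑ k, b k • res G hV₁W (hk k) + ∑ i, c i • res G hV₁W (et i) := by
    rw [hb]
    have e1 : ∀ k, b k • res G (hV₁.trans (hV.trans hWU₂)) (g k) =
        b k • res G hV₁W (hk k) + ∑ i, (b k * rr O hV₁W (a k i)) • res G hV₁W (et i) := by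
      intro k
      simp only [hk, res_sub, res_sum, res_smul, res_res, smul_sub, Finset.smul_sum, smul_smul]
      rw [sub_add_cancel]
    rw [Finset.sum_congr rfl (fun k _ => e1 k), Finset.sum_add_distrib, Finset.sum_comm]
    congr 1
    refine Finset.sum_congr rfl fun i _ => ?_
    rw [Finset.sum_smul]
  have h2 : ∑ i, c i • res F (hV₁W.trans hWU₁) (e i) = 0 := by
    have h6 := congrArg (fun z => θ.val.app (op V₁) z) h1
    simp only [app_res, hτ, res_zero, map_add, map_sum, map_smul, hhk, smul_zero,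
      Finset.sum_const_zero, zero_add, het', res_res] at h6
    exact h6.symm
  obtain ⟨V₂, hV₂, hy₂, d, hd⟩ := hrel.2 V₁ (hV₁W.trans hWU₁) c h2 y hy₁
  refine ⟨V₂, hV₂.trans hV₁, hy₂, Sum.elim (fun k => rr O hV₂ (b k)) d, ?_⟩
  apply injective_of_mono (kernel.ι θ) V₂
  rw [Fintype.sum_sum_type]
  simp only [Sum.elim_inl, Sum.elim_inr, map_add, map_sum, map_smul, app_res, hsk, hsq]
  have h7 : res G (hV₂.trans hV₁) τ = res G hV₂ (res G hV₁ τ) := (res_res G hV₁ hV₂ τ).symm
  change res G (hV₂.trans hV₁) τ = _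
  rw [h7, h1, res_add, res_sum, res_sum]
  simp only [res_smul, res_res]
  congr 1
  have h8 : ∀ j, res G (hV₂.trans hV₁W) (qj j) =
      ∑ i, rr O ((hV₂.trans hV₁W).trans hWU₁) (ρ j i) • res G (hV₂.trans hV₁W) (et i) := by
    intro j
    simp only [qj, res_sum, res_smul, rr_rr]
  simp only [h8, Finset.smul_sum, smul_smul]
  rw [Finset.sum_comm]
  refine Finset.sum_congr rfl fun i _ => ?_
  rw [← Finset.sum_smul, hd i]

end Groth.Agent.LD.RSp
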