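import Groth.Agent.Lib.Lead.RSp.SiteSub
import Groth.Prelude.Def_CohCx

/-! # Sections of a coproduct of sheaves of modules on a general site; quasi-compact objects. -/

universe u
open CategoryTheory Limits Opposite

namespace Groth.Agent.LD.RSp.SC

open Groth.Agent.LD.RSp

variable {C : Type u} [SmallCategory C] {J : GrothendieckTopology C} {R : Sheaf J RingCat.{u}}

section Coprod
variable {I : Type u} (F : I → SheafOfModules.{u} R) [HasCoproduct F]

lemma π_ι_same [DecidableEq I] (W : C) (i : I) (t : (F i).val.obj (op W)) :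
    (Sigma.π F i).val.app (op W) ((Sigma.ι F i).val.app (op W) t) = t := by
  have h : (Sigma.ι F i ≫ Sigma.π F i).val.app (op W) t = t := by
    rw [Sigma.ι_π_eq_id]
    rfl
  exact h

lemma π_ι_ne [DecidableEq I] (W : C) {j i : I} (h : j ≠ i) (t : (F j).val.obj (op W)) :
    (Sigma.π F i).val.app (op W) ((Sigma.ι F j).val.app (op W) t) = 0 := by
  have h' : (Sigma.ι F j ≫ Sigma.π F i).val.app (op W) t = 0 := by
    rw [Sigma.ι_π_of_ne F h]
    rfl
  exact h'

lemma π_sum [DecidableEq I] (W : C) (S : Finset I) (t : ∀ i, (F i).val.obj (op W))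
    (i : I) :
    (Sigma.π F i).val.app (op W) (∑ j ∈ S, (Sigma.ι F j).val.app (op W) (t j)) =
      if i ∈ S then t i else 0 := by
  rw [map_sum]
  by_cases hi : i ∈ S
  · rw [if_pos hi, Finset.sum_eq_single_of_mem i hi]
    · exact π_ι_same F W i (t i)
    · intro j _ hji
      exact π_ι_ne F W hji (t j)
  · rw [if_neg hi]
    apply Finset.sum_eq_zero
    intro j hj
    have hji : j ≠ i := fun h => hi (h ▸ hj)
    exact π_ι_ne F W hji (t j)

lemma sum_ι_ite [DecidableEq I] (W : C) {S₁ S : Finset I} (hS : S₁ ⊆ S)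
    (t : ∀ i, (F i).val.obj (op W)) :
    ∑ i ∈ S, (Sigma.ι F i).val.app (op W) (if i ∈ S₁ then t i else 0) =
      ∑ i ∈ S₁, (Sigma.ι F i).val.app (op W) (t i) := by
  rw [← Finset.sum_subset hS]
  · refine Finset.sum_congr rfl fun i hi => ?_
    rw [if_pos hi]
  · intro i _ hi
    rw [if_neg hi, map_zero]

/-- finite sums of images of sections of the summands. -/
noncomputable def finSumSub (W : C) :
    Submodule (R.obj.obj (op W)) ((∐ F).val.obj (op W)) where
  carrier := {s | ∃ (S : Finset I) (t : ∀ i, (F i).val.obj (op W)),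
    s = ∑ i ∈ S, (Sigma.ι F i).val.app (op W) (t i)}
  zero_mem' := ⟨∅, fun _ => 0, by rw [Finset.sum_empty]⟩
  add_mem' := by
    classical
    rintro s₁ s₂ ⟨S₁, t₁, rfl⟩ ⟨S₂, t₂, rfl⟩
    refine ⟨S₁ ∪ S₂, fun i => (if i ∈ S₁ then t₁ i else 0) + (if i ∈ S₂ then t₂ i else 0), ?_⟩
    simp only [map_add, Finset.sum_add_distrib]
    rw [sum_ι_ite F W Finset.subset_union_left t₁, sum_ι_ite F W Finset.subset_union_right t₂]
  smul_mem' := by
    rintro r s ⟨S, t, rfl⟩
    refine ⟨S, fun i => r • t i, ?_⟩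
    rw [Finset.smul_sum]
    refine Finset.sum_congr rfl fun i _ => ?_
    rw [map_smul]

lemma finSumSub_rs {W W' : C} (h : W' ⟶ W) (s : (∐ F).val.obj (op W))
    (hs : s ∈ finSumSub F W) : rs (∐ F) h s ∈ finSumSub F W' := by
  obtain ⟨S, t, rfl⟩ := hs
  refine ⟨S, fun i => rs (F i) h (t i), ?_⟩
  rw [rs_sum]
  refine Finset.sum_congr rfl fun i _ => ?_
  rw [app_rs]

lemma ι_mem_finSumSub (W : C) (i : I) (t : (F i).val.obj (op W)) :
    (Sigma.ι F i).val.app (op W) t ∈ finSumSub F W := by
  classical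
  refine ⟨{i}, Pi.single i t, ?_⟩
  rw [Finset.sum_singleton, Pi.single_eq_same]

/-- every section of a coproduct is locally a finite sum of sections of the summands. -/
theorem exists_sieve_finSum (W : C) (s : (∐ F).val.obj (op W)) :
    ∃ T ∈ J W, ∀ ⦃V : C⦄ (g : V ⟶ W), T g → rs (∐ F) g s ∈ finSumSub F V := by
  refine SiteSub.mem_of_isColimit (Cofan.mk (∐ F) (Sigma.ι F)) (coproductIsCoproduct F)
    (SiteSub.ofLocal (∐ F) (finSumSub F) (fun h s hs => finSumSub_rs F h s hs)) ?_ W s
  rintro ⟨i⟩ V t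
  refine ⟨⊤, J.top_mem V, fun Z g _ => ?_⟩
  exact finSumSub_rs F g _ (ι_mem_finSumSub F V i t)

/-- the projector onto the summands indexed by `T`. -/
noncomputable def eT [DecidableEq I] (T : Finset I) : (∐ F) ⟶ (∐ F) :=
  ∑ i ∈ T, Sigma.π F i ≫ Sigma.ι F i

lemma eT_apply [DecidableEq I] (T : Finset I) (V : C) (z : (∐ F).val.obj (op V)) :
    (eT F T).val.app (op V) z =
      ∑ i ∈ T, (Sigma.ι F i).val.app (op V) ((Sigma.π F i).val.app (op V) z) := by
  have h : evAt _ _ V (eT F T) z = ∑ i ∈ T, evAt _ _ V (Sigma.π F i ≫ Sigma.ι F i) z := by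
    unfold eT
    rw [map_sum, LinearMap.sum_apply]
  exact h

lemma eT_fix_of_sum [DecidableEq I] {T T' : Finset I} (hT : T ⊆ T') (V : C)
    (t : ∀ i, (F i).val.obj (op V)) :
    (eT F T').val.app (op V) (∑ i ∈ T, (Sigma.ι F i).val.app (op V) (t i)) =
      ∑ i ∈ T, (Sigma.ι F i).val.app (op V) (t i) := by
  rw [eT_apply]
  simp only [π_sum F V T t]
  exact sum_ι_ite F V hT t

lemma eT_fix_mono [DecidableEq I] {T T' : Finset I} (hT : T ⊆ T') (V : C)
    (z : (∐ F).val.obj (op V)) (hz : (eT F T).val.app (op V) z = z) :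
    (eT F T').val.app (op V) z = z := by
  have h := eT_fix_of_sum F hT V (fun i => (Sigma.π F i).val.app (op V) z)
  rw [← eT_apply, hz] at h
  exact h

/-- a finite sum of images of sections of the summands vanishes only if every term does. -/
theorem coprod_sections_inj [DecidableEq I] (U : C) (S : Finset I)
    (t : ∀ i, (F i).val.obj (op U))
    (h : ∑ i ∈ S, (Sigma.ι F i).val.app (op U) (t i) = 0) (i : I) (hi : i ∈ S) : t i = 0 := by
  have h1 := π_sum F U S t i
  rw [if_pos hi, h, map_zero] at h1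
  exact h1.symm

end Coprod

section Fix
variable (M : SheafOfModules.{u} R) (e : M ⟶ M)

/-- sections fixed by an endomorphism. -/
def IsFix (V : C) (z : M.val.obj (op V)) : Prop := e.val.app (op V) z = z

variable {M e}

lemma IsFix.rs {V V' : C} {z : M.val.obj (op V)} (h : IsFix M e V z) (g : V' ⟶ V) :
    IsFix M e V' (Groth.Agent.LD.RSp.rs M g z) := by
  unfold IsFix at *
  rw [app_rs, h]

lemma IsFix.of_local {V : C} {z : M.val.obj (op V)} (T : Sieve V) (hT : T ∈ J V)
    (h : ∀ ⦃V' : C⦄ (g : V' ⟶ V), T g → IsFix M e V' (Groth.Agent.LD.RSp.rs M g z)) :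
    IsFix M e V z := by
  apply eq_of_eqSieve_mem M
  refine J.superset_covering ?_ hT
  intro V' g hg
  show Groth.Agent.LD.RSp.rs M g (e.val.app (op V) z) = Groth.Agent.LD.RSp.rs M g z
  rw [← app_rs]
  exact h g hg

end Fix

section Sets
variable (M : SheafOfModules.{u} R)

/-- the sheaf of sets underlying a module. -/
noncomputable def setSh : Sheaf J (Type u) :=
  ⟨M.val.presheaf ⋙ forget AddCommGrpCat.{u},
    (Presheaf.isSheaf_iff_isSheaf_forget J _ (forget AddCommGrpCat.{u})).1 M.isSheaf⟩

/-- sections of the underlying sheaf of sets are sections of the module. -/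
def toSec (V : C) (z : (setSh M).obj.obj (op V)) : M.val.obj (op V) := z

/-- sections of the module are sections of the underlying sheaf of sets. -/
def ofSec (V : C) (z : M.val.obj (op V)) : (setSh M).obj.obj (op V) := z

lemma toSec_map {U V : C} (g : V ⟶ U) (z : (setSh M).obj.obj (op U)) :
    toSec M V ((setSh M).obj.map g.op z) = rs M g (toSec M U z) := rfl

variable (J) in
/-- the sheaf of sets associated to an object. -/
noncomputable abbrev hSh (W : C) : Sheaf J (Type u) :=
  (presheafToSheaf J (Type u)).obj (yoneda.obj W)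

variable (J) in
/-- the tautological section of `h_W^#` over `W`. -/
noncomputable def x0 (W : C) : (hSh J W).obj.obj (op W) :=
  ((sheafificationAdjunction J (Type u)).unit.app (yoneda.obj W)).app (op W) (𝟙 W)

/-- the map `h_W^# ⟶ M` classifying a section of `M` over `W`. -/
noncomputable def sHat (W : C) (s : M.val.obj (op W)) : hSh J W ⟶ setSh M :=
  ((sheafificationAdjunction J (Type u)).homEquiv (yoneda.obj W) (setSh M)).symm
    (yonedaEquiv.symm (ofSec M W s))

lemma sHat_x0 (W : C) (s : M.val.obj (op W)) :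
    toSec M W ((sHat M W s).hom.app (op W) (x0 J W)) = s := by
  have h := ((sheafificationAdjunction J (Type u)).homEquiv (yoneda.obj W)
    (setSh M)).apply_symm_apply (yonedaEquiv.symm (ofSec M W s))
  rw [Adjunction.homEquiv_unit] at h
  have h2 := congrArg (fun η => yonedaEquiv η) h
  simp only [Equiv.apply_symm_apply] at h2
  exact h2

lemma sHat_map (W : C) (s : M.val.obj (op W)) {U V : C} (g : V ⟶ U)
    (x : (hSh J W).obj.obj (op U)) :
    toSec M V ((sHat M W s).hom.app (op V) ((hSh J W).obj.map g.op x)) =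
      rs M g (toSec M U ((sHat M W s).hom.app (op U) x)) := by
  have hn : (sHat M W s).hom.app (op V) ((hSh J W).obj.map g.op x) =
      (setSh M).obj.map g.op ((sHat M W s).hom.app (op U) x) :=
    NatTrans.naturality_apply (sHat M W s).hom g.op x
  rw [hn]
  rfl

variable (e : M ⟶ M) {W : C} (σ : hSh J W ⟶ setSh M)

/-- the subfunctor of `h_W^#` of points at which the pulled back section is fixed by `e`. -/
def fixSub : Subfunctor (hSh J W).obj where
  obj U := {x | IsFix M e U.unop (toSec M U.unop (σ.hom.app U x))}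
  map {U V} i := by
    intro x hx
    show IsFix M e V.unop (toSec M V.unop (σ.hom.app V ((hSh J W).obj.map i x)))
    have hn : σ.hom.app V ((hSh J W).obj.map i x) = (setSh M).obj.map i (σ.hom.app U x) :=
      NatTrans.naturality_apply σ.hom i x
    rw [hn]
    exact IsFix.rs hx i.unop

lemma fixSub_isSheaf : Presheaf.IsSheaf J (fixSub M e σ).toFunctor := by
  rw [isSheaf_iff_isSheaf_of_type]
  have hK : Presieve.IsSheaf J (hSh J W).obj :=
    (isSheaf_iff_isSheaf_of_type _ _).1 (hSh J W).property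
  rw [Subfunctor.isSheaf_iff _ hK]
  intro U x hx
  show IsFix M e U.unop (toSec M U.unop (σ.hom.app U x))
  apply IsFix.of_local _ hx
  intro V g hg
  have hg' : IsFix M e V (toSec M V (σ.hom.app (op V) ((hSh J W).obj.map g.op x))) := hg
  have hn : σ.hom.app (op V) ((hSh J W).obj.map g.op x) =
      (setSh M).obj.map g.op (σ.hom.app U x) :=
    NatTrans.naturality_apply σ.hom g.op x
  rw [hn] at hg'
  exact hg'

end Sets

section Qc
variable {I : Type u} (F : I → SheafOfModules.{u} R) [HasCoproduct F]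

/-- over a quasi-compact object, every section of a coproduct is a finite sum of sections of
the summands. -/
theorem exists_finset_fix [DecidableEq I] (W : C) (hW : CohCx.IsQcObject (hSh J W))
    (s : (∐ F).val.obj (op W)) :
    ∃ T : Finset I, (eT F T).val.app (op W) s = s := by
  let L : Finset I → Sheaf J (Type u) := fun T =>
    ⟨(fixSub (∐ F) (eT F T) (sHat (∐ F) W s)).toFunctor,
      fixSub_isSheaf (∐ F) (eT F T) (sHat (∐ F) W s)⟩
  let f : ∀ T, L T ⟶ hSh J W := fun T =>
    ObjectProperty.homMk (fixSub (∐ F) (eT F T) (sHat (∐ F) W s)).ι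
  have hf : CohCx.JointlySurjective f := by
    intro U x
    obtain ⟨S, hS, hS'⟩ := exists_sieve_finSum F U
      (toSec (∐ F) U ((sHat (∐ F) W s).hom.app (op U) x))
    refine ⟨S, hS, fun V g hg => ?_⟩
    obtain ⟨T, t, ht⟩ := hS' g hg
    have hfix : IsFix (∐ F) (eT F T) V
        (rs (∐ F) g (toSec (∐ F) U ((sHat (∐ F) W s).hom.app (op U) x))) := by
      unfold IsFix
      rw [ht]
      exact eT_fix_of_sum F (Finset.Subset.refl T) V t
    rw [← sHat_map] at hfix
    exact ⟨T, ⟨(hSh J W).obj.map g.op x, hfix⟩, rfl⟩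
  obtain ⟨t, ht⟩ := hW (Finset I) L f hf
  obtain ⟨S, hS, hS'⟩ := ht W (x0 J W)
  refine ⟨t.biUnion id, ?_⟩
  apply IsFix.of_local S hS
  intro V g hg
  obtain ⟨T, y, hy⟩ := hS' V g hg
  have hy2 : IsFix (∐ F) (eT F T.1) V
      (toSec (∐ F) V ((sHat (∐ F) W s).hom.app (op V) y.1)) := y.2
  have hy' : (y.1 : (hSh J W).obj.obj (op V)) = (hSh J W).obj.map g.op (x0 J W) := hy
  rw [hy', sHat_map, sHat_x0] at hy2
  exact eT_fix_mono F (Finset.subset_biUnion_of_mem id T.2) V _ hy2

/-- over a quasi-compact object, every section of a coproduct is a finite sum of sections of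
the summands. -/
theorem coprod_sections_surj [DecidableEq I] (W : C) (hW : CohCx.IsQcObject (hSh J W))
    (s : (∐ F).val.obj (op W)) :
    ∃ T : Finset I, s = ∑ i ∈ T,
      (Sigma.ι F i).val.app (op W) ((Sigma.π F i).val.app (op W) s) := by
  obtain ⟨T, hT⟩ := exists_finset_fix F W hW s
  exact ⟨T, by rw [← eT_apply]; exact hT.symm⟩

end Qc

end Groth.Agent.LD.RSp.SC
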