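import Mathlib
import Groth.Prelude.Def_ModSite
import Groth.Prelude.Def_CohCx
import Groth.Agent.Lib.Lead.RSp.SiteCoprod
import Groth.Agent.Lib.Lead.EZ.FreeOn
import Groth.Agent.Lib.Lead.MS.TensPres

/-! # Modules of "type A" on a ringed site: cokernels of maps between finite direct sums of
modules `j_{U!}O_U` with `U` in a family `B` of quasi-compact objects. -/

set_option autoImplicit false
universe u w w'
open CategoryTheory Opposite Limits

namespace Groth.Agent.LD.RSp.TA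

open Groth.Agent.LD.RSp Groth.Agent.LD.MS Groth.Agent.LD.EZ

section Repr
variable {C : Type u} [SmallCategory C] (J : GrothendieckTopology C)

/-- the canonical map `h_W(V) → h_W^#(V)`. -/
noncomputable def eta (W : C) {V : C} (a : V ⟶ W) :
    ((presheafToSheaf J (Type u)).obj (yoneda.obj W)).obj.obj (op V) :=
  (toSheafify J (yoneda.obj W)).app (op V) a

lemma eta_res (W : C) {V V' : C} (g : V' ⟶ V) (a : V ⟶ W) :
    ((presheafToSheaf J (Type u)).obj (yoneda.obj W)).obj.map g.op (eta J W a) =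
      eta J W (g ≫ a) :=
  (NatTrans.naturality_apply (toSheafify J (yoneda.obj W)) g.op a).symm

lemma eta_map {Y W : C} (g : Y ⟶ W) {V : C} (a : V ⟶ Y) :
    ((presheafToSheaf J (Type u)).map (yoneda.map g)).hom.app (op V) (eta J Y a) =
      eta J W (a ≫ g) := by
  have h := toSheafify_naturality J (yoneda.map g)
  have h2 := congrArg (fun φ => φ.app (op V)) h
  exact (ConcreteCategory.congr_hom h2 a).symm

lemma exists_eta (W : C) {U : C}
    (x : ((presheafToSheaf J (Type u)).obj (yoneda.obj W)).obj.obj (op U)) :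
    ∃ S ∈ J U, ∀ ⦃V : C⦄ (g : V ⟶ U), S g → ∃ a : V ⟶ W,
      eta J W a = ((presheafToSheaf J (Type u)).obj (yoneda.obj W)).obj.map g.op x := by
  refine ⟨Presheaf.imageSieve (toSheafify J (yoneda.obj W)) x,
    Presheaf.imageSieve_mem J (toSheafify J (yoneda.obj W)) x, ?_⟩
  rintro V g ⟨a, ha⟩
  exact ⟨a, ha⟩

lemma eta_eq (W : C) {U : C} (a b : U ⟶ W) (h : eta J W a = eta J W b) :
    ∃ S ∈ J U, ∀ ⦃V : C⦄ (g : V ⟶ U), S g → g ≫ a = g ≫ b := by
  refine ⟨Presheaf.equalizerSieve (F := yoneda.obj W) (X := op U) a b,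
    Presheaf.equalizerSieve_mem J (toSheafify J (yoneda.obj W)) a b h, ?_⟩
  intro V g hg
  exact hg

variable {J}

/-- a covering family induces a jointly surjective family of sheaves of sets. -/
theorem jointlySurjective_of_covering {W : C} {κ : Type u} (Y : κ → C) (g : ∀ k, Y k ⟶ W)
    (h : Sieve.ofArrows Y g ∈ J W) :
    CohCx.JointlySurjective
      (fun k => (presheafToSheaf J (Type u)).map (yoneda.map (g k))) := by
  intro U x
  let T : Sieve U :=
    { arrows := fun V g' => ∃ (k : κ)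
        (y : ((presheafToSheaf J (Type u)).obj (yoneda.obj (Y k))).obj.obj (op V)),
        ((presheafToSheaf J (Type u)).map (yoneda.map (g k))).hom.app (op V) y =
          ((presheafToSheaf J (Type u)).obj (yoneda.obj W)).obj.map g'.op x
      downward_closed := by
        rintro V V' g' ⟨k, y, hy⟩ h'
        refine ⟨k, ((presheafToSheaf J (Type u)).obj (yoneda.obj (Y k))).obj.map h'.op y, ?_⟩
        have hn := NatTrans.naturality_apply
          ((presheafToSheaf J (Type u)).map (yoneda.map (g k))).hom h'.op y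
        rw [hn, hy, op_comp, Functor.map_comp]
        rfl }
  refine ⟨T, ?_, fun V g' hg' => hg'⟩
  obtain ⟨S, hS, hS'⟩ := exists_eta J W x
  refine J.transitive hS T (fun V g' hg' => ?_)
  obtain ⟨a, ha⟩ := hS' g' hg'
  refine J.superset_covering ?_ (J.pullback_stable a h)
  intro V' h' hh'
  have hh2 : Sieve.ofArrows Y g (h' ≫ a) := hh'
  rw [Sieve.mem_ofArrows_iff] at hh2
  obtain ⟨k, b, hb⟩ := hh2
  show T (h' ≫ g')
  refine ⟨k, eta J (Y k) b, ?_⟩
  rw [eta_map, ← hb, ← eta_res, ha, op_comp, Functor.map_comp]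
  rfl

/-- a jointly surjective family of representable maps comes from a covering family. -/
theorem covering_of_jointlySurjective {W : C} {κ : Type u} (Y : κ → C) (g : ∀ k, Y k ⟶ W)
    (h : CohCx.JointlySurjective
      (fun k => (presheafToSheaf J (Type u)).map (yoneda.map (g k)))) :
    Sieve.ofArrows Y g ∈ J W := by
  obtain ⟨S, hS, hS'⟩ := h W (eta J W (𝟙 W))
  refine J.transitive hS _ (fun V g' hg' => ?_)
  obtain ⟨k, y, hy⟩ := hS' V g' hg'
  rw [eta_res, Category.comp_id] at hy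
  obtain ⟨S₁, hS₁, hS₁'⟩ := exists_eta J (Y k) y
  refine J.transitive hS₁ _ (fun V' h' hh' => ?_)
  obtain ⟨b, hb⟩ := hS₁' h' hh'
  have e1 : eta J W (b ≫ g k) = eta J W (h' ≫ g') := by
    rw [← eta_map, hb]
    have hn := NatTrans.naturality_apply
      ((presheafToSheaf J (Type u)).map (yoneda.map (g k))).hom h'.op y
    rw [hn, hy, eta_res]
  obtain ⟨S₂, hS₂, hS₂'⟩ := eta_eq J W _ _ e1
  refine J.superset_covering ?_ hS₂
  intro V'' l hl
  show Sieve.ofArrows Y g ((l ≫ h') ≫ g')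
  rw [Sieve.mem_ofArrows_iff]
  refine ⟨k, l ≫ b, ?_⟩
  rw [Category.assoc, Category.assoc, hS₂' l hl]

end Repr

section Free
variable {C : Type u} [SmallCategory C] {J : GrothendieckTopology C}
  (O : Sheaf J CommRingCat.{u})

/-- the map `j_{U!}O_U ⟶ M` classifying a section of `M` over `U`. -/
noncomputable def ofSec {U : C} (M : ModSite.Mod O) (s : M.val.obj (op U)) :
    ModSite.freeOn O U ⟶ M :=
  (freeOnEquiv O U M).symm s

lemma ofSec_injective {U : C} (M : ModSite.Mod O) :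
    Function.Injective (ofSec O (U := U) M) :=
  (freeOnEquiv O U M).symm.injective

lemma ofSec_freeOnEquiv {U : C} (M : ModSite.Mod O) (ψ : ModSite.freeOn O U ⟶ M) :
    ofSec O M (freeOnEquiv O U M ψ) = ψ :=
  (freeOnEquiv O U M).symm_apply_apply ψ

lemma ofSec_comp {U : C} {M M' : ModSite.Mod O} (s : M.val.obj (op U)) (g : M ⟶ M') :
    ofSec O M s ≫ g = ofSec O M' (g.val.app (op U) s) := by
  apply (freeOnEquiv O U M').injective
  rw [freeOnEquiv_comp]
  simp only [ofSec, Equiv.apply_symm_apply]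

/-- the universal section of `j_{U!}O_U` over `U`. -/
noncomputable def uSec (U : C) : (ModSite.freeOn O U).val.obj (op U) :=
  freeOnEquiv O U _ (𝟙 _)

lemma app_uSec {U : C} {M : ModSite.Mod O} (ψ : ModSite.freeOn O U ⟶ M) :
    ψ.val.app (op U) (uSec O U) = freeOnEquiv O U M ψ := by
  have h := freeOnEquiv_comp O U (𝟙 (ModSite.freeOn O U)) ψ
  rw [Category.id_comp] at h
  exact h.symm

/-- functoriality of `j_{U!}O_U` in `U`. -/
noncomputable def fmap {V U : C} (g : V ⟶ U) : ModSite.freeOn O V ⟶ ModSite.freeOn O U :=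
  ofSec O _ (rs (ModSite.freeOn O U) g (uSec O U))

lemma fmap_ofSec {V U : C} (g : V ⟶ U) (M : ModSite.Mod O) (s : M.val.obj (op U)) :
    fmap O g ≫ ofSec O M s = ofSec O M (rs M g s) := by
  unfold fmap
  rw [ofSec_comp, app_rs, app_uSec]
  simp only [ofSec, Equiv.apply_symm_apply]

omit O in
/-- sections agreeing on a covering family are equal. -/
lemma eq_of_ofArrows {R : Sheaf J RingCat.{u}} (M : SheafOfModules.{u} R) {W : C} {K : Type w}
    (Y : K → C) (g : ∀ k, Y k ⟶ W) (h : Sieve.ofArrows Y g ∈ J W) (x y : M.val.obj (op W))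
    (hxy : ∀ k, rs M (g k) x = rs M (g k) y) : x = y := by
  apply eq_of_eqSieve_mem M
  refine J.superset_covering ?_ h
  intro V f hf
  have hf' : Sieve.ofArrows Y g f := hf
  rw [Sieve.mem_ofArrows_iff] at hf'
  obtain ⟨k, a, rfl⟩ := hf'
  show rs M (a ≫ g k) x = rs M (a ≫ g k) y
  rw [← rs_rs, ← rs_rs, hxy]

section Sums
variable {K : Type w} [Finite K] (Y : K → C)

/-- the finite direct sum of the `j_{Y_k !}O`. -/
noncomputable abbrev PB : ModSite.Mod O := ∐ fun k => ModSite.freeOn O (Y k)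

/-- the map out of the sum classifying a family of sections. -/
noncomputable def dS (M : ModSite.Mod O) (s : ∀ k, M.val.obj (op (Y k))) : PB O Y ⟶ M :=
  Sigma.desc (fun k => ofSec O M (s k))

lemma ι_dS (M : ModSite.Mod O) (s : ∀ k, M.val.obj (op (Y k))) (k : K) :
    Sigma.ι (fun k => ModSite.freeOn O (Y k)) k ≫ dS O Y M s = ofSec O M (s k) :=
  Sigma.ι_desc _ _

end Sums

section SumDesc
variable {L : Type w} {K' : Type w'} [Finite L] [Finite K'] (Y : L → C) (V : K' → C)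
  {N : ModSite.Mod O}

/-- a map out of a sum indexed by a disjoint union, given on the two parts. -/
noncomputable def sumDesc (β : PB O Y ⟶ N) (ψ : PB O V ⟶ N) : PB O (Sum.elim Y V) ⟶ N :=
  Sigma.desc (fun x => match x with
    | Sum.inl l => Sigma.ι (fun l => ModSite.freeOn O (Y l)) l ≫ β
    | Sum.inr j => Sigma.ι (fun j => ModSite.freeOn O (V j)) j ≫ ψ)

lemma inl_sumDesc (β : PB O Y ⟶ N) (ψ : PB O V ⟶ N) (l : L) :
    Sigma.ι (fun x => ModSite.freeOn O (Sum.elim Y V x)) (Sum.inl l) ≫ sumDesc O Y V β ψ =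
      Sigma.ι (fun l => ModSite.freeOn O (Y l)) l ≫ β :=
  Sigma.ι_desc _ _

lemma inr_sumDesc (β : PB O Y ⟶ N) (ψ : PB O V ⟶ N) (j : K') :
    Sigma.ι (fun x => ModSite.freeOn O (Sum.elim Y V x)) (Sum.inr j) ≫ sumDesc O Y V β ψ =
      Sigma.ι (fun j => ModSite.freeOn O (V j)) j ≫ ψ :=
  Sigma.ι_desc _ _

lemma sumDesc_comp_eq_zero_iff (β : PB O Y ⟶ N) (ψ : PB O V ⟶ N) {T : ModSite.Mod O}
    (k : N ⟶ T) : sumDesc O Y V β ψ ≫ k = 0 ↔ β ≫ k = 0 ∧ ψ ≫ k = 0 := by
  constructor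
  · intro h
    constructor
    · apply Sigma.hom_ext
      intro l
      have e : (Sigma.ι (fun x => ModSite.freeOn O (Sum.elim Y V x)) (Sum.inl l) ≫
          sumDesc O Y V β ψ) ≫ k = 0 := by
        rw [Category.assoc, h, comp_zero]
      rw [inl_sumDesc] at e
      rw [comp_zero, ← Category.assoc]
      exact e
    · apply Sigma.hom_ext
      intro j
      have e : (Sigma.ι (fun x => ModSite.freeOn O (Sum.elim Y V x)) (Sum.inr j) ≫
          sumDesc O Y V β ψ) ≫ k = 0 := by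
        rw [Category.assoc, h, comp_zero]
      rw [inr_sumDesc] at e
      rw [comp_zero, ← Category.assoc]
      exact e
  · rintro ⟨h1, h2⟩
    apply Sigma.hom_ext
    rintro (l | j)
    · rw [comp_zero, ← Category.assoc, inl_sumDesc]
      show (Sigma.ι (fun l => ModSite.freeOn O (Y l)) l ≫ β) ≫ k = 0
      rw [Category.assoc, h1, comp_zero]
    · rw [comp_zero, ← Category.assoc, inr_sumDesc]
      show (Sigma.ι (fun j => ModSite.freeOn O (V j)) j ≫ ψ) ≫ k = 0
      rw [Category.assoc, h2, comp_zero]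

end SumDesc

section Refine
variable (B : Set C)

/-- a section of the target of an epimorphism over a quasi-compact object lifts along a finite
covering family by members of `B`. -/
theorem exists_local_lifts
    (hB₁ : ∀ X : C, ∃ (κ : Type u) (Y : κ → C) (g : ∀ k, Y k ⟶ X),
      Sieve.ofArrows Y g ∈ J X ∧ ∀ k, Y k ∈ B)
    (W : C) (hW : CohCx.IsQcObject ((presheafToSheaf J (Type u)).obj (yoneda.obj W)))
    {N G : ModSite.Mod O} (π : N ⟶ G) [Epi π] (s : G.val.obj (op W)) :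
    ∃ (K : Type u) (_ : Finite K) (Y : K → C) (g : ∀ k, Y k ⟶ W)
      (t : ∀ k, N.val.obj (op (Y k))),
      (∀ k, Y k ∈ B) ∧ Sieve.ofArrows Y g ∈ J W ∧
        ∀ k, π.val.app (op (Y k)) (t k) = rs G (g k) s := by
  obtain ⟨S, hS, hS'⟩ := exists_sieve_of_epi π W s
  let κ : Type u := {q : Σ V : C, V ⟶ W //
    q.1 ∈ B ∧ ∃ t : N.val.obj (op q.1), π.val.app (op q.1) t = rs G q.2 s}
  let Y : κ → C := fun q => q.1.1
  let g : ∀ q : κ, Y q ⟶ W := fun q => q.1.2
  have hcov : Sieve.ofArrows Y g ∈ J W := by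
    refine J.transitive hS _ (fun V f hf => ?_)
    obtain ⟨κ', Y', g', hcov', hB'⟩ := hB₁ V
    obtain ⟨t, ht⟩ := hS' f hf
    refine J.superset_covering ?_ hcov'
    intro Z h hh
    have hh2 : Sieve.ofArrows Y' g' h := hh
    rw [Sieve.mem_ofArrows_iff] at hh2
    obtain ⟨k, b, rfl⟩ := hh2
    show Sieve.ofArrows Y g ((b ≫ g' k) ≫ f)
    rw [Sieve.mem_ofArrows_iff]
    have hq : π.val.app (op (Y' k)) (rs N (g' k) t) = rs G (g' k ≫ f) s := by
      rw [app_rs, ht, rs_rs]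
    exact ⟨⟨⟨Y' k, g' k ≫ f⟩, hB' k, rs N (g' k) t, hq⟩, b, by rw [Category.assoc]⟩
  have hjs := jointlySurjective_of_covering Y g hcov
  obtain ⟨T, hT⟩ := hW κ _ _ hjs
  have hcovT : Sieve.ofArrows (fun k : T => Y k.1) (fun k : T => g k.1) ∈ J W :=
    covering_of_jointlySurjective (fun k : T => Y k.1) (fun k : T => g k.1) hT
  exact ⟨T, inferInstance, fun k => Y k.1, fun k => g k.1, fun k => k.1.2.2.choose,
    fun k => k.1.2.1, hcovT, fun k => k.1.2.2.choose_spec⟩

/-- the map on finite sums induced by covering families of the summands is an epimorphism. -/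
lemma epi_refine {I : Type u} [Finite I] (U : I → C) (K : I → Type u) [∀ i, Finite (K i)]
    (Y : ∀ i, K i → C) (g : ∀ i k, Y i k ⟶ U i)
    (hcov : ∀ i, Sieve.ofArrows (Y i) (g i) ∈ J (U i)) :
    Epi (Sigma.desc (fun p : Σ i, K i =>
        fmap O (g p.1 p.2) ≫ Sigma.ι (fun i => ModSite.freeOn O (U i)) p.1) :
      PB O (fun p : Σ i, K i => Y p.1 p.2) ⟶ PB O U) := by
  constructor
  intro M a b hab
  apply Sigma.hom_ext
  intro i
  have ha := ofSec_freeOnEquiv O M (Sigma.ι (fun k => ModSite.freeOn O (U k)) i ≫ a)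
  have hb := ofSec_freeOnEquiv O M (Sigma.ι (fun k => ModSite.freeOn O (U k)) i ≫ b)
  rw [← ha, ← hb]
  congr 1
  apply eq_of_ofArrows M (Y i) (g i) (hcov i)
  intro k
  apply ofSec_injective O M
  rw [← fmap_ofSec, ← fmap_ofSec, ofSec_freeOnEquiv, ofSec_freeOnEquiv]
  have e : ∀ c : PB O U ⟶ M,
      fmap O (g i k) ≫ (Sigma.ι (fun k => ModSite.freeOn O (U k)) i ≫ c) =
      Sigma.ι (fun p : Σ i, K i => ModSite.freeOn O (Y p.1 p.2)) ⟨i, k⟩ ≫
        (Sigma.desc (fun p : Σ i, K i =>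
          fmap O (g p.1 p.2) ≫ Sigma.ι (fun i => ModSite.freeOn O (U i)) p.1) ≫ c) := by
    intro c
    rw [← Category.assoc, ← Category.assoc, Sigma.ι_desc]
  rw [e a, e b, hab]

/-- a map from a finite sum of `j_{U_i !}O` (`U_i ∈ B`) to the target of an epimorphism lifts after
refining the sum. -/
theorem exists_refinement
    (hB₁ : ∀ X : C, ∃ (κ : Type u) (Y : κ → C) (g : ∀ k, Y k ⟶ X),
      Sieve.ofArrows Y g ∈ J X ∧ ∀ k, Y k ∈ B)
    (hB₂ : ∀ U ∈ B, CohCx.IsQcObject ((presheafToSheaf J (Type u)).obj (yoneda.obj U)))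
    {I : Type u} [Finite I] (U : I → C) (hU : ∀ i, U i ∈ B)
    {N G : ModSite.Mod O} (π : N ⟶ G) [Epi π] (γ : PB O U ⟶ G) :
    ∃ (K : Type u) (_ : Finite K) (Y : K → C) (ρ : PB O Y ⟶ PB O U) (β : PB O Y ⟶ N),
      (∀ k, Y k ∈ B) ∧ Epi ρ ∧ β ≫ π = ρ ≫ γ := by
  have h := fun i => exists_local_lifts O B hB₁ (U i) (hB₂ _ (hU i)) π
    (freeOnEquiv O (U i) G (Sigma.ι (fun i => ModSite.freeOn O (U i)) i ≫ γ))
  choose K hK Y g t hYB hcov ht using h
  haveI : ∀ i, Finite (K i) := hK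
  refine ⟨Σ i, K i, inferInstance, fun p => Y p.1 p.2,
    Sigma.desc (fun p : Σ i, K i =>
      fmap O (g p.1 p.2) ≫ Sigma.ι (fun i => ModSite.freeOn O (U i)) p.1),
    dS O (fun p : Σ i, K i => Y p.1 p.2) N (fun p => t p.1 p.2), fun p => hYB p.1 p.2,
    epi_refine O U K Y g hcov, ?_⟩
  apply Sigma.hom_ext
  intro p
  rw [← Category.assoc, ι_dS, ← Category.assoc, Sigma.ι_desc, Category.assoc, ofSec_comp, ht,
    ← ofSec_freeOnEquiv O G (Sigma.ι (fun i => ModSite.freeOn O (U i)) p.1 ≫ γ), fmap_ofSec,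
    ofSec_freeOnEquiv]

end Refine


section TypeA
variable (B : Set C)

omit O in
lemma isCok_cokernel {A : Type*} [Category A] [HasZeroMorphisms A] {X Y : A} (f : X ⟶ Y)
    [HasCokernel f] : IsCok f (cokernel.π f) := by
  refine ⟨cokernel.condition f, fun T k hk => ⟨cokernel.desc f k hk, cokernel.π_desc f k hk, ?_⟩⟩
  intro y hy
  have hy' : cokernel.π f ≫ y = k := hy
  rw [← cancel_epi (cokernel.π f), hy', cokernel.π_desc]

/-- `M` is the cokernel of a map `⊕_{j ∈ I'} j_{V_j !}O ⟶ ⊕_{i ∈ I} j_{U_i !}O` with all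
`V_j`, `U_i` in `B`. -/
def PresByB (I' : Type w') (I : Type w) [Finite I'] [Finite I] (M : ModSite.Mod O) : Prop :=
  ∃ (V : I' → C) (U : I → C) (ψ : PB O V ⟶ PB O U) (π : PB O U ⟶ M),
    (∀ j, V j ∈ B) ∧ (∀ i, U i ∈ B) ∧ IsCok ψ π

/-- the form of the statements. -/
def TypeA (M : ModSite.Mod O) : Prop :=
  ∃ (m' n' : ℕ) (V' : Fin m' → C) (U' : Fin n' → C)
    (ψ : (∐ fun j => ModSite.freeOn O (V' j)) ⟶ ∐ fun i => ModSite.freeOn O (U' i)),
    (∀ j, V' j ∈ B) ∧ (∀ i, U' i ∈ B) ∧ Nonempty (M ≅ cokernel ψ)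

variable {B} {M : ModSite.Mod O}

lemma PresByB.reindex {I' : Type w'} {I : Type w} {K' : Type*} {K : Type*}
    [Finite I'] [Finite I] [Finite K'] [Finite K] (e' : I' ≃ K') (e : I ≃ K)
    (h : PresByB O B I' I M) : PresByB O B K' K M := by
  obtain ⟨V, U, ψ, π, hV, hU, hc⟩ := h
  let r' := Sigma.reindex e'.symm (fun j => ModSite.freeOn O (V j))
  let r := Sigma.reindex e.symm (fun i => ModSite.freeOn O (U i))
  exact ⟨fun k => V (e'.symm k), fun k => U (e.symm k), r'.hom ≫ ψ ≫ r.inv, r.hom ≫ π,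
    fun j => hV _, fun i => hU _, (hc.iso_mid r.symm).of_epi_comp r'.hom⟩

lemma TypeA.toPresByB (h : TypeA O B M) : ∃ m' n' : ℕ, PresByB O B (Fin m') (Fin n') M := by
  obtain ⟨m', n', V', U', ψ, hV, hU, ⟨e⟩⟩ := h
  exact ⟨m', n', V', U', ψ, cokernel.π ψ ≫ e.inv, hV, hU, (isCok_cokernel ψ).iso_tgt e.symm⟩

lemma PresByB.toTypeA {m' n' : ℕ} (h : PresByB O B (Fin m') (Fin n') M) : TypeA O B M := by
  obtain ⟨V', U', ψ, π, hV, hU, hc⟩ := h
  exact ⟨m', n', V', U', ψ, hV, hU,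
    ⟨hc.isColimit.coconePointUniqueUpToIso (colimit.isColimit _)⟩⟩

lemma PresByB.toTypeA' {I' : Type w'} {I : Type w} [Finite I'] [Finite I]
    (h : PresByB O B I' I M) : TypeA O B M :=
  (h.reindex O (Finite.equivFin I') (Finite.equivFin I)).toTypeA O

lemma TypeA.toPresByB' (h : TypeA O B M) :
    ∃ m' n' : ℕ, PresByB O B (ULift.{u} (Fin m')) (ULift.{u} (Fin n')) M := by
  obtain ⟨m', n', h⟩ := h.toPresByB O
  exact ⟨m', n', h.reindex O Equiv.ulift.symm Equiv.ulift.symm⟩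

/-- the cokernel of a map between cokernels of maps of finite sums of `j_{U!}O`, `U ∈ B`. -/
theorem PresByB.cokernel
    (hB₁ : ∀ X : C, ∃ (κ : Type u) (Y : κ → C) (g : ∀ k, Y k ⟶ X),
      Sieve.ofArrows Y g ∈ J X ∧ ∀ k, Y k ∈ B)
    (hB₂ : ∀ U ∈ B, CohCx.IsQcObject ((presheafToSheaf J (Type u)).obj (yoneda.obj U)))
    {I' I K' K : Type u} [Finite I'] [Finite I] [Finite K'] [Finite K] {F G : ModSite.Mod O}
    (hF : PresByB O B I' I F) (hG : PresByB O B K' K G) (α : F ⟶ G) :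
    ∃ (L : Type u) (_ : Finite L), PresByB O B (L ⊕ K') K (Limits.cokernel α) := by
  obtain ⟨VF, UF, ψF, πF, hVF, hUF, hcF⟩ := hF
  obtain ⟨VG, UG, ψG, πG, hVG, hUG, hcG⟩ := hG
  haveI : Epi πG := hcG.epi
  haveI : Epi πF := hcF.epi
  obtain ⟨L, hL, Y, ρ, β, hYB, hρ, hβ⟩ := exists_refinement O B hB₁ hB₂ UF hUF πG (πF ≫ α)
  haveI := hL
  haveI := hρ
  refine ⟨L, hL, Sum.elim Y VG, UG, sumDesc O Y VG β ψG, πG ≫ cokernel.π α, ?_, hUG, ?_, ?_⟩
  · rintro (l | j)
    exacts [hYB l, hVG j]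
  · rw [sumDesc_comp_eq_zero_iff]
    constructor
    · rw [← Category.assoc, hβ]
      simp only [Category.assoc, cokernel.condition, comp_zero]
    · rw [← Category.assoc, hcG.1, zero_comp]
  · intro T k hk
    rw [sumDesc_comp_eq_zero_iff] at hk
    obtain ⟨k1, hk1, -⟩ := hcG.2 k hk.2
    have hk1' : πG ≫ k1 = k := hk1
    have h0 : α ≫ k1 = 0 := by
      rw [← cancel_epi πF, ← cancel_epi ρ, comp_zero, comp_zero]
      have e : ρ ≫ πF ≫ α ≫ k1 = (β ≫ πG) ≫ k1 := by
        rw [hβ]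
        simp only [Category.assoc]
      rw [e, Category.assoc, hk1', hk.1]
    refine ⟨cokernel.desc α k1 h0, ?_, ?_⟩
    · show (πG ≫ cokernel.π α) ≫ cokernel.desc α k1 h0 = k
      rw [Category.assoc, cokernel.π_desc, hk1']
    · intro y hy
      have hy' : (πG ≫ cokernel.π α) ≫ y = k := hy
      rw [← cancel_epi (πG ≫ cokernel.π α), hy', Category.assoc, cokernel.π_desc, hk1']

/-- **S9115**: the cokernel of a map between modules of type A is of type A. -/
theorem typeA_cokernel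
    (hB₁ : ∀ X : C, ∃ (κ : Type u) (Y : κ → C) (g : ∀ k, Y k ⟶ X),
      Sieve.ofArrows Y g ∈ J X ∧ ∀ k, Y k ∈ B)
    (hB₂ : ∀ U ∈ B, CohCx.IsQcObject ((presheafToSheaf J (Type u)).obj (yoneda.obj U)))
    {F G : ModSite.Mod O} (α : F ⟶ G) (hF : TypeA O B F) (hG : TypeA O B G) :
    TypeA O B (Limits.cokernel α) := by
  obtain ⟨m1, n1, hF'⟩ := hF.toPresByB' O
  obtain ⟨m2, n2, hG'⟩ := hG.toPresByB' O
  obtain ⟨L, hL, h⟩ := PresByB.cokernel O hB₁ hB₂ hF' hG' α
  haveI := hL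
  exact h.toTypeA' O

end TypeA

end Free

end Groth.Agent.LD.RSp.TA
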