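import Groth.Agent.Lib.Lead.RSp.Gen

/-! # Finite free sheaves of modules on a small site: coordinates. Sections on a site with a
terminal object. Sections of kernels. -/

universe u
open CategoryTheory Limits Opposite

namespace Groth.Agent.LD.RSp

section Free
variable {C : Type u} [SmallCategory C] {J : GrothendieckTopology C} (R : Sheaf J RingCat.{u})
variable (I : Type u) [Fintype I] [DecidableEq I]

/-- the projections of a finite free module. -/
noncomputable def proj (i : I) : SheafOfModules.free (R := R) I ⟶ SheafOfModules.unit R :=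
  Cofan.IsColimit.desc (SheafOfModules.isColimitFreeCofan I)
    (fun j => if j = i then 𝟙 _ else 0)

lemma ιFree_proj (i j : I) : SheafOfModules.ιFree j ≫ proj R I i =
    if j = i then 𝟙 (SheafOfModules.unit R) else 0 :=
  Cofan.IsColimit.fac (SheafOfModules.isColimitFreeCofan (R := R) I)
    (fun j => if j = i then 𝟙 (SheafOfModules.unit R) else 0) j

lemma sum_proj_ιFree :
    ∑ i, proj R I i ≫ SheafOfModules.ιFree i = 𝟙 (SheafOfModules.free (R := R) I) := by
  apply Cofan.IsColimit.hom_ext (SheafOfModules.isColimitFreeCofan I)
  intro j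
  change SheafOfModules.ιFree (R := R) j ≫
      (∑ i, proj R I i ≫ SheafOfModules.ιFree i : SheafOfModules.free (R := R) I ⟶
        SheafOfModules.free (R := R) I) =
    SheafOfModules.ιFree (R := R) j ≫ 𝟙 (SheafOfModules.free (R := R) I)
  rw [Preadditive.comp_sum, Category.comp_id]
  rw [Finset.sum_eq_single j]
  · rw [← Category.assoc, ιFree_proj, if_pos rfl, Category.id_comp]
  · intro i _ hij
    rw [← Category.assoc, ιFree_proj, if_neg (Ne.symm hij), zero_comp]
  · intro h
    exact absurd (Finset.mem_univ j) h

/-- the basis sections of a finite free module. -/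
noncomputable def bas (i : I) (U : C) : (SheafOfModules.free (R := R) I).val.obj (op U) :=
  evAt _ _ U (SheafOfModules.ιFree (R := R) i) (1 : R.obj.obj (op U))

/-- the coordinates of a section of a finite free module. -/
noncomputable def coord (i : I) (U : C) :
    (SheafOfModules.free (R := R) I).val.obj (op U) →ₗ[R.obj.obj (op U)] R.obj.obj (op U) :=
  evAt _ _ U (proj R I i)

lemma coord_bas (i j : I) (U : C) :
    coord R I i U (bas R I j U) = if j = i then 1 else 0 := by
  have h : evAt _ _ U (SheafOfModules.ιFree j ≫ proj R I i) (1 : R.obj.obj (op U)) =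
      coord R I i U (bas R I j U) := rfl
  rw [← h, ιFree_proj]
  split_ifs
  · rfl
  · rfl

lemma eq_sum_coord_bas (U : C) (z : (SheafOfModules.free (R := R) I).val.obj (op U)) :
    z = ∑ i, coord R I i U z • bas R I i U := by
  have h1 := evAt_id (SheafOfModules.free (R := R) I) U z
  rw [← sum_proj_ιFree, map_sum, LinearMap.sum_apply] at h1
  refine h1.symm.trans (Finset.sum_congr rfl fun i _ => ?_)
  exact lin_apply_eq_smul_one (A := R.obj.obj (op U))
    (evAt _ _ U (SheafOfModules.ιFree (R := R) i)) (evAt _ _ U (proj R I i) z)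

lemma coord_sum_bas (U : C) (c : I → R.obj.obj (op U)) (i : I) :
    coord R I i U (∑ j, c j • bas R I j U) = c i := by
  rw [map_sum]
  simp only [map_smul, coord_bas, smul_eq_mul, mul_ite, mul_one, mul_zero]
  rw [Finset.sum_eq_single i]
  · rw [if_pos rfl]
  · intro j _ hji
    rw [if_neg hji]
  · intro h
    exact absurd (Finset.mem_univ i) h

lemma ext_coord (U : C) (z z' : (SheafOfModules.free (R := R) I).val.obj (op U))
    (h : ∀ i, coord R I i U z = coord R I i U z') : z = z' := by
  rw [eq_sum_coord_bas R I U z, eq_sum_coord_bas R I U z']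
  exact Finset.sum_congr rfl fun i _ => by rw [h i]

lemma rs_unit_apply {V W : C} (g : W ⟶ V) (a : R.obj.obj (op V)) :
    rs (SheafOfModules.unit R) g a = R.obj.map g.op a := rfl

lemma rs_bas (i : I) {V W : C} (g : W ⟶ V) :
    rs (SheafOfModules.free (R := R) I) g (bas R I i V) = bas R I i W := by
  have h := app_rs (SheafOfModules.ιFree (R := R) i) g (1 : R.obj.obj (op V))
  rw [rs_unit_apply, map_one] at h
  exact h.symm

lemma coord_rs (i : I) {V W : C} (g : W ⟶ V)
    (z : (SheafOfModules.free (R := R) I).val.obj (op V)) :
    coord R I i W (rs (SheafOfModules.free (R := R) I) g z) =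
      R.obj.map g.op (coord R I i V z) :=
  app_rs (proj R I i) g z

lemma freeHom_bas (M : SheafOfModules.{u} R) (s : I → M.sections) (i : I) (U : C) :
    evAt _ _ U (M.freeHomEquiv.symm s) (bas R I i U) =
      PresheafOfModules.sections.eval (s i) (op U) :=
  freeHom_apply_basis M s U i

lemma freeHom_sum_bas (M : SheafOfModules.{u} R) (s : I → M.sections) (U : C)
    (c : I → R.obj.obj (op U)) :
    evAt _ _ U (M.freeHomEquiv.symm s) (∑ i, c i • bas R I i U) =
      ∑ i, c i • PresheafOfModules.sections.eval (s i) (op U) := by
  rw [map_sum]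
  refine Finset.sum_congr rfl fun i _ => ?_
  rw [map_smul, freeHom_bas]

end Free

section Terminal
variable {C : Type u} [SmallCategory C] {J : GrothendieckTopology C} {R : Sheaf J RingCat.{u}}
variable {T : C} (hT : IsTerminal T)

/-- the section attached to an element over the terminal object. -/
noncomputable def secOfTerminal (N : SheafOfModules.{u} R) (z : N.val.obj (op T)) :
    N.sections :=
  PresheafOfModules.sectionsMk (M := N.val)
    (fun Y => rs N (hT.from Y.unop) z)
    (fun Y Z f => by
      change rs N f.unop (rs N (hT.from Y.unop) z) = rs N (hT.from Z.unop) z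
      rw [rs_rs]
      congr 1
      exact hT.hom_ext _ _)

lemma secOfTerminal_eval (N : SheafOfModules.{u} R) (z : N.val.obj (op T)) (Y : C) :
    PresheafOfModules.sections.eval (secOfTerminal hT N z) (op Y) = rs N (hT.from Y) z := rfl

lemma eval_eq_rs (N : SheafOfModules.{u} R) (σ : N.sections) (Y : C) :
    PresheafOfModules.sections.eval σ (op Y) =
      rs N (hT.from Y) (PresheafOfModules.sections.eval σ (op T)) :=
  (PresheafOfModules.sections_property σ (hT.from Y).op).symm

lemma secOfTerminal_evalT (N : SheafOfModules.{u} R) (σ : N.sections) :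
    secOfTerminal hT N (PresheafOfModules.sections.eval σ (op T)) = σ := by
  apply Subtype.ext
  funext Y
  exact PresheafOfModules.sections_property σ (hT.from Y.unop).op

lemma sectionsMap_eval {M N : SheafOfModules.{u} R} (φ : M ⟶ N) (σ : M.sections) (Y : C) :
    PresheafOfModules.sections.eval (SheafOfModules.sectionsMap φ σ) (op Y) =
      φ.val.app (op Y) (PresheafOfModules.sections.eval σ (op Y)) := rfl

end Terminal

section Kernel
variable {C : Type u} [SmallCategory C] {J : GrothendieckTopology C} {R : Sheaf J RingCat.{u}}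

/-- sections of a kernel. -/
theorem exists_kernel_lift {M N : SheafOfModules.{u} R} (φ : M ⟶ N) (U : C)
    (m : M.val.obj (op U)) (hm : φ.val.app (op U) m = 0) :
    ∃ k : (kernel φ).val.obj (op U), (kernel.ι φ).val.app (op U) k = m :=
  exists_of_exact (S := ShortComplex.mk (kernel.ι φ) φ (kernel.condition φ))
    (ShortComplex.exact_of_f_is_kernel _ (kernelIsKernel φ)) U m hm

lemma kernel_ι_app {M N : SheafOfModules.{u} R} (φ : M ⟶ N) (U : C)
    (k : (kernel φ).val.obj (op U)) :
    φ.val.app (op U) ((kernel.ι φ).val.app (op U) k) = 0 := by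
  have h : (kernel.ι φ ≫ φ).val.app (op U) k = 0 := by
    rw [kernel.condition]
    rfl
  exact h

end Kernel

end Groth.Agent.LD.RSp
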