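import Groth.Agent.Lib.Lead.RSp.Gen

/-! # Sheaves of modules on a small site: generating sections of the restriction to a slice. -/

universe u
open CategoryTheory Limits Opposite

namespace Groth.Agent.LD.RSp

section Slice
variable {C : Type u} [SmallCategory C] {J : GrothendieckTopology C} {R : Sheaf J RingCat.{u}}

/-- the section of `M.over U` attached to an element of `M(U)`. -/
noncomputable def secOver (M : SheafOfModules.{u} R) (U : C) (t : M.val.obj (op U)) :
    (M.over U).sections :=
  PresheafOfModules.sectionsMk (M := (M.over U).val)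
    (fun Y => rs M Y.unop.hom t)
    (fun Y Z f => by
      change rs M f.unop.left (rs M Y.unop.hom t) = rs M Z.unop.hom t
      rw [rs_rs, Over.w])

lemma secOver_eval (M : SheafOfModules.{u} R) (U : C) (t : M.val.obj (op U)) (Y : Over U) :
    PresheafOfModules.sections.eval (secOver M U t) (op Y) = rs M Y.hom t := rfl

/-- evaluation of a section of `M.over U` at the terminal object of the slice. -/
noncomputable def evalId (M : SheafOfModules.{u} R) (U : C) (σ : (M.over U).sections) :
    M.val.obj (op U) :=
  σ.val (op (Over.mk (𝟙 U)))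

lemma secOver_evalId (M : SheafOfModules.{u} R) (U : C) (σ : (M.over U).sections) :
    secOver M U (evalId M U σ) = σ := by
  apply Subtype.ext
  funext Y
  exact PresheafOfModules.sections_property σ
    ((Over.homMk Y.unop.hom (by simp) : Y.unop ⟶ Over.mk (𝟙 U)).op)

/-- the sieve of arrows over which `t` becomes a combination of the `s i`. -/
def combSieve (M : SheafOfModules.{u} R) {U V : C} (f : V ⟶ U) {I : Type u} [Fintype I]
    (s : I → M.val.obj (op U)) (t : M.val.obj (op V)) : Sieve V where
  arrows W g := ∃ r : I → R.obj.obj (op W), rs M g t = ∑ i, r i • rs M (g ≫ f) (s i)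
  downward_closed := by
    rintro W Z g ⟨r, hr⟩ h
    refine ⟨fun i => R.obj.map h.op (r i), ?_⟩
    rw [← rs_rs, hr, rs_sum]
    refine Finset.sum_congr rfl fun i _ => ?_
    rw [rs_smul, rs_rs, Category.assoc]

/-- if finitely many sections over `U` generate `M.over U`, every section over an object above
`U` is locally a combination of them. -/
theorem locGen_of_epi {I : Type u} [Fintype I] (M : SheafOfModules.{u} R) (U : C)
    (s : I → M.val.obj (op U))
    (hs : Epi ((M.over U).freeHomEquiv.symm (fun i => secOver M U (s i))))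
    {V : C} (f : V ⟶ U) (t : M.val.obj (op V)) :
    ∃ S ∈ J V, ∀ ⦃W : C⦄ (g : W ⟶ V), S g →
      ∃ r : I → R.obj.obj (op W), rs M g t = ∑ i, r i • rs M (g ≫ f) (s i) := by
  obtain ⟨S, hS, hS'⟩ := exists_sieve_of_epi (J := J.over U) (R := R.over U)
    ((M.over U).freeHomEquiv.symm (fun i => secOver M U (s i))) (Over.mk f) t
  refine ⟨Sieve.overEquiv (Over.mk f) S, hS, ?_⟩
  intro W g hg
  rw [Sieve.overEquiv_iff] at hg
  obtain ⟨z, hz⟩ := hS' _ hg
  obtain ⟨r, hr⟩ := freeHom_apply_exists (R := R.over U) (M.over U)
    (fun i => secOver M U (s i)) (Over.mk (g ≫ f)) z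
  exact ⟨r, hz.symm.trans hr⟩

/-- conversely, sections over `U` of which every section above `U` is locally a combination
generate `M.over U`. -/
theorem epi_of_locGen {I : Type u} [Fintype I] (M : SheafOfModules.{u} R) (U : C)
    (s : I → M.val.obj (op U))
    (h : ∀ {V : C} (f : V ⟶ U) (t : M.val.obj (op V)),
      ∃ S ∈ J V, ∀ ⦃W : C⦄ (g : W ⟶ V), S g →
        ∃ r : I → R.obj.obj (op W), rs M g t = ∑ i, r i • rs M (g ≫ f) (s i)) :
    Epi ((M.over U).freeHomEquiv.symm (fun i => secOver M U (s i))) := by
  apply epi_of_exists_sieve (J := J.over U) (R := R.over U)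
  intro Y t
  obtain ⟨S, hS, hS'⟩ := h Y.hom t
  refine ⟨(Sieve.overEquiv Y).symm S, J.overEquiv_symm_mem_over Y S hS, ?_⟩
  intro Z g hg
  have hg' : S g.left := hg
  obtain ⟨r, hr⟩ := hS' g.left hg'
  rw [Over.w g] at hr
  let π := (M.over U).freeHomEquiv.symm (fun i => secOver M U (s i))
  let r' : I → (R.over U).obj.obj (op Z) := r
  let z : (SheafOfModules.free (R := R.over U) I).val.obj (op Z) :=
    ∑ i, r' i •
      evAt _ _ Z (SheafOfModules.ιFree (R := R.over U) i) (1 : (R.over U).obj.obj (op Z))
  have hz : evAt _ _ Z π z =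
      ∑ i, r' i • PresheafOfModules.sections.eval (secOver M U (s i)) (op Z) := by
    simp only [z, map_sum, map_smul]
    refine Finset.sum_congr rfl (fun i _ => ?_)
    congr 1
    exact freeHom_apply_basis (R := R.over U) (M.over U) (fun i => secOver M U (s i)) Z i
  exact ⟨z, hz.trans hr.symm⟩

/-- sieve form of `locGen_of_epi`. -/
theorem combSieve_mem_of_epi {I : Type u} [Fintype I] (M : SheafOfModules.{u} R) (U : C)
    (s : I → M.val.obj (op U))
    (hs : Epi ((M.over U).freeHomEquiv.symm (fun i => secOver M U (s i))))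
    {V : C} (f : V ⟶ U) (t : M.val.obj (op V)) : combSieve M f s t ∈ J V := by
  obtain ⟨S, hS, hS'⟩ := locGen_of_epi M U s hs f t
  exact J.superset_covering (fun W g hg => hS' g hg) hS

/-- sieve form of `epi_of_locGen`. -/
theorem epi_of_combSieve_mem {I : Type u} [Fintype I] (M : SheafOfModules.{u} R) (U : C)
    (s : I → M.val.obj (op U))
    (h : ∀ {V : C} (f : V ⟶ U) (t : M.val.obj (op V)), combSieve M f s t ∈ J V) :
    Epi ((M.over U).freeHomEquiv.symm (fun i => secOver M U (s i))) :=
  epi_of_locGen M U s (fun f t => ⟨combSieve M f s t, h f t, fun _ _ hg => hg⟩)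

end Slice

end Groth.Agent.LD.RSp
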