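import Groth.Agent.Lib.Lead.RSp.Pres
import Groth.Agent.Lib.Lead.RSp.Slice

/-! # Finite presentations of the restriction of a sheaf of modules to a slice, in terms of
sections and functions on the base site. -/

universe u
open CategoryTheory Limits Opposite

namespace Groth.Agent.LD.RSp

section SlicePres
variable {C : Type u} [SmallCategory C] {J : GrothendieckTopology C} {R : Sheaf J RingCat.{u}}

/-- the identity of `U` is terminal in the slice, with the evident comparison morphisms. -/
def overTerminal (U : C) : IsTerminal (Over.mk (𝟙 U)) :=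
  IsTerminal.ofUniqueHom (fun Y => Over.homMk Y.hom) (fun Y m => by
    ext
    simpa using Over.w m)

lemma secOver_eq_secOfTerminal (M : SheafOfModules.{u} R) (U : C) (t : M.val.obj (op U)) :
    secOver M U t = secOfTerminal (overTerminal U) (M.over U) t := by
  apply Subtype.ext
  funext Y
  rfl

/-- the sieve of arrows over which the coefficient family `c` becomes a combination of the
relation coefficients `ρ`. -/
def relSieveOver {U V : C} {ι κ : Type u} [Fintype κ] (ρ : κ → ι → R.obj.obj (op U))
    (f : V ⟶ U) (c : ι → R.obj.obj (op V)) : Sieve V where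
  arrows W g := ∃ d : κ → R.obj.obj (op W),
    ∀ i, R.obj.map g.op (c i) = ∑ j, d j * R.obj.map (g ≫ f).op (ρ j i)
  downward_closed := by
    rintro W Z g ⟨d, hd⟩ h
    refine ⟨fun j => R.obj.map h.op (d j), fun i => ?_⟩
    have e1 : R.obj.map (h ≫ g).op (c i) = R.obj.map h.op (R.obj.map g.op (c i)) := by
      rw [op_comp, Functor.map_comp]
      rfl
    rw [e1, hd i, map_sum]
    refine Finset.sum_congr rfl fun j _ => ?_
    rw [map_mul]
    congr 1
    have e2 : R.obj.map ((h ≫ g) ≫ f).op (ρ j i) =
        R.obj.map h.op (R.obj.map (g ≫ f).op (ρ j i)) := by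
      rw [Category.assoc, op_comp, Functor.map_comp]
      rfl
    exact e2.symm

/-- a finite presentation of `M.over U` gives relation coefficients over `U` which locally
generate all relations between the generators. -/
theorem relSieveOver_mem_of_presentation (M : SheafOfModules.{u} R) (U : C)
    (P : (M.over U).Presentation)
    [Fintype P.generators.I] [DecidableEq P.generators.I] [Fintype P.relations.I] :
    ∃ ρ : P.relations.I → P.generators.I → R.obj.obj (op U),
      (∀ j, ∑ i, ρ j i • evalId M U (P.generators.s i) = 0) ∧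
      ∀ {V : C} (f : V ⟶ U) (c : P.generators.I → R.obj.obj (op V)),
        ∑ i, c i • rs M f (evalId M U (P.generators.s i)) = 0 →
        relSieveOver ρ f c ∈ J V := by
  obtain ⟨ρ', h1, h2⟩ := relSieve_mem_of_presentation (overTerminal U) (M.over U) P
  let ρ : P.relations.I → P.generators.I → R.obj.obj (op U) := ρ'
  refine ⟨ρ, fun j => h1 j, ?_⟩
  intro V f c hc
  let c' : P.generators.I → (R.over U).obj.obj (op (Over.mk f)) := c
  have hc' : ∑ i, c' i • PresheafOfModules.sections.eval (P.generators.s i) (op (Over.mk f)) =
      0 := by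
    refine Eq.trans ?_ hc
    refine Finset.sum_congr rfl fun i _ => ?_
    congr 1
    exact (PresheafOfModules.sections_property (P.generators.s i)
      ((Over.homMk f (by simp) : Over.mk f ⟶ Over.mk (𝟙 U)).op)).symm
  have h3 := h2 (Over.mk f) c' hc'
  rw [GrothendieckTopology.mem_over_iff] at h3
  refine J.superset_covering ?_ h3
  intro W g hg
  rw [Sieve.overEquiv_iff] at hg
  obtain ⟨d, hd⟩ := hg
  exact ⟨d, hd⟩

/-- conversely, generators and relation coefficients over `U`, locally generating all
relations, give a finite presentation of `M.over U`. -/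
theorem exists_presentation_over (M : SheafOfModules.{u} R) (U : C) {ι κ : Type u}
    [Fintype ι] [DecidableEq ι] [Fintype κ] [DecidableEq κ]
    (e : ι → M.val.obj (op U)) (ρ : κ → ι → R.obj.obj (op U))
    (hgen : Epi ((M.over U).freeHomEquiv.symm (fun i => secOver M U (e i))))
    (h1 : ∀ j, ∑ i, ρ j i • e i = 0)
    (h2 : ∀ {V : C} (f : V ⟶ U) (c : ι → R.obj.obj (op V)),
      ∑ i, c i • rs M f (e i) = 0 → relSieveOver ρ f c ∈ J V) :
    ∃ P : (M.over U).Presentation, P.IsFinite := by
  let e' : ι → (M.over U).val.obj (op (Over.mk (𝟙 U))) := e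
  let ρ' : κ → ι → (R.over U).obj.obj (op (Over.mk (𝟙 U))) := ρ
  refine exists_presentation_of_relSieve (overTerminal U) (M.over U) e' ρ' ?_
    (fun j => h1 j) ?_
  · have e3 : (fun i => secOver M U (e i)) =
        fun i => secOfTerminal (overTerminal U) (M.over U) (e' i) :=
      funext fun i => secOver_eq_secOfTerminal M U (e i)
    rw [← e3]
    exact hgen
  · intro Y c hc
    let c'' : ι → R.obj.obj (op Y.left) := c
    have hc'' : ∑ i, c'' i • rs M Y.hom (e i) = 0 := hc
    have h3 := h2 Y.hom c'' hc''
    rw [GrothendieckTopology.mem_over_iff]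
    refine J.superset_covering ?_ h3
    rintro W g ⟨d, hd⟩
    rw [Sieve.overEquiv_iff]
    exact ⟨d, hd⟩

end SlicePres

end Groth.Agent.LD.RSp
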