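import Groth.Agent.Lib.Lead.RSp.Slice
import Groth.Agent.Lib.Lead.RSp.Free
import Groth.Agent.Lib.Lead.RSp.LocBasis

/-! # The restriction of a finite free module to a slice is the finite free module of the slice;
local lifting of maps from a direct summand of a finite free module through an epimorphism. -/

universe u
open CategoryTheory Limits Opposite

namespace Groth.Agent.LD.RSp

section CommonSieve
variable {C : Type u} [SmallCategory C] {J : GrothendieckTopology C}

/-- finitely many local conditions hold on a common covering sieve. -/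
theorem exists_common_sieve {ι : Type*} [Finite ι] {V : C}
    (P : ι → ∀ (W : C), (W ⟶ V) → Prop)
    (h : ∀ k, ∃ S ∈ J V, ∀ ⦃W : C⦄ (g : W ⟶ V), S g → P k W g) :
    ∃ S ∈ J V, ∀ ⦃W : C⦄ (g : W ⟶ V), S g → ∀ k, P k W g := by
  classical
  haveI := Fintype.ofFinite ι
  choose S hS hP using h
  have key : ∀ s : Finset ι, ∃ T ∈ J V, ∀ ⦃W : C⦄ (g : W ⟶ V), T g → ∀ k ∈ s, P k W g := by
    intro s
    induction s using Finset.induction_on with
    | empty => exact ⟨⊤, J.top_mem V, fun W g _ k hk => by simp at hk⟩
    | insert a s _ ih =>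
      obtain ⟨T, hT, hT'⟩ := ih
      refine ⟨S a ⊓ T, J.intersection_covering (hS a) hT, ?_⟩
      intro W g hg k hk
      obtain ⟨h1, h2⟩ := hg
      rcases Finset.mem_insert.1 hk with rfl | hk
      · exact hP _ g h1
      · exact hT' g h2 k hk
  obtain ⟨T, hT, hT'⟩ := key Finset.univ
  exact ⟨T, hT, fun W g hg k => hT' g hg k (Finset.mem_univ k)⟩

end CommonSieve

section FreeOver
variable {C : Type u} [SmallCategory C] {J : GrothendieckTopology C} (R : Sheaf J RingCat.{u})

lemma sectionsMap_over_secOver {R : Sheaf J RingCat.{u}} {M N : SheafOfModules.{u} R} (f : M ⟶ N)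
    (W : C) (t : M.val.obj (op W)) :
    SheafOfModules.sectionsMap ((SheafOfModules.overFunctor R W).map f) (secOver M W t) =
      secOver N W (f.val.app (op W) t) := by
  apply Subtype.ext
  funext Y
  exact app_rs f Y.unop.hom t

variable (I : Type u) [Fintype I] [DecidableEq I] (W : C)

/-- the canonical map from the free module of the slice to the restriction of the free module. -/
noncomputable def πOver :
    SheafOfModules.free (R := R.over W) I ⟶ (SheafOfModules.free (R := R) I).over W :=
  ((SheafOfModules.free (R := R) I).over W).freeHomEquiv.symm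
    (fun i => secOver (SheafOfModules.free (R := R) I) W (bas R I i W))

/-- coordinates on the slice, valued in the ring of the base. -/
noncomputable def coordO (i : I) (Y : Over W)
    (z : (SheafOfModules.free (R := R.over W) I).val.obj (op Y)) : R.obj.obj (op Y.left) :=
  coord (R.over W) I i Y z

lemma πOver_apply (Y : Over W) (z : (SheafOfModules.free (R := R.over W) I).val.obj (op Y)) :
    evAt _ _ Y (πOver R I W) z =
      (∑ i, coordO R I W i Y z • bas R I i Y.left :
        (SheafOfModules.free (R := R) I).val.obj (op Y.left)) := by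
  have h0 := eq_sum_coord_bas (R.over W) I Y z
  have h1 := freeHom_sum_bas (R.over W) I ((SheafOfModules.free (R := R) I).over W)
    (fun i => secOver (SheafOfModules.free (R := R) I) W (bas R I i W)) Y
    (fun i => coord (R.over W) I i Y z)
  rw [← h0] at h1
  have h2 : evAt _ _ Y (πOver R I W) z =
      (∑ i, coordO R I W i Y z •
        rs (SheafOfModules.free (R := R) I) Y.hom (bas R I i W) :
        (SheafOfModules.free (R := R) I).val.obj (op Y.left)) := h1
  rw [h2]
  refine Finset.sum_congr rfl fun i _ => ?_
  rw [rs_bas]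

instance mono_πOver : Mono (πOver R I W) := by
  apply mono_of_injective
  intro Y z z' h
  have h1 : evAt _ _ Y (πOver R I W) z = evAt _ _ Y (πOver R I W) z' := h
  have e1 := πOver_apply R I W Y z
  have e2 := πOver_apply R I W Y z'
  have h2 : (∑ i, coordO R I W i Y z • bas R I i Y.left :
      (SheafOfModules.free (R := R) I).val.obj (op Y.left)) =
      ∑ i, coordO R I W i Y z' • bas R I i Y.left := e1.symm.trans (h1.trans e2)
  apply ext_coord (R.over W) I Y
  intro j
  have h3 := congrArg (coord R I j Y.left) h2
  rw [coord_sum_bas, coord_sum_bas] at h3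
  exact h3

instance epi_πOver : Epi (πOver R I W) := by
  apply epi_of_exists_sieve (J := J.over W) (R := R.over W)
  intro Y t
  refine ⟨⊤, (J.over W).top_mem Y, ?_⟩
  intro V g _
  let t' : (SheafOfModules.free (R := R) I).val.obj (op V.left) :=
    rs ((SheafOfModules.free (R := R) I).over W) g t
  let c : I → (R.over W).obj.obj (op V) := fun i => coord R I i V.left t'
  refine ⟨∑ i, c i • bas (R.over W) I i V, ?_⟩
  have h1 := πOver_apply R I W V (∑ i, c i • bas (R.over W) I i V)
  have h2 : ∀ i, coordO R I W i V (∑ i, c i • bas (R.over W) I i V) = coord R I i V.left t' :=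
    fun i => coord_sum_bas (R.over W) I V c i
  have h3 : (∑ i, coordO R I W i V (∑ i, c i • bas (R.over W) I i V) • bas R I i V.left :
      (SheafOfModules.free (R := R) I).val.obj (op V.left)) =
      ∑ i, coord R I i V.left t' • bas R I i V.left :=
    Finset.sum_congr rfl (fun i _ => by rw [h2 i])
  exact h1.trans (h3.trans (eq_sum_coord_bas R I V.left t').symm)

instance isIso_πOver : IsIso (πOver R I W) := isIso_of_mono_of_epi _

end FreeOver

section Lift
variable {C : Type u} [SmallCategory C] {J : GrothendieckTopology C} (R : Sheaf J RingCat.{u})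

/-- a map from a direct summand of a finite free module lifts locally through an epimorphism. -/
theorem exists_local_lift_of_summand {E F G : SheafOfModules.{u} R} {I : Type u} [Fintype I]
    (ι : E ⟶ SheafOfModules.free (R := R) I) (q : SheafOfModules.free (R := R) I ⟶ E)
    (hιq : ι ≫ q = 𝟙 E) (p : G ⟶ F) [Epi p] (φ : E ⟶ F) (V : C) :
    ∃ S ∈ J V, ∀ ⦃W : C⦄ (g : W ⟶ V), S g →
      ∃ l : (SheafOfModules.overFunctor R W).obj E ⟶ (SheafOfModules.overFunctor R W).obj G,
        l ≫ (SheafOfModules.overFunctor R W).map p = (SheafOfModules.overFunctor R W).map φ := by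
  classical
  obtain ⟨ψ, hψ⟩ : ∃ ψ : SheafOfModules.free (R := R) I ⟶ F, ψ = q ≫ φ := ⟨_, rfl⟩
  have h := fun k : I => exists_sieve_of_epi p V (evAt _ _ V ψ (bas R I k V))
  obtain ⟨S, hS, hS'⟩ := exists_common_sieve (J := J) (V := V)
    (fun k W g => ∃ m : G.val.obj (op W),
      p.val.app (op W) m = rs F g (evAt _ _ V ψ (bas R I k V))) h
  refine ⟨S, hS, ?_⟩
  intro W g hg
  choose t ht using hS' g hg
  have ht' : ∀ k, p.val.app (op W) (t k) = ψ.val.app (op W) (bas R I k W) := by
    intro k
    rw [ht k]
    have h3 := app_rs ψ g (bas R I k V)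
    rw [rs_bas] at h3
    exact h3.symm
  have hA : (G.over W).freeHomEquiv.symm (fun k => secOver G W (t k)) ≫
      (SheafOfModules.overFunctor R W).map p =
      πOver R I W ≫ (SheafOfModules.overFunctor R W).map ψ := by
    unfold πOver
    rw [SheafOfModules.freeHomEquiv_symm_comp, SheafOfModules.freeHomEquiv_symm_comp]
    congr 1
    funext k
    rw [sectionsMap_over_secOver, sectionsMap_over_secOver, ht' k]
  refine ⟨(SheafOfModules.overFunctor R W).map ι ≫ inv (πOver R I W) ≫
    (G.over W).freeHomEquiv.symm (fun k => secOver G W (t k)), ?_⟩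
  rw [Category.assoc, Category.assoc, hA, IsIso.inv_hom_id_assoc,
    ← CategoryTheory.Functor.map_comp]
  congr 1
  rw [hψ, ← Category.assoc, hιq, Category.id_comp]

end Lift

end Groth.Agent.LD.RSp
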