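import Groth.Agent.Lib.Lead.RSp.SlicePres
import Groth.Agent.Lib.Lead.RSp.LocBasis
import Groth.Agent.Lib.Lead.RSp.FreeOver

/-! # Descending maps of free modules on a slice through generators whose relations are locally
generated by given relations. -/

universe u
open CategoryTheory Limits Opposite

namespace Groth.Agent.LD.RSp

section DescOver
variable {C : Type u} [SmallCategory C] {J : GrothendieckTopology C} {R : Sheaf J RingCat.{u}}

lemma sectionsMap_secOfTerminal {T : C} (hT : IsTerminal T) {N N' : SheafOfModules.{u} R}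
    (b : N ⟶ N') (z : N.val.obj (op T)) :
    SheafOfModules.sectionsMap b (secOfTerminal hT N z) =
      secOfTerminal hT N' (b.val.app (op T) z) := by
  apply Subtype.ext
  funext Y
  exact app_rs b (hT.from Y.unop) z

lemma left_eq_hom_of_terminal {V : C} {Z : Over V} (m : Z ⟶ Over.mk (𝟙 V)) : m.left = Z.hom := by
  have h := Over.w m
  simpa using h

/-- a family of sections of a module `N` on the slice over `V` which satisfies the (restricted)
relations of generators of `M` over `U` defines a map `M|_V ⟶ N`. -/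
theorem exists_desc_over (M : SheafOfModules.{u} R) {U V : C} (f : V ⟶ U) {ι κ : Type u}
    [Fintype ι] [DecidableEq ι] [Fintype κ]
    (e : ι → M.val.obj (op U)) (ρ : κ → ι → R.obj.obj (op U))
    (hgen : ∀ {V' : C} (h : V' ⟶ U) (t : M.val.obj (op V')),
      ∃ S ∈ J V', ∀ ⦃W : C⦄ (g : W ⟶ V'), S g →
        ∃ r : ι → R.obj.obj (op W), rs M g t = ∑ i, r i • rs M (g ≫ h) (e i))
    (hrelgen : ∀ {V' : C} (h : V' ⟶ U) (c : ι → R.obj.obj (op V')),
      ∑ i, c i • rs M h (e i) = 0 → relSieveOver ρ h c ∈ J V')
    (N : SheafOfModules.{u} (R.over V)) (w : ι → N.val.obj (op (Over.mk (𝟙 V))))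
    (ρV : κ → ι → (R.over V).obj.obj (op (Over.mk (𝟙 V))))
    (hρV : ∀ j i, ρV j i = R.obj.map f.op (ρ j i))
    (hw : ∀ j, ∑ i, ρV j i • w i = 0) :
    ∃ α : M.over V ⟶ N,
      (M.over V).freeHomEquiv.symm (fun i => secOver M V (rs M f (e i))) ≫ α =
        N.freeHomEquiv.symm (fun i => secOfTerminal (overTerminal V) N (w i)) := by
  classical
  haveI hπ : Epi ((M.over V).freeHomEquiv.symm (fun i => secOver M V (rs M f (e i)))) := by
    apply epi_of_locGen M V (fun i => rs M f (e i))
    intro V' h t
    obtain ⟨S, hS, hS'⟩ := hgen (h ≫ f) t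
    refine ⟨S, hS, fun W g hg => ?_⟩
    obtain ⟨r, hr⟩ := hS' g hg
    refine ⟨r, hr.trans (Finset.sum_congr rfl fun i _ => ?_)⟩
    rw [rs_rs, Category.assoc]
  have h0 : kernel.ι ((M.over V).freeHomEquiv.symm (fun i => secOver M V (rs M f (e i)))) ≫
      N.freeHomEquiv.symm (fun i => secOfTerminal (overTerminal V) N (w i)) = 0 := by
    apply SheafOfModules.hom_ext
    apply PresheafOfModules.hom_ext
    intro Y'
    obtain ⟨Y⟩ := Y'
    apply ModuleCat.hom_ext
    apply LinearMap.ext
    intro z
    obtain ⟨ζ, hζdef⟩ : ∃ ζ : (SheafOfModules.free (R := R.over V) ι).val.obj (op Y),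
        ζ = evAt _ _ Y (kernel.ι ((M.over V).freeHomEquiv.symm
          (fun i => secOver M V (rs M f (e i))))) z := ⟨_, rfl⟩
    have hζ : evAt _ _ Y ((M.over V).freeHomEquiv.symm
        (fun i => secOver M V (rs M f (e i)))) ζ = 0 := by
      rw [hζdef]
      exact kernel_ι_app _ Y z
    have hw0 := eq_sum_coord_bas (R.over V) ι Y ζ
    have hπζ := freeHom_sum_bas (R.over V) ι (M.over V)
      (fun i => secOver M V (rs M f (e i))) Y (fun i => coord (R.over V) ι i Y ζ)
    rw [← hw0] at hπζ
    let c : ι → R.obj.obj (op Y.left) := fun i => coord (R.over V) ι i Y ζ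
    have hc0 : ∑ i, c i • rs M Y.hom (rs M f (e i)) = 0 := hπζ.symm.trans hζ
    have hc : ∑ i, c i • rs M (Y.hom ≫ f) (e i) = 0 := by
      simpa only [rs_rs] using hc0
    have hsv := hrelgen (Y.hom ≫ f) c hc
    have ha := freeHom_sum_bas (R.over V) ι N
      (fun i => secOfTerminal (overTerminal V) N (w i)) Y
      (fun i => coord (R.over V) ι i Y ζ)
    rw [← hw0] at ha
    have key : evAt _ _ Y (N.freeHomEquiv.symm
        (fun i => secOfTerminal (overTerminal V) N (w i))) ζ = 0 := by
      rw [ha]
      apply eq_of_eqSieve_mem (J := J.over V) (R := R.over V) N _ 0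
      rw [GrothendieckTopology.mem_over_iff]
      refine J.superset_covering ?_ hsv
      rintro W g ⟨d, hd⟩
      rw [Sieve.overEquiv_iff]
      let Z : Over V := Over.mk (g ≫ Y.hom)
      let g' : Z ⟶ Y := Over.homMk g
      let m : Z ⟶ Over.mk (𝟙 V) := (overTerminal V).from Z
      let dZ : κ → (R.over V).obj.obj (op Z) := d
      let wZ : ι → N.val.obj (op Z) := fun i => rs N m (w i)
      let ρZ : κ → ι → (R.over V).obj.obj (op Z) :=
        fun j i => (R.over V).obj.map m.op (ρV j i)
      let cZ : ι → (R.over V).obj.obj (op Z) :=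
        fun i => (R.over V).obj.map g'.op (coord (R.over V) ι i Y ζ)
      have F1 : ∀ j, ∑ i, ρZ j i • wZ i = 0 := by
        intro j
        have h1 := congrArg (rs N m) (hw j)
        rw [rs_sum, rs_zero] at h1
        simpa only [rs_smul] using h1
      have hleft : m.left = g ≫ Y.hom := left_eq_hom_of_terminal m
      have F2 : ∀ j i, R.obj.map (g ≫ (Y.hom ≫ f)).op (ρ j i) = ρZ j i := by
        intro j i
        have e1 : ρZ j i = R.obj.map m.left.op (R.obj.map f.op (ρ j i)) := by
          show (R.over V).obj.map m.op (ρV j i) = _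
          rw [hρV j i]
          rfl
        rw [e1, hleft, ← Category.assoc, op_comp, Functor.map_comp]
        rfl
      have hcZ : ∀ i, cZ i = ∑ j, dZ j * ρZ j i := fun i =>
        (hd i).trans (Finset.sum_congr rfl fun j _ => by rw [F2 j i]; rfl)
      have h2 : rs N g' (∑ i, coord (R.over V) ι i Y ζ •
          PresheafOfModules.sections.eval (secOfTerminal (overTerminal V) N (w i)) (op Y)) =
          ∑ i, cZ i • wZ i := by
        rw [rs_sum]
        refine Finset.sum_congr rfl fun i _ => ?_
        rw [rs_smul]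
        congr 1
        exact PresheafOfModules.sections_property (secOfTerminal (overTerminal V) N (w i)) g'.op
      have h3 : ∑ i, cZ i • wZ i = 0 := by
        have h4 : ∑ i, cZ i • wZ i = ∑ j, dZ j • ∑ i, ρZ j i • wZ i := by
          simp only [hcZ, Finset.sum_smul, mul_smul, Finset.smul_sum]
          rw [Finset.sum_comm]
        rw [h4]
        refine Finset.sum_eq_zero fun j _ => ?_
        rw [F1 j, smul_zero]
      show rs N g' _ = rs N g' 0
      rw [h2, h3, rs_zero]
    rw [hζdef] at key
    exact key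
  exact ⟨Abelian.epiDesc _ _ h0, Abelian.comp_epiDesc _ _ h0⟩

end DescOver

end Groth.Agent.LD.RSp
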