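import Groth.Agent.Lib.Lead.RSp.SubSh

/-! # Sections of a coproduct of modules on a ringed space over a quasi-compact open. -/

universe u
open CategoryTheory Limits Opposite TopologicalSpace

namespace Groth.Agent.LD.RSp

variable {X : TopCat.{u}} {O : TopCat.Sheaf CommRingCat.{u} X}
variable {I : Type u} (F : I → ModSite.Mod O) [HasCoproduct F]

lemma π_ι_same [DecidableEq I] (W : Opens X) (i : I) (t : ModSite.sect (F i) W) :
    (Sigma.π F i).val.app (op W) ((Sigma.ι F i).val.app (op W) t) = t := by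
  have h : (Sigma.ι F i ≫ Sigma.π F i).val.app (op W) t = t := by
    rw [Sigma.ι_π_eq_id]
    rfl
  exact h

lemma π_ι_ne [DecidableEq I] (W : Opens X) {j i : I} (h : j ≠ i) (t : ModSite.sect (F j) W) :
    (Sigma.π F i).val.app (op W) ((Sigma.ι F j).val.app (op W) t) = 0 := by
  have h' : (Sigma.ι F j ≫ Sigma.π F i).val.app (op W) t = 0 := by
    rw [Sigma.ι_π_of_ne F h]
    rfl
  exact h'

lemma π_sum [DecidableEq I] (W : Opens X) (S : Finset I) (t : ∀ i, ModSite.sect (F i) W)
    (i : I) :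
    (Sigma.π F i).val.app (op W) (∑ j ∈ S, (Sigma.ι F j).val.app (op W) (t j)) =
      if i ∈ S then t i else 0 := by
  rw [map_sum]
  by_cases hi : i ∈ S
  · rw [if_pos hi, Finset.sum_eq_single_of_mem i hi]
    · exact π_ι_same F W i (t i)
    · intro j _ hji
      exact π_ι_ne F W hji (t j)
  · rw [if_neg hi]
    apply Finset.sum_eq_zero
    intro j hj
    have hji : j ≠ i := fun h => hi (h ▸ hj)
    exact π_ι_ne F W hji (t j)

lemma sum_ι_ite [DecidableEq I] (W : Opens X) {S₁ S : Finset I} (hS : S₁ ⊆ S)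
    (t : ∀ i, ModSite.sect (F i) W) :
    ∑ i ∈ S, (Sigma.ι F i).val.app (op W) (if i ∈ S₁ then t i else 0) =
      ∑ i ∈ S₁, (Sigma.ι F i).val.app (op W) (t i) := by
  rw [← Finset.sum_subset hS]
  · refine Finset.sum_congr rfl fun i hi => ?_
    rw [if_pos hi]
  · intro i _ hi
    rw [if_neg hi, map_zero]

/-- finite sums of images of sections of the summands. -/
noncomputable def finSumSub (W : Opens X) :
    Submodule ((ModSite.ringSh O).obj.obj (op W)) (ModSite.sect (∐ F) W) where
  carrier := {s | ∃ (S : Finset I) (t : ∀ i, ModSite.sect (F i) W),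
    s = ∑ i ∈ S, (Sigma.ι F i).val.app (op W) (t i)}
  zero_mem' := ⟨∅, fun _ => 0, by rw [Finset.sum_empty]⟩
  add_mem' := by
    classical
    rintro s₁ s₂ ⟨S₁, t₁, rfl⟩ ⟨S₂, t₂, rfl⟩
    refine ⟨S₁ ∪ S₂, fun i => (if i ∈ S₁ then t₁ i else 0) + (if i ∈ S₂ then t₂ i else 0), ?_⟩
    simp only [map_add, Finset.sum_add_distrib]
    rw [sum_ι_ite F W Finset.subset_union_left t₁, sum_ι_ite F W Finset.subset_union_right t₂]
  smul_mem' := by
    rintro r s ⟨S, t, rfl⟩
    refine ⟨S, fun i => r • t i, ?_⟩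
    rw [Finset.smul_sum]
    refine Finset.sum_congr rfl fun i _ => ?_
    rw [map_smul]

lemma finSumSub_res {W W' : Opens X} (h : W' ≤ W) (s : ModSite.sect (∐ F) W)
    (hs : s ∈ finSumSub F W) : res (∐ F) h s ∈ finSumSub F W' := by
  obtain ⟨S, t, rfl⟩ := hs
  refine ⟨S, fun i => res (F i) h (t i), ?_⟩
  rw [res_sum]
  refine Finset.sum_congr rfl fun i _ => ?_
  rw [app_res]

lemma ι_mem_finSumSub (W : Opens X) (i : I) (t : ModSite.sect (F i) W) :
    (Sigma.ι F i).val.app (op W) t ∈ finSumSub F W := by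
  classical
  refine ⟨{i}, Pi.single i t, ?_⟩
  rw [Finset.sum_singleton, Pi.single_eq_same]

/-- the subsheaf of sections which are locally finite sums. -/
noncomputable def locFinSub : SubSh (∐ F) :=
  SubSh.ofLocal (∐ F) (finSumSub F) (fun h s hs => finSumSub_res F h s hs)

/-- every section of a coproduct is locally a finite sum of sections of the summands. -/
theorem mem_locFinSub (W : Opens X) (s : ModSite.sect (∐ F) W) : s ∈ (locFinSub F).N W := by
  refine SubSh.mem_of_isColimit (Cofan.mk (∐ F) (Sigma.ι F)) (coproductIsCoproduct F)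
    (locFinSub F) ?_ W s
  rintro ⟨i⟩ V t
  intro x hx
  refine ⟨V, le_rfl, hx, ?_⟩
  rw [res_self]
  exact ι_mem_finSumSub F V i t

/-- over a quasi-compact open, every section of a coproduct is a finite sum of sections of
the summands. -/
theorem coprod_sections_surj (U : Opens X) (hU : IsCompact (U : Set X))
    (s : ModSite.sect (∐ F) U) :
    ∃ (S : Finset I) (t : ∀ i, ModSite.sect (F i) U),
      s = ∑ i ∈ S, (Sigma.ι F i).val.app (op U) (t i) := by
  classical
  have hs := mem_locFinSub F U s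
  have h1 : ∀ x : U, ∃ (W' : Opens X) (h : W' ≤ U), x.1 ∈ W' ∧
      ∃ (S : Finset I) (t : ∀ i, ModSite.sect (F i) W'),
        res (∐ F) h s = ∑ i ∈ S, (Sigma.ι F i).val.app (op W') (t i) := fun x => hs x.1 x.2
  choose W' hW' hxW' S' t' ht' using h1
  obtain ⟨T, hT⟩ := hU.elim_finite_subcover (fun x : U => (W' x : Set X))
    (fun x => (W' x).isOpen)
    (fun y hy => Set.mem_iUnion.mpr ⟨⟨y, hy⟩, hxW' ⟨y, hy⟩⟩)
  refine ⟨T.biUnion S', fun i => (Sigma.π F i).val.app (op U) s, ?_⟩
  apply eq_of_locally (∐ F) U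
  intro y hy
  obtain ⟨x, hxT, hyx⟩ : ∃ x ∈ T, y ∈ W' x := by
    have h2 := hT hy
    simp only [Set.mem_iUnion, exists_prop] at h2
    exact h2
  refine ⟨W' x, hW' x, hyx, ?_⟩
  rw [res_sum]
  have h2 : ∀ i, res (∐ F) (hW' x)
      ((Sigma.ι F i).val.app (op U) ((Sigma.π F i).val.app (op U) s)) =
      (Sigma.ι F i).val.app (op (W' x))
        ((Sigma.π F i).val.app (op (W' x)) (res (∐ F) (hW' x) s)) := by
    intro i
    rw [app_res, app_res]
  simp only [h2]
  rw [ht' x]
  simp only [π_sum F (W' x) (S' x) (t' x)]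
  exact (sum_ι_ite F (W' x) (Finset.subset_biUnion_of_mem S' hxT) (t' x)).symm

/-- a finite sum of images of sections of the summands vanishes only if every term does. -/
theorem coprod_sections_inj [DecidableEq I] (U : Opens X) (S : Finset I)
    (t : ∀ i, ModSite.sect (F i) U)
    (h : ∑ i ∈ S, (Sigma.ι F i).val.app (op U) (t i) = 0) (i : I) (hi : i ∈ S) : t i = 0 := by
  have h1 := π_sum F U S t i
  rw [if_pos hi, h, map_zero] at h1
  exact h1.symm

end Groth.Agent.LD.RSp
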