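import Groth.Agent.Lib.Lead.RSp.LocInj

/-! # Modules on a ringed space: morphisms defined on the small opens of a covering; morphisms
out of a module given over an open by generators and relations. -/

universe u
open CategoryTheory Limits Opposite TopologicalSpace

namespace Groth.Agent.LD.RSp

variable {X : TopCat.{u}} {O : TopCat.Sheaf CommRingCat.{u} X}

/-- a compatible family of linear maps on the sections over the members of a covering family of
opens stable under shrinking extends to a morphism of modules. -/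
theorem exists_hom_of_small (G F : ModSite.Mod O) (Small : Opens X → Prop)
    (hdown : ∀ {V W : Opens X}, W ≤ V → Small V → Small W)
    (hcov : ∀ x : X, ∃ V : Opens X, Small V ∧ x ∈ V)
    (m : ∀ V : Opens X, Small V → ModSite.sect G V → ModSite.sect F V)
    (hadd : ∀ (V : Opens X) (hV : Small V) (t t' : ModSite.sect G V),
      m V hV (t + t') = m V hV t + m V hV t')
    (hsmul : ∀ (V : Opens X) (hV : Small V) (a : (ModSite.ringSh O).obj.obj (op V))
      (t : ModSite.sect G V), m V hV (a • t) = a • m V hV t)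
    (hnat : ∀ (V : Opens X) (hV : Small V) (W : Opens X) (hW : W ≤ V) (t : ModSite.sect G V),
      res F hW (m V hV t) = m W (hdown hW hV) (res G hW t)) :
    ∃ φ : G ⟶ F, ∀ (V : Opens X) (hV : Small V) (t : ModSite.sect G V),
      φ.val.app (op V) t = m V hV t := by
  have hglue : ∀ (V : Opens X) (t : ModSite.sect G V), ∃ u : ModSite.sect F V,
      ∀ (W : Opens X) (hW : W ≤ V) (hS : Small W), res F hW u = m W hS (res G hW t) := by
    intro V t
    let U : {W : Opens X // Small W ∧ W ≤ V} → Opens X := fun w => w.1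
    let sf : ∀ w : {W : Opens X // Small W ∧ W ≤ V}, ModSite.sect F (U w) :=
      fun w => m w.1 w.2.1 (res G w.2.2 t)
    have hsf : TopCat.Presheaf.IsCompatible F.val.presheaf U sf := by
      intro w w'
      have e1 : res F (inf_le_left : w.1 ⊓ w'.1 ≤ w.1) (m w.1 w.2.1 (res G w.2.2 t)) =
          m (w.1 ⊓ w'.1) (hdown inf_le_left w.2.1) (res G (inf_le_left.trans w.2.2) t) := by
        rw [hnat, res_res]
      have e2 : res F (inf_le_right : w.1 ⊓ w'.1 ≤ w'.1) (m w'.1 w'.2.1 (res G w'.2.2 t)) =
          m (w.1 ⊓ w'.1) (hdown inf_le_left w.2.1) (res G (inf_le_left.trans w.2.2) t) := by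
        rw [hnat, res_res]
      exact e1.trans e2.symm
    have hcover : V ≤ iSup U := by
      intro x hx
      obtain ⟨S, hS, hxS⟩ := hcov x
      exact Opens.mem_iSup.mpr ⟨⟨S ⊓ V, hdown inf_le_left hS, inf_le_right⟩, ⟨hxS, hx⟩⟩
    obtain ⟨u, hu, _⟩ := TopCat.Sheaf.existsUnique_gluing'
      (⟨F.val.presheaf, F.isSheaf⟩ : TopCat.Sheaf Ab X) U V (fun w => homOfLE w.2.2) hcover sf hsf
    refine ⟨u, fun W hW hS => ?_⟩
    exact hu ⟨W, hS, hW⟩
  choose Φ hΦ using hglue
  have huniq : ∀ (V : Opens X) (u u' : ModSite.sect F V),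
      (∀ (W : Opens X) (hW : W ≤ V), Small W → res F hW u = res F hW u') → u = u' := by
    intro V u u' h
    apply eq_of_locally F V u u'
    intro x hx
    obtain ⟨S, hS, hxS⟩ := hcov x
    exact ⟨S ⊓ V, inf_le_right, ⟨hxS, hx⟩, h _ inf_le_right (hdown inf_le_left hS)⟩
  have hΦadd : ∀ (V : Opens X) (t t' : ModSite.sect G V), Φ V (t + t') = Φ V t + Φ V t' := by
    intro V t t'
    apply huniq
    intro W hW hS
    rw [res_add, hΦ V _ W hW hS, hΦ V t W hW hS, hΦ V t' W hW hS, res_add, hadd]
  have hΦsmul : ∀ (V : Opens X) (a : (ModSite.ringSh O).obj.obj (op V)) (t : ModSite.sect G V),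
      Φ V (a • t) = a • Φ V t := by
    intro V a t
    apply huniq
    intro W hW hS
    rw [res_smul, hΦ V _ W hW hS, hΦ V t W hW hS, res_smul, hsmul]
  have hΦnat : ∀ (V V' : Opens X) (h : V' ≤ V) (t : ModSite.sect G V),
      res F h (Φ V t) = Φ V' (res G h t) := by
    intro V V' h t
    apply huniq
    intro W hW hS
    rw [res_res, hΦ V t W (hW.trans h) hS, hΦ V' _ W hW hS, res_res]
  have hΦsmall : ∀ (V : Opens X) (hV : Small V) (t : ModSite.sect G V), Φ V t = m V hV t := by
    intro V hV t
    have h1 := hΦ V t V le_rfl hV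
    rw [res_self, res_self] at h1
    exact h1
  let φ : G.val ⟶ F.val :=
    { app := fun V => ModuleCat.ofHom
        { toFun := Φ V.unop
          map_add' := hΦadd V.unop
          map_smul' := fun a t => hΦsmul V.unop a t }
      naturality := fun {V V'} f => by
        ext t
        exact (hΦnat V.unop V'.unop (leOfHom f.unop) t).symm }
  exact ⟨⟨φ⟩, fun V hV t => hΦsmall V hV t⟩

section Relations
variable {ι κ : Type u} [Fintype ι] [Fintype κ]

/-- restriction of generating relations to a smaller open. -/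
theorem LocRel.res {F : ModSite.Mod O} {U : Opens X} {e : ι → ModSite.sect F U}
    {ρ : κ → ι → (ModSite.ringSh O).obj.obj (op U)} (h : LocRel F U e ρ) {U' : Opens X}
    (hU : U' ≤ U) :
    LocRel F U' (fun i => Groth.Agent.LD.RSp.res F hU (e i)) (fun j i => rr O hU (ρ j i)) := by
  refine ⟨fun j => ?_, ?_⟩
  · have h1 := congrArg (Groth.Agent.LD.RSp.res F hU) (h.1 j)
    rw [res_sum, res_zero] at h1
    refine Eq.trans (Finset.sum_congr rfl fun i _ => ?_) h1
    exact (res_smul F hU _ _).symm
  · intro V hV c hc x hx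
    have hc' : ∑ i, c i • Groth.Agent.LD.RSp.res F (hV.trans hU) (e i) = 0 := by
      refine Eq.trans (Finset.sum_congr rfl fun i _ => ?_) hc
      rw [res_res]
    obtain ⟨W, hW, hxW, d, hd⟩ := h.2 V (hV.trans hU) c hc' x hx
    refine ⟨W, hW, hxW, d, fun i => ?_⟩
    rw [hd i]
    refine Finset.sum_congr rfl fun j _ => ?_
    rw [rr_rr]

/-- sections of another module satisfying the generating relations satisfy every relation
between the generators. -/
lemma comb_eq_zero_of_locRel (G F : ModSite.Mod O) (U : Opens X) (g : ι → ModSite.sect G U)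
    (ρ : κ → ι → (ModSite.ringSh O).obj.obj (op U)) (hrel : LocRel G U g ρ)
    (s : ι → ModSite.sect F U) (hs : ∀ b, ∑ a, ρ b a • s a = 0)
    (V : Opens X) (hV : V ≤ U) (c : ι → (ModSite.ringSh O).obj.obj (op V))
    (hc : ∑ a, c a • res G hV (g a) = 0) : ∑ a, c a • res F hV (s a) = 0 := by
  apply eq_of_locally F V _ 0
  intro x hx
  obtain ⟨W, hW, hxW, d, hd⟩ := hrel.2 V hV c hc x hx
  refine ⟨W, hW, hxW, ?_⟩
  rw [res_zero, res_sum]
  have h1 : ∀ a, res F hW (c a • res F hV (s a)) =
      ∑ b, (d b * rr O (hW.trans hV) (ρ b a)) • res F (hW.trans hV) (s a) := by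
    intro a
    rw [res_smul, res_res, hd a, Finset.sum_smul]
  rw [Finset.sum_congr rfl (fun a _ => h1 a), Finset.sum_comm]
  refine Finset.sum_eq_zero fun b _ => ?_
  have h2 := congrArg (res F (hW.trans hV)) (hs b)
  rw [res_sum, res_zero] at h2
  calc ∑ a, (d b * rr O (hW.trans hV) (ρ b a)) • res F (hW.trans hV) (s a)
      = d b • ∑ a, res F (hW.trans hV) (ρ b a • s a) := by
        rw [Finset.smul_sum]
        refine Finset.sum_congr rfl fun a _ => ?_
        rw [res_smul, smul_smul]
    _ = 0 := by rw [h2, smul_zero]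

/-- sections of `F` over `U` satisfying the generating relations of `G` over `U` define a
morphism between the restrictions to `U`. -/
theorem exists_sliceHom [DecidableEq ι] (G F : ModSite.Mod O) (U : Opens X)
    (g : ι → ModSite.sect G U) (ρ : κ → ι → (ModSite.ringSh O).obj.obj (op U))
    (hgen : LocGen G U g) (hrel : LocRel G U g ρ)
    (s : ι → ModSite.sect F U) (hs : ∀ b, ∑ a, ρ b a • s a = 0) :
    ∃ ψ : SheafOfModules.over G U ⟶ SheafOfModules.over F U,
      (SheafOfModules.over G U).freeHomEquiv.symm (fun a => secOver G U (g a)) ≫ ψ =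
        (SheafOfModules.over F U).freeHomEquiv.symm (fun a => secOver F U (s a)) := by
  haveI : Epi ((SheafOfModules.over G U).freeHomEquiv.symm (fun a => secOver G U (g a))) :=
    (locGen_iff_epi G U g).mp hgen
  have h0 : kernel.ι ((SheafOfModules.over G U).freeHomEquiv.symm
      (fun a => secOver G U (g a))) ≫
      (SheafOfModules.over F U).freeHomEquiv.symm (fun a => secOver F U (s a)) = 0 := by
    apply SheafOfModules.hom_ext
    apply PresheafOfModules.hom_ext
    intro Y'
    obtain ⟨Y⟩ := Y'
    apply ModuleCat.hom_ext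
    apply LinearMap.ext
    intro z
    have hw : evAt _ _ Y ((SheafOfModules.over G U).freeHomEquiv.symm
        (fun a => secOver G U (g a)))
        (evAt _ _ Y (kernel.ι ((SheafOfModules.over G U).freeHomEquiv.symm
          (fun a => secOver G U (g a)))) z) = 0 := kernel_ι_app _ Y z
    have hw0 := eq_sum_coord_bas ((ModSite.ringSh O).over U) ι Y
      (evAt _ _ Y (kernel.ι ((SheafOfModules.over G U).freeHomEquiv.symm
        (fun a => secOver G U (g a)))) z)
    have h1 := freeHom_sum_bas ((ModSite.ringSh O).over U) ι (SheafOfModules.over G U)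
      (fun a => secOver G U (g a)) Y
      (fun a => coord ((ModSite.ringSh O).over U) ι a Y
        (evAt _ _ Y (kernel.ι ((SheafOfModules.over G U).freeHomEquiv.symm
          (fun a => secOver G U (g a)))) z))
    rw [← hw0] at h1
    let c : ι → (ModSite.ringSh O).obj.obj (op Y.left) :=
      fun a => coord ((ModSite.ringSh O).over U) ι a Y
        (evAt _ _ Y (kernel.ι ((SheafOfModules.over G U).freeHomEquiv.symm
          (fun a => secOver G U (g a)))) z)
    have h2 : ∑ a, c a • res G (leOfHom Y.hom) (g a) = 0 := h1.symm.trans hw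
    have h3 := comb_eq_zero_of_locRel G F U g ρ hrel s hs Y.left (leOfHom Y.hom) c h2
    have h4 := freeHom_sum_bas ((ModSite.ringSh O).over U) ι (SheafOfModules.over F U)
      (fun a => secOver F U (s a)) Y
      (fun a => coord ((ModSite.ringSh O).over U) ι a Y
        (evAt _ _ Y (kernel.ι ((SheafOfModules.over G U).freeHomEquiv.symm
          (fun a => secOver G U (g a)))) z))
    rw [← hw0] at h4
    have h5 : evAt _ _ Y ((SheafOfModules.over F U).freeHomEquiv.symm
        (fun a => secOver F U (s a)))
        (evAt _ _ Y (kernel.ι ((SheafOfModules.over G U).freeHomEquiv.symm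
          (fun a => secOver G U (g a)))) z) = 0 := h4.trans h3
    exact h5
  exact ⟨Abelian.epiDesc _ _ h0, Abelian.comp_epiDesc _ _ h0⟩

/-- sections of `F` over `U` satisfying the generating relations of `G` over `U` define
compatible linear maps on the sections over the opens contained in `U`. -/
theorem exists_locHom_of_relations [DecidableEq ι] (G F : ModSite.Mod O) (U : Opens X)
    (g : ι → ModSite.sect G U) (ρ : κ → ι → (ModSite.ringSh O).obj.obj (op U))
    (hgen : LocGen G U g) (hrel : LocRel G U g ρ)
    (s : ι → ModSite.sect F U) (hs : ∀ b, ∑ a, ρ b a • s a = 0) :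
    ∃ m : ∀ (V : Opens X), V ≤ U →
        (ModSite.sect G V →ₗ[(ModSite.ringSh O).obj.obj (op V)] ModSite.sect F V),
      (∀ (V : Opens X) (hV : V ≤ U) (W : Opens X) (hW : W ≤ V) (t : ModSite.sect G V),
        res F hW (m V hV t) = m W (hW.trans hV) (res G hW t)) ∧
      (∀ (V : Opens X) (hV : V ≤ U) (a : ι), m V hV (res G hV (g a)) = res F hV (s a)) := by
  obtain ⟨ψ, hψ⟩ := exists_sliceHom G F U g ρ hgen hrel s hs
  refine ⟨fun V hV => evAt _ _ (Over.mk (homOfLE hV)) ψ, ?_, ?_⟩
  · intro V hV W hW t
    exact (app_rs ψ (Over.homMk (homOfLE hW) : Over.mk (homOfLE (hW.trans hV)) ⟶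
      Over.mk (homOfLE hV)) t).symm
  · intro V hV a
    have e1 : evAt _ _ (Over.mk (homOfLE hV))
        ((SheafOfModules.over G U).freeHomEquiv.symm (fun a => secOver G U (g a)))
        (bas ((ModSite.ringSh O).over U) ι a (Over.mk (homOfLE hV))) = res G hV (g a) :=
      freeHom_bas ((ModSite.ringSh O).over U) ι (SheafOfModules.over G U)
        (fun a => secOver G U (g a)) a (Over.mk (homOfLE hV))
    have e2 : evAt _ _ (Over.mk (homOfLE hV))
        ((SheafOfModules.over F U).freeHomEquiv.symm (fun a => secOver F U (s a)))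
        (bas ((ModSite.ringSh O).over U) ι a (Over.mk (homOfLE hV))) = res F hV (s a) :=
      freeHom_bas ((ModSite.ringSh O).over U) ι (SheafOfModules.over F U)
        (fun a => secOver F U (s a)) a (Over.mk (homOfLE hV))
    have e3 := congrArg (fun φ => evAt _ _ (Over.mk (homOfLE hV)) φ
      (bas ((ModSite.ringSh O).over U) ι a (Over.mk (homOfLE hV)))) hψ
    have e4 : evAt _ _ (Over.mk (homOfLE hV)) ψ (res G hV (g a)) = res F hV (s a) :=
      ((congrArg (fun z => evAt _ _ (Over.mk (homOfLE hV)) ψ z) e1).symm.trans e3).trans e2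
    exact e4

end Relations

end Groth.Agent.LD.RSp
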