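import Mathlib

/-! # Two abstract ingredients for exactness of pullback along a flat morphism of ringed spaces:
restriction of scalars along a flat ring map preserves injective modules; a left adjoint whose
right adjoint sends a cogenerating class of objects to injective objects is left exact. -/

universe u
open CategoryTheory Limits TensorProduct

namespace Groth.Agent.LD.RSp.SkyAbs

/-- restriction of scalars along a flat ring map preserves injective modules. -/
theorem injective_of_flat {A B : Type u} [CommRing A] [CommRing B] (φ : A →+* B) (hφ : φ.Flat)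
    (E : Type u) [AddCommGroup E] [Module B E] [Module.Injective B E] :
    @Module.Injective A _ E _ (Module.compHom E φ) := by
  letI : Algebra A B := φ.toAlgebra
  letI : Module A E := Module.compHom E φ
  haveI : IsScalarTower A B E := IsScalarTower.of_algebraMap_smul (fun r x => rfl)
  haveI : Module.Flat A B := hφ
  constructor
  intro X Y _ _ _ _ f hf g
  have hinj : Function.Injective (f.baseChange B) := by
    rw [LinearMap.baseChange_eq_ltensor]
    exact Module.Flat.lTensor_preserves_injective_linearMap f hf
  obtain ⟨h, hh⟩ := Module.Injective.out (R := B) (Q := E) (f.baseChange B) hinj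
    (g.liftBaseChange B)
  refine ⟨(h.restrictScalars A).comp (TensorProduct.mk A B Y 1), fun x => ?_⟩
  show h ((1 : B) ⊗ₜ[A] f x) = g x
  have h1 := hh ((1 : B) ⊗ₜ[A] x)
  rw [LinearMap.baseChange_tmul, LinearMap.liftBaseChange_tmul, one_smul] at h1
  exact h1

/-- a left adjoint between abelian categories is left exact as soon as its right adjoint sends
the members of a cogenerating class of objects to objects with the extension property. -/
theorem preservesFiniteLimits_of_cogen {A₁ : Type*} {B₁ : Type*} [Category A₁] [Category B₁]
    [Abelian A₁] [Abelian B₁] {L : A₁ ⥤ B₁} {R : B₁ ⥤ A₁} (adj : L ⊣ R) [L.Additive]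
    (Tp : B₁ → Prop)
    (hinj : ∀ T, Tp T → ∀ {M' M : A₁} (a : M' ⟶ M) [Mono a] (g : M' ⟶ R.obj T),
      ∃ e : M ⟶ R.obj T, a ≫ e = g)
    (hcog : ∀ {K N : B₁} (k : K ⟶ N), k ≠ 0 → ∃ T, Tp T ∧ ∃ g : N ⟶ T, k ≫ g ≠ 0) :
    PreservesFiniteLimits L := by
  have hmono : ∀ {M' M : A₁} (a : M' ⟶ M) [Mono a], Mono (L.map a) := by
    intro M' M a _
    apply Preadditive.mono_of_cancel_zero
    intro K k hk
    by_contra hne
    obtain ⟨T, hT, g, hg⟩ := hcog k hne
    obtain ⟨e, he⟩ := hinj T hT a (adj.homEquiv M' T g)
    apply hg
    have h1 : g = L.map a ≫ (adj.homEquiv M T).symm e := by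
      rw [← adj.homEquiv_naturality_left_symm, he, Equiv.symm_apply_apply]
    rw [h1, ← Category.assoc, hk, zero_comp]
  haveI : PreservesColimitsOfSize.{0, 0} L := adj.leftAdjoint_preservesColimits
  have hcolim : PreservesFiniteColimits L := inferInstance
  rw [Functor.preservesFiniteLimits_iff_forall_exact_map_and_mono]
  intro S hS
  haveI := hS.mono_f
  exact ⟨((Functor.preservesFiniteColimits_iff_forall_exact_map_and_epi L).mp hcolim S hS).1,
    hmono S.f⟩

end Groth.Agent.LD.RSp.SkyAbs
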