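import Groth.Agent.Lib.Lead.RSp.Push
import Groth.Agent.Lib.Lead.RSp.GlueHom
import Groth.Agent.Lib.Lead.RSp.SkyAbs

/-! # Skyscraper modules on a ringed space: for a point `x` and a module `E` over the stalk of
the structure sheaf at `x`, the module `sky O x E` with sections `E` over the neighbourhoods of
`x`; morphisms into it are the linear maps out of the stalk; it is injective when `E` is; these
modules cogenerate. -/

universe u
open CategoryTheory Limits Opposite TopologicalSpace

noncomputable section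

namespace Groth.Agent.LD.RSp.Sky

lemma hom_ext' {C : Type u} [SmallCategory C] {J : GrothendieckTopology C}
    {R : Sheaf J RingCat.{u}} {M N : SheafOfModules.{u} R} (f g : M ⟶ N)
    (h : ∀ (W : C) (z : M.val.obj (op W)), f.val.app (op W) z = g.val.app (op W) z) : f = g := by
  apply SheafOfModules.hom_ext
  apply PresheafOfModules.hom_ext
  intro Y
  apply ModuleCat.hom_ext
  apply LinearMap.ext
  intro z
  exact h Y.unop z

section Germs
variable {X : TopCat.{u}} (O : TopCat.Sheaf CommRingCat.{u} X) (x : X)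

/-- the stalk of the structure sheaf. -/
abbrev Ox : Type u := ↑(O.presheaf.stalk x)

/-- the germ of a function. -/
def gR (U : Opens X) (hx : x ∈ U) : (ModSite.ringSh O).obj.obj (op U) →+* Ox O x :=
  (O.presheaf.germ U x hx).hom

lemma gR_rr {U W : Opens X} (h : W ≤ U) (hxW : x ∈ W) (hxU : x ∈ U)
    (a : (ModSite.ringSh O).obj.obj (op U)) : gR O x W hxW (rr O h a) = gR O x U hxU a :=
  TopCat.Presheaf.germ_res_apply O.presheaf (homOfLE h) x hxW a

lemma gR_surj (γ : Ox O x) : ∃ (U : Opens X) (hxU : x ∈ U)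
    (a : (ModSite.ringSh O).obj.obj (op U)), gR O x U hxU a = γ :=
  TopCat.Presheaf.exists_germ_eq O.presheaf γ

variable {O}

/-- the underlying presheaf of modules, typed for Mathlib's module structure on stalks. -/
abbrev pm (F : ModSite.Mod O) :
    PresheafOfModules.{u} (O.presheaf ⋙ forget₂ CommRingCat.{u} RingCat.{u}) := F.val

/-- the stalk of a module. -/
def St (F : ModSite.Mod O) (x : X) : Type u := ↑(TopCat.Presheaf.stalk (pm F).presheaf x)

instance (F : ModSite.Mod O) : AddCommGroup (St F x) :=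
  inferInstanceAs (AddCommGroup ↑(TopCat.Presheaf.stalk (pm F).presheaf x))

instance (F : ModSite.Mod O) : Module (Ox O x) (St F x) :=
  inferInstanceAs (Module ↑(O.presheaf.stalk x) ↑(TopCat.Presheaf.stalk (pm F).presheaf x))

/-- the germ of a section. -/
def gM (F : ModSite.Mod O) (x : X) (U : Opens X) (hx : x ∈ U) : ModSite.sect F U →+ St F x :=
  (TopCat.Presheaf.germ (pm F).presheaf U x hx).hom

lemma gM_res (F : ModSite.Mod O) {U W : Opens X} (h : W ≤ U) (hxW : x ∈ W) (hxU : x ∈ U)
    (s : ModSite.sect F U) : gM F x W hxW (res F h s) = gM F x U hxU s :=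
  TopCat.Presheaf.germ_res_apply (pm F).presheaf (homOfLE h) x hxW s

lemma gM_smul (F : ModSite.Mod O) {U : Opens X} (hxU : x ∈ U)
    (a : (ModSite.ringSh O).obj.obj (op U)) (s : ModSite.sect F U) :
    gM F x U hxU (a • s) = gR O x U hxU a • gM F x U hxU s :=
  PresheafOfModules.germ_smul (pm F) x U hxU a s

lemma gM_surj (F : ModSite.Mod O) (γ : St F x) : ∃ (U : Opens X) (hxU : x ∈ U)
    (s : ModSite.sect F U), gM F x U hxU s = γ :=
  TopCat.Presheaf.exists_germ_eq (pm F).presheaf γ

lemma gM_eq (F : ModSite.Mod O) {U V : Opens X} (hU : x ∈ U) (hV : x ∈ V)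
    (s : ModSite.sect F U) (t : ModSite.sect F V) (h : gM F x U hU s = gM F x V hV t) :
    ∃ (W : Opens X) (_ : x ∈ W) (hWU : W ≤ U) (hWV : W ≤ V), res F hWU s = res F hWV t := by
  obtain ⟨W, hW, iU, iV, e⟩ := TopCat.Presheaf.germ_eq (pm F).presheaf x hU hV s t h
  exact ⟨W, hW, leOfHom iU, leOfHom iV, e⟩

lemma exists_common (F : ModSite.Mod O) (r : Ox O x) (m : St F x) :
    ∃ (W : Opens X) (hW : x ∈ W) (b : (ModSite.ringSh O).obj.obj (op W))
      (s : ModSite.sect F W), gR O x W hW b = r ∧ gM F x W hW s = m := by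
  obtain ⟨U₁, h₁, b, rfl⟩ := gR_surj O x r
  obtain ⟨U₂, h₂, s, rfl⟩ := gM_surj x F m
  exact ⟨U₁ ⊓ U₂, ⟨h₁, h₂⟩, rr O inf_le_left b, res F inf_le_right s,
    gR_rr O x inf_le_left ⟨h₁, h₂⟩ h₁ b, gM_res x F inf_le_right ⟨h₁, h₂⟩ h₂ s⟩

/-- the additive map on stalks induced by a morphism. -/
def stAdd {F' F : ModSite.Mod O} (a : F' ⟶ F) (x : X) : St F' x →+ St F x :=
  ((TopCat.Presheaf.stalkFunctor AddCommGrpCat.{u} x).map
    ((PresheafOfModules.toPresheaf _).map a.val)).hom

lemma stAdd_gM {F' F : ModSite.Mod O} (a : F' ⟶ F) (U : Opens X) (hx : x ∈ U)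
    (s : ModSite.sect F' U) :
    stAdd a x (gM F' x U hx s) = gM F x U hx (a.val.app (op U) s) :=
  TopCat.Presheaf.stalkFunctor_map_germ_apply U x hx
    ((PresheafOfModules.toPresheaf _).map a.val) s

/-- the linear map on stalks induced by a morphism. -/
def stLin {F' F : ModSite.Mod O} (a : F' ⟶ F) (x : X) : St F' x →ₗ[Ox O x] St F x where
  toFun := stAdd a x
  map_add' := map_add _
  map_smul' := by
    intro r m
    obtain ⟨W, hW, b, s, rfl, rfl⟩ := exists_common x F' r m
    show stAdd a x (gR O x W hW b • gM F' x W hW s) =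
      gR O x W hW b • stAdd a x (gM F' x W hW s)
    rw [← gM_smul, stAdd_gM, stAdd_gM, map_smul, gM_smul]

lemma stLin_gM {F' F : ModSite.Mod O} (a : F' ⟶ F) (U : Opens X) (hx : x ∈ U)
    (s : ModSite.sect F' U) :
    stLin a x (gM F' x U hx s) = gM F x U hx (a.val.app (op U) s) := stAdd_gM x a U hx s

lemma stLin_injective {F' F : ModSite.Mod O} (a : F' ⟶ F) [Mono a] :
    Function.Injective (stLin a x) := by
  intro m m' h
  exact TopCat.Presheaf.stalkFunctor_map_injective_of_app_injective
    (f := (PresheafOfModules.toPresheaf _).map a.val) (fun U => injective_of_mono a U) x h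

end Germs

section SkyDef
variable {X : TopCat.{u}}

/-- sections of the skyscraper module. -/
def Sec (O : TopCat.Sheaf CommRingCat.{u} X) (x : X) (E : Type u) (U : Opens X) : Type u :=
  PLift (x ∈ U) → E

variable (O : TopCat.Sheaf CommRingCat.{u} X) (x : X) (E : Type u) [AddCommGroup E]
  [Module (Ox O x) E]

instance (U : Opens X) : AddCommGroup (Sec O x E U) :=
  inferInstanceAs (AddCommGroup (PLift (x ∈ U) → E))

instance instModuleSec (U : Opens X) : Module ((ModSite.ringSh O).obj.obj (op U)) (Sec O x E U) where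
  smul r s := fun hx => gR O x U hx.down r • s hx
  one_smul s := by
    funext hx
    show gR O x U hx.down 1 • s hx = s hx
    rw [map_one, one_smul]
  mul_smul r r' s := by
    funext hx
    show gR O x U hx.down (r * r') • s hx = gR O x U hx.down r • (gR O x U hx.down r' • s hx)
    rw [map_mul, mul_smul]
  smul_zero r := by
    funext hx
    show gR O x U hx.down r • (0 : E) = 0
    exact smul_zero _
  smul_add r s t := by
    funext hx
    show gR O x U hx.down r • (s hx + t hx) =
      gR O x U hx.down r • s hx + gR O x U hx.down r • t hx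
    exact smul_add _ _ _
  add_smul r r' s := by
    funext hx
    show gR O x U hx.down (r + r') • s hx =
      gR O x U hx.down r • s hx + gR O x U hx.down r' • s hx
    rw [map_add, add_smul]
  zero_smul s := by
    funext hx
    show gR O x U hx.down 0 • s hx = 0
    rw [map_zero, zero_smul]

/-- the underlying abelian presheaf of the skyscraper module. -/
def abPre : (Opens X)ᵒᵖ ⥤ AddCommGrpCat.{u} where
  obj U := AddCommGrpCat.of (Sec O x E U.unop)
  map {U V} i := AddCommGrpCat.ofHom
    { toFun := fun s hx => s ⟨i.unop.le hx.down⟩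
      map_zero' := rfl
      map_add' := fun _ _ => rfl }
  map_id _ := rfl
  map_comp _ _ := rfl

instance instModuleAbPre (U : (Opens X)ᵒᵖ) :
    Module ((ModSite.ringSh O).obj.obj U) ((abPre O x E).obj U) :=
  inferInstanceAs (Module ((ModSite.ringSh O).obj.obj (op U.unop)) (Sec O x E U.unop))

lemma abPre_map_smul ⦃U V : (Opens X)ᵒᵖ⦄ (i : U ⟶ V) (r : (ModSite.ringSh O).obj.obj U)
    (s : (abPre O x E).obj U) :
    (abPre O x E).map i (r • s) = (ModSite.ringSh O).obj.map i r • (abPre O x E).map i s := by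
  funext hx
  show gR O x U.unop (i.unop.le hx.down) r •
      (show Sec O x E U.unop from s) ⟨i.unop.le hx.down⟩ =
    gR O x V.unop hx.down ((ModSite.ringSh O).obj.map i r) •
      (show Sec O x E U.unop from s) ⟨i.unop.le hx.down⟩
  congr 1
  exact (TopCat.Presheaf.germ_res_apply' O.presheaf i x hx.down r).symm

lemma abPre_isSheaf : TopCat.Presheaf.IsSheaf (abPre O x E) := by
  rw [TopCat.Presheaf.isSheaf_iff_isSheafUniqueGluing]
  intro ι U sf hsf
  classical
  have hmem : x ∈ iSup U → ∃ i, x ∈ U i := fun h => Opens.mem_iSup.1 h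
  let s : Sec O x E (iSup U) := fun hx =>
    (show Sec O x E (U (hmem hx.down).choose) from sf (hmem hx.down).choose)
      ⟨(hmem hx.down).choose_spec⟩
  have key : ∀ (i j : ι) (hi : x ∈ U i) (hj : x ∈ U j),
      (show Sec O x E (U i) from sf i) ⟨hi⟩ = (show Sec O x E (U j) from sf j) ⟨hj⟩ := by
    intro i j hi hj
    have := congrFun (hsf i j) ⟨⟨hi, hj⟩⟩
    exact this
  refine ⟨s, fun i => ?_, fun t ht => ?_⟩
  · funext hx
    exact key _ _ _ hx.down
  · funext hx
    have := congrFun (ht (hmem hx.down).choose) ⟨(hmem hx.down).choose_spec⟩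
    exact this

/-- the skyscraper module at `x` with value `E`. -/
def sky : ModSite.Mod O where
  val := PresheafOfModules.ofPresheaf (abPre O x E) (abPre_map_smul O x E)
  isSheaf := abPre_isSheaf O x E

/-- the value of a section of the skyscraper module. -/
def toE {U : Opens X} (t : ModSite.sect (sky O x E) U) (hx : x ∈ U) : E :=
  (show Sec O x E U from t) ⟨hx⟩

/-- a section of the skyscraper module from its value. -/
def mkS {U : Opens X} (g : x ∈ U → E) : ModSite.sect (sky O x E) U :=
  (show Sec O x E U from fun hx => g hx.down)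

lemma toE_mkS {U : Opens X} (g : x ∈ U → E) (hx : x ∈ U) : toE O x E (mkS O x E g) hx = g hx :=
  rfl

lemma mkS_toE {U : Opens X} (t : ModSite.sect (sky O x E) U) :
    mkS O x E (fun hx => toE O x E t hx) = t := rfl

lemma toE_ext {U : Opens X} {t t' : ModSite.sect (sky O x E) U}
    (h : ∀ hx, toE O x E t hx = toE O x E t' hx) : t = t' := by
  show (show Sec O x E U from t) = (show Sec O x E U from t')
  exact funext fun hx => h hx.down

lemma toE_add {U : Opens X} (t t' : ModSite.sect (sky O x E) U) (hx : x ∈ U) :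
    toE O x E (t + t') hx = toE O x E t hx + toE O x E t' hx := rfl

lemma toE_zero {U : Opens X} (hx : x ∈ U) :
    toE O x E (0 : ModSite.sect (sky O x E) U) hx = 0 := rfl

lemma toE_smul {U : Opens X} (a : (ModSite.ringSh O).obj.obj (op U))
    (t : ModSite.sect (sky O x E) U) (hx : x ∈ U) :
    toE O x E (a • t) hx = gR O x U hx a • toE O x E t hx := rfl

lemma toE_res {U W : Opens X} (h : W ≤ U) (t : ModSite.sect (sky O x E) U) (hx : x ∈ W) :
    toE O x E (res (sky O x E) h t) hx = toE O x E t (h hx) := rfl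

end SkyDef

end Groth.Agent.LD.RSp.Sky
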