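import Groth.Agent.Lib.Lead.RSp.Top

/-! # Flatness of the map on stalks of a morphism of ringed spaces from flatness of the maps on
sections over a suitable family of opens (equational criterion). -/

universe u
open CategoryTheory Limits Opposite TopologicalSpace

noncomputable section

namespace Groth.Agent.LD.RSp.StalkFlat

section
variable {X : TopCat.{u}} (P : TopCat.Presheaf CommRingCat.{u} X)

/-- restriction of sections of a presheaf of rings. -/
def rP {U W : Opens X} (h : W ≤ U) : P.obj (op U) →+* P.obj (op W) := (P.map (homOfLE h).op).hom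

lemma rP_rP {U V W : Opens X} (h₁ : V ≤ U) (h₂ : W ≤ V) (s : P.obj (op U)) :
    rP P h₂ (rP P h₁ s) = rP P (h₂.trans h₁) s := by
  change (P.map (homOfLE h₂).op) ((P.map (homOfLE h₁).op) s) =
    (P.map (homOfLE (h₂.trans h₁)).op) s
  rw [← ConcreteCategory.comp_apply, ← Functor.map_comp, ← op_comp]
  rfl

/-- the germ, as a ring homomorphism. -/
def gP (x : X) (U : Opens X) (hx : x ∈ U) : P.obj (op U) →+* P.stalk x := (P.germ U x hx).hom

lemma gP_rP (x : X) {U W : Opens X} (h : W ≤ U) (hxW : x ∈ W) (s : P.obj (op U)) :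
    gP P x W hxW (rP P h s) = gP P x U (h hxW) s :=
  TopCat.Presheaf.germ_res_apply P (homOfLE h) x hxW s

lemma exists_common_rep (x : X) {ι : Type*} [Finite ι] (γ : ι → P.stalk x) :
    ∃ (U : Opens X) (hx : x ∈ U) (s : ι → P.obj (op U)), ∀ i, gP P x U hx (s i) = γ i := by
  obtain ⟨W, _, hxW, hW⟩ := exists_common_nbhd x ⊤ (Opens.mem_top x)
    (fun i W => ∀ hx : x ∈ W, ∃ s : P.obj (op W), gP P x W hx s = γ i)
    (by
      intro i W W' hW' hP hx'
      obtain ⟨s, hs⟩ := hP (hW' hx')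
      exact ⟨rP P hW' s, by rw [gP_rP, hs]⟩)
    (by
      intro i
      obtain ⟨U, hx, s, hs⟩ := TopCat.Presheaf.exists_germ_eq P (γ i)
      exact ⟨U, le_top, hx, fun _ => ⟨s, hs⟩⟩)
  choose s hs using fun i => hW i hxW
  exact ⟨W, hxW, s, hs⟩

variable {Y : TopCat.{u}} (f : X ⟶ Y) (Q : TopCat.Presheaf CommRingCat.{u} Y)
  (c : Q ⟶ (TopCat.Presheaf.pushforward CommRingCat.{u} f).obj P)

/-- the map on stalks. -/
def sHom (x : X) : Q.stalk (f x) →+* P.stalk x :=
  ((TopCat.Presheaf.stalkFunctor CommRingCat.{u} (f x)).map c ≫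
    TopCat.Presheaf.stalkPushforward CommRingCat.{u} f P x).hom

lemma sHom_gP (x : X) (V : Opens Y) (h : f x ∈ V) (r : Q.obj (op V)) :
    sHom P f Q c x (gP Q (f x) V h r) =
      gP P x ((Opens.map f).obj V) h ((c.app (op V)).hom r) := by
  have h1 := TopCat.Presheaf.stalkFunctor_map_germ_apply V (f x) h c r
  have h2 := TopCat.Presheaf.stalkPushforward_germ CommRingCat.{u} f P V x h
  have h3 := congrArg (fun k => k.hom ((c.app (op V)).hom r)) h2
  exact (congrArg
    (fun z => (TopCat.Presheaf.stalkPushforward CommRingCat.{u} f P x).hom z) h1).trans h3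

lemma c_rP {V V' : Opens Y} (h : V' ≤ V) (r : Q.obj (op V)) :
    (c.app (op V')).hom (rP Q h r) =
      rP P (show (Opens.map f).obj V' ≤ (Opens.map f).obj V from fun _ hz => h hz)
        ((c.app (op V)).hom r) :=
  congrArg (fun k => k.hom r) (c.naturality (homOfLE h).op)

/-- the map on stalks at `x` is flat as soon as the maps on sections over a family of opens
of the target whose preimages are cofinal among the neighbourhoods of `x` are flat. -/
theorem flat_sHom_of_basis (x : X) (Bs : Set (Opens Y))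
    (hflat : ∀ V ∈ Bs, (c.app (op V)).hom.Flat)
    (hbasis : ∀ (U : Opens X) (V₀ : Opens Y), x ∈ U → f x ∈ V₀ →
      ∃ V ∈ Bs, f x ∈ V ∧ V ≤ V₀ ∧ (Opens.map f).obj V ≤ U) :
    (sHom P f Q c x).Flat := by
  letI alg : Algebra (Q.stalk (f x)) (P.stalk x) := (sHom P f Q c x).toAlgebra
  show Module.Flat (Q.stalk (f x)) (P.stalk x)
  apply Module.Flat.of_forall_isTrivialRelation
  intro l a b hab
  obtain ⟨V₀, hV₀, a', ha'⟩ := exists_common_rep Q (f x) a
  obtain ⟨U₀, hU₀, b', hb'⟩ := exists_common_rep P x b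
  have hW₁ : (Opens.map f).obj V₀ ⊓ U₀ ≤ (Opens.map f).obj V₀ := inf_le_left
  have hW₂ : (Opens.map f).obj V₀ ⊓ U₀ ≤ U₀ := inf_le_right
  have hxW : x ∈ (Opens.map f).obj V₀ ⊓ U₀ := ⟨hV₀, hU₀⟩
  obtain ⟨z, hzdef⟩ : ∃ z : P.obj (op ((Opens.map f).obj V₀ ⊓ U₀)),
      z = ∑ i, rP P hW₁ ((c.app (op V₀)).hom (a' i)) * rP P hW₂ (b' i) := ⟨_, rfl⟩
  have hz : gP P x _ hxW z = 0 := by
    rw [hzdef, map_sum]
    refine Eq.trans ?_ hab
    refine Finset.sum_congr rfl fun i _ => ?_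
    rw [map_mul, gP_rP, gP_rP, ← sHom_gP, ha', hb', Algebra.smul_def]
    rfl
  obtain ⟨W', hxW', i₁, i₂, e⟩ := TopCat.Presheaf.germ_eq P x hxW hxW z 0 (by
    have h0 : gP P x _ hxW z = gP P x _ hxW 0 := by rw [hz, map_zero]
    exact h0)
  have hzW' : rP P (leOfHom i₁) z = 0 := by
    have e' : rP P (leOfHom i₁) z = rP P (leOfHom i₂) 0 := e
    rw [e', map_zero]
  obtain ⟨V, hVB, hxV, hVV₀, hVW'⟩ := hbasis W' V₀ hxW' hV₀
  letI algV : Algebra (Q.obj (op V)) (P.obj (op ((Opens.map f).obj V))) :=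
    (c.app (op V)).hom.toAlgebra
  haveI : Module.Flat (Q.obj (op V)) (P.obj (op ((Opens.map f).obj V))) := hflat V hVB
  have hVW : (Opens.map f).obj V ≤ (Opens.map f).obj V₀ ⊓ U₀ := hVW'.trans (leOfHom i₁)
  have hrel : ∑ i, rP Q hVV₀ (a' i) • rP P (hVW.trans hW₂) (b' i) = 0 := by
    have h1 : rP P hVW z = 0 := by
      rw [← rP_rP P (leOfHom i₁) hVW', hzW', map_zero]
    refine Eq.trans ?_ h1
    rw [hzdef, map_sum]
    refine Finset.sum_congr rfl fun i _ => ?_
    rw [map_mul, rP_rP, rP_rP, Algebra.smul_def]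
    congr 1
    exact c_rP P f Q c hVV₀ (a' i)
  obtain ⟨k, α, y, hy, hα⟩ := Module.Flat.isTrivialRelation_of_sum_smul_eq_zero
    (R := ↑(Q.obj (op V))) (M := ↑(P.obj (op ((Opens.map f).obj V)))) hrel
  have hy' : ∀ i, rP P (hVW.trans hW₂) (b' i) = ∑ j, α i j • y j := hy
  have hα' : ∀ j, ∑ i, rP Q hVV₀ (a' i) * α i j = 0 := hα
  refine ⟨k, fun i j => gP Q (f x) V hxV (α i j), fun j => gP P x _ hxV (y j), ?_, ?_⟩
  · intro i
    show b i = ∑ j, gP Q (f x) V hxV (α i j) • gP P x _ hxV (y j)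
    rw [← hb' i, ← gP_rP P x (hVW.trans hW₂) hxV (b' i), hy' i, map_sum]
    refine Finset.sum_congr rfl fun j _ => ?_
    rw [Algebra.smul_def, Algebra.smul_def, map_mul]
    congr 1
    exact (sHom_gP P f Q c x V hxV (α i j)).symm
  · intro j
    show ∑ i, a i * gP Q (f x) V hxV (α i j) = 0
    have h2 := congrArg (gP Q (f x) V hxV) (hα' j)
    rw [map_sum, map_zero] at h2
    refine Eq.trans ?_ h2
    refine Finset.sum_congr rfl fun i _ => ?_
    rw [map_mul, gP_rP, ha']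

end

end Groth.Agent.LD.RSp.StalkFlat
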