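import Mathlib

/-! # The limit of a tower `A ⧸ I ^ (n + 1)` (given abstractly) is flat over a Noetherian ring
`A`: it is the adic completion. -/

universe u

namespace Groth.Agent.LD.RSp.TowerFlat

lemma smul_top_eq {A : Type u} [CommRing A] (I : Ideal A) (n : ℕ) :
    (I ^ n • ⊤ : Submodule A A) = I ^ n := by
  rw [Ideal.smul_eq_mul, Ideal.mul_top]

/-- a ring `B` which is the limit of a tower of quotients `A ⧸ I ^ (n + 1)` of a Noetherian
ring `A`, compatibly with a ring map `A → B`, is flat over `A`. -/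
theorem flat_of_tower {A : Type u} [CommRing A] [IsNoetherianRing A] (I : Ideal A) {B : Type u}
    [CommRing B] (c : A →+* B) (An : ℕ → Type u) [∀ n, CommRing (An n)]
    (τ : ∀ n, An (n + 1) →+* An n) (π : ∀ n, A →+* An n) (ρ : ∀ n, B →+* An n)
    (hπs : ∀ n, Function.Surjective (π n)) (hπk : ∀ n, RingHom.ker (π n) = I ^ (n + 1))
    (hτπ : ∀ n a, τ n (π (n + 1) a) = π n a) (hτρ : ∀ n b, τ n (ρ (n + 1) b) = ρ n b)
    (hρc : ∀ n a, ρ n (c a) = π n a)
    (hinj : ∀ b b' : B, (∀ n, ρ n b = ρ n b') → b = b')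
    (hex : ∀ s : ∀ n, An n, (∀ n, τ n (s (n + 1)) = s n) → ∃ b : B, ∀ n, ρ n b = s n) :
    c.Flat := by
  choose rep hrep using fun (b : B) (n : ℕ) => hπs n (ρ n b)
  have hmem : ∀ n (a a' : A), π n a = π n a' → a - a' ∈ I ^ (n + 1) := by
    intro n a a' e
    rw [← hπk n, RingHom.mem_ker, map_sub, e, sub_self]
  have hmem' : ∀ n (a a' : A), a - a' ∈ I ^ (n + 1) → π n a = π n a' := by
    intro n a a' e
    rw [← hπk n, RingHom.mem_ker, map_sub, sub_eq_zero] at e
    exact e
  have hshift : ∀ n a b, π (n + 1) a = ρ (n + 1) b → π n a = ρ n b := by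
    intro n a b e
    rw [← hτπ, e, hτρ]
  have hcau : ∀ b n, rep b n ≡ rep b (n + 1) [SMOD (I ^ n • ⊤ : Submodule A A)] := by
    intro b n
    rw [SModEq.sub_mem, smul_top_eq]
    apply Ideal.pow_le_pow_right (Nat.le_succ n)
    apply hmem
    rw [hrep, hshift n _ b (hrep b (n + 1))]
  let Φ₀ : B → AdicCompletion I A := fun b =>
    AdicCompletion.mk I A (AdicCompletion.AdicCauchySequence.mk I A (rep b) (hcau b))
  have hΦ : ∀ b n a, π n a = ρ n b → (Φ₀ b).val n = Submodule.Quotient.mk a := by
    intro b n a e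
    show (AdicCompletion.mk I A _).val n = _
    rw [AdicCompletion.mk_apply_coe]
    show Submodule.Quotient.mk (rep b n) = Submodule.Quotient.mk a
    rw [Submodule.Quotient.eq, smul_top_eq]
    apply Ideal.pow_le_pow_right (Nat.le_succ n)
    apply hmem
    rw [hrep, e]
  letI : Algebra A B := c.toAlgebra
  let Φ : B →ₗ[A] AdicCompletion I A :=
    { toFun := Φ₀
      map_add' := fun b b' => by
        apply AdicCompletion.ext
        intro n
        rw [AdicCompletion.val_add_apply, hΦ b n _ (hrep b n), hΦ b' n _ (hrep b' n),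
          hΦ (b + b') n (rep b n + rep b' n) (by rw [map_add, map_add, hrep, hrep])]
        rfl
      map_smul' := fun r b => by
        apply AdicCompletion.ext
        intro n
        rw [RingHom.id_apply, AdicCompletion.val_smul_apply, hΦ b n _ (hrep b n),
          hΦ (r • b) n (r * rep b n) (by
            rw [map_mul, hrep, Algebra.smul_def, map_mul, RingHom.algebraMap_toAlgebra, hρc])]
        rfl }
  have hΦinj : Function.Injective Φ := by
    intro b b' e
    apply hinj
    intro n
    have e1 : (Φ₀ b).val (n + 1) = (Φ₀ b').val (n + 1) := congrArg (fun z => z.val (n + 1)) e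
    rw [hΦ b (n + 1) _ (hrep b (n + 1)), hΦ b' (n + 1) _ (hrep b' (n + 1)),
      Submodule.Quotient.eq, smul_top_eq] at e1
    have e2 := hmem' n _ _ e1
    rw [hshift n _ b (hrep b (n + 1)), hshift n _ b' (hrep b' (n + 1))] at e2
    exact e2
  have hΦsurj : Function.Surjective Φ := by
    intro x
    obtain ⟨fseq, rfl⟩ := AdicCompletion.mk_surjective I A x
    have hf : ∀ n, fseq n - fseq (n + 1) ∈ I ^ n := by
      intro n
      have h1 := fseq.2 (Nat.le_succ n)
      rw [SModEq.sub_mem, smul_top_eq] at h1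
      exact h1
    obtain ⟨b, hb⟩ := hex (fun n => π n (fseq (n + 1))) (fun n => by
      rw [hτπ]
      exact (hmem' n _ _ (hf (n + 1))).symm)
    refine ⟨b, ?_⟩
    apply AdicCompletion.ext
    intro n
    show (Φ₀ b).val n = _
    rw [hΦ b n (fseq (n + 1)) (hb n).symm, AdicCompletion.mk_apply_coe]
    show Submodule.Quotient.mk (fseq (n + 1)) = Submodule.Quotient.mk (fseq n)
    rw [Submodule.Quotient.eq, smul_top_eq, ← neg_sub]
    exact (I ^ n).neg_mem (hf n)
  haveI := AdicCompletion.flat_of_isNoetherian I (R := A)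
  exact Module.Flat.of_linearEquiv (LinearEquiv.ofBijective Φ ⟨hΦinj, hΦsurj⟩)

end Groth.Agent.LD.RSp.TowerFlat
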