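import Groth.Agent.Lib.Lead.RSp.SkyPush
import Groth.Agent.Lib.Lead.RSp.StalkFlat
import Groth.Agent.Lib.Lead.RSp.TowerFlat
import Groth.Prelude.Def_FSch5

/-! # The completion of a locally Noetherian scheme along an ideal is flat over the scheme. -/

universe u
open CategoryTheory Limits Opposite TopologicalSpace AlgebraicGeometry

noncomputable section

namespace Groth.Agent.LD.RSp.ComplFlat

/-- a sequence compatible under the successor maps is a section of a tower. -/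
lemma mem_sections_of_succ (G : ℕᵒᵖ ⥤ Type u) (b : ∀ n, G.obj (op n))
    (hstep : ∀ n, G.map (homOfLE (Nat.le_succ n)).op (b (n + 1)) = b n) :
    (fun j : ℕᵒᵖ => b j.unop) ∈ G.sections := by
  have hb : ∀ m n (h : n ≤ m), G.map (homOfLE h).op (b m) = b n := by
    intro m n h
    induction m, h using Nat.le_induction with
    | base =>
      have : (homOfLE (le_refl n)).op = 𝟙 (op n) := rfl
      rw [this, Functor.map_id_apply]
    | succ m hmn ih =>
      have : (homOfLE (hmn.trans (Nat.le_succ m))).op =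
          (homOfLE (Nat.le_succ m)).op ≫ (homOfLE hmn).op :=
        Quiver.Hom.unop_inj (Subsingleton.elim _ _)
      rw [this, Functor.map_comp_apply, hstep, ih]
  intro j j' φ
  have e : φ = (homOfLE (leOfHom φ.unop)).op := Quiver.Hom.unop_inj (Subsingleton.elim _ _)
  rw [e]
  exact hb _ _ _

section Tower
variable (𝔛 : FSch.Sys.{u}) (h : 𝔛.IsFormal) (U : (𝔛.X 0).Opens)

/-- sections over `U`. -/
abbrev secF : Sheaf (Opens.grothendieckTopology (𝔛.X 0)) CommRingCat.{u} ⥤ CommRingCat.{u} :=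
  sheafToPresheaf _ _ ⋙ (evaluation _ _).obj (op U)

/-- the projections of the sections of the structure sheaf of the formal scheme. -/
def ρ (n : ℕ) : ((𝔛.Osh h).obj.obj (op U)) →+* ((𝔛.levelObj h n).obj.obj (op U)) :=
  ((𝔛.OshProj h n).hom.app (op U)).hom

/-- the transition maps on sections. -/
def τ (n : ℕ) : ((𝔛.levelObj h (n + 1)).obj.obj (op U)) →+* ((𝔛.levelObj h n).obj.obj (op U)) :=
  ((𝔛.levelMap h n).hom.app (op U)).hom

lemma τ_ρ (n : ℕ) (b : (𝔛.Osh h).obj.obj (op U)) :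
    τ 𝔛 h U n (ρ 𝔛 h U (n + 1) b) = ρ 𝔛 h U n b :=
  congrArg (fun k : 𝔛.Osh h ⟶ 𝔛.levelObj h n => (k.hom.app (op U)).hom b)
    (𝔛.OshProj_levelMap h n)

lemma ρ_inj (b b' : (𝔛.Osh h).obj.obj (op U)) (hb : ∀ n, ρ 𝔛 h U n b = ρ 𝔛 h U n b') :
    b = b' := by
  have hc : IsLimit ((secF 𝔛 U).mapCone (limit.cone (𝔛.levelRing h))) :=
    isLimitOfPreserves (secF 𝔛 U) (limit.isLimit (𝔛.levelRing h))
  apply Concrete.isLimit_ext (𝔛.levelRing h ⋙ secF 𝔛 U) hc
  intro j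
  exact hb j.unop

lemma ρ_ex (s : ∀ n, (𝔛.levelObj h n).obj.obj (op U))
    (hs : ∀ n, τ 𝔛 h U n (s (n + 1)) = s n) :
    ∃ b : (𝔛.Osh h).obj.obj (op U), ∀ n, ρ 𝔛 h U n b = s n := by
  let c := (secF 𝔛 U).mapCone (limit.cone (𝔛.levelRing h))
  have hc : IsLimit c := isLimitOfPreserves (secF 𝔛 U) (limit.isLimit (𝔛.levelRing h))
  let G : ℕᵒᵖ ⥤ Type u := (𝔛.levelRing h ⋙ secF 𝔛 U) ⋙ forget CommRingCat.{u}
  have hc' : IsLimit ((forget CommRingCat.{u}).mapCone c) :=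
    isLimitOfPreserves (forget CommRingCat.{u}) hc
  have hsec : (fun j : ℕᵒᵖ => (s j.unop : G.obj (op j.unop))) ∈ G.sections := by
    apply mem_sections_of_succ G s
    intro n
    have e1 : (𝔛.levelRing h).map (homOfLE (Nat.le_succ n)).op = 𝔛.levelMap h n :=
      𝔛.levelRing_map_succ h n
    show (((𝔛.levelRing h).map (homOfLE (Nat.le_succ n)).op).hom.app (op U)).hom (s (n + 1)) =
      s n
    rw [e1]
    exact hs n
  refine ⟨(Types.isLimitEquivSections hc').symm ⟨_, hsec⟩, fun n => ?_⟩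
  exact Types.isLimitEquivSections_symm_apply hc' ⟨_, hsec⟩ (op n)

end Tower

section ToScheme
variable (𝔛 : FSch.Sys.{u}) (h : 𝔛.IsFormal) {Y : Scheme.{u}} (p : ∀ n, 𝔛.X n ⟶ Y)
  (hp : ∀ n, 𝔛.ι n ≫ p (n + 1) = p n) (V : Y.Opens)

/-- the comorphism on sections over `V`. -/
def cV : Γ(Y, V) →+* ((𝔛.Osh h).obj.obj (op (p 0 ⁻¹ᵁ V))) :=
  ((FSch.schSharp 𝔛 h p hp).hom.app (op V)).hom

/-- the level comorphisms on sections over `V`. -/
def πV (n : ℕ) : Γ(Y, V) →+* ((𝔛.levelObj h n).obj.obj (op (p 0 ⁻¹ᵁ V))) :=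
  ((p n).appLE V (𝔛.lvU h n (p 0 ⁻¹ᵁ V)) (FSch.lvU_p 𝔛 h p hp n V).ge).hom

lemma ρ_cV (n : ℕ) (a : Γ(Y, V)) :
    ρ 𝔛 h (p 0 ⁻¹ᵁ V) n (cV 𝔛 h p hp V a) = πV 𝔛 h p hp V n a :=
  congrArg (fun k : Y.sheaf ⟶
      (TopCat.Sheaf.pushforward CommRingCat.{u} (p 0).base).obj (𝔛.levelObj h n) =>
    (k.hom.app (op V)).hom a) (FSch.schSharp_proj 𝔛 h p hp n)

lemma τ_πV (n : ℕ) (a : Γ(Y, V)) :
    τ 𝔛 h (p 0 ⁻¹ᵁ V) n (πV 𝔛 h p hp V (n + 1) a) = πV 𝔛 h p hp V n a :=
  congrArg (fun k : Y.sheaf ⟶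
      (TopCat.Sheaf.pushforward CommRingCat.{u} (p 0).base).obj (𝔛.levelObj h n) =>
    (k.hom.app (op V)).hom a) (FSch.schLevel_levelMap 𝔛 h p hp n)

end ToScheme

lemma appLE_surj_ker {X Y : Scheme.{u}} (f : X ⟶ Y) (V : Y.Opens) (W : X.Opens)
    (e : W ≤ f ⁻¹ᵁ V) (e' : W = f ⁻¹ᵁ V) :
    (Function.Surjective (f.app V).hom → Function.Surjective (f.appLE V W e).hom) ∧
      RingHom.ker (f.appLE V W e).hom = RingHom.ker (f.app V).hom := by
  subst e'
  have h1 : f.appLE V (f ⁻¹ᵁ V) e = f.app V := by simp [Scheme.Hom.appLE]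
  rw [h1]
  exact ⟨id, rfl⟩

section Completion
variable (X : Scheme.{u}) [IsLocallyNoetherian X] (𝓘 : X.IdealSheafData)
  (h : (FSch.completionAlong X 𝓘).IsFormal)

/-- over an affine open the comorphism of the completion is flat. -/
theorem flat_cV (V : X.Opens) (hV : IsAffineOpen V) :
    (cV (FSch.completionAlong X 𝓘) h (FSch.completionToX X 𝓘) (FSch.completionToX_comm X 𝓘)
      V).Flat := by
  haveI : IsNoetherianRing Γ(X, V) := IsLocallyNoetherian.component_noetherian ⟨V, hV⟩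
  have hsk : ∀ n, Function.Surjective (πV (FSch.completionAlong X 𝓘) h (FSch.completionToX X 𝓘)
        (FSch.completionToX_comm X 𝓘) V n) ∧
      RingHom.ker (πV (FSch.completionAlong X 𝓘) h (FSch.completionToX X 𝓘)
        (FSch.completionToX_comm X 𝓘) V n) = (𝓘.ideal ⟨V, hV⟩) ^ (n + 1) := by
    intro n
    have h0 := appLE_surj_ker (FSch.completionToX X 𝓘 n) V
      ((FSch.completionAlong X 𝓘).lvU h n (FSch.completionToX X 𝓘 0 ⁻¹ᵁ V))
      (FSch.lvU_p (FSch.completionAlong X 𝓘) h (FSch.completionToX X 𝓘)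
        (FSch.completionToX_comm X 𝓘) n V).ge
      (FSch.lvU_p (FSch.completionAlong X 𝓘) h (FSch.completionToX X 𝓘)
        (FSch.completionToX_comm X 𝓘) n V).symm
    refine ⟨h0.1 ((𝓘 ^ (n + 1)).subschemeι_app_surjective ⟨V, hV⟩), ?_⟩
    refine h0.2.trans ?_
    have h1 : RingHom.ker ((FSch.completionToX X 𝓘 n).app V).hom =
        (𝓘 ^ (n + 1)).ideal ⟨V, hV⟩ :=
      Scheme.IdealSheafData.ker_subschemeι_app (𝓘 ^ (n + 1)) ⟨V, hV⟩
    rw [h1, Scheme.IdealSheafData.ideal_pow]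
    rfl
  exact TowerFlat.flat_of_tower (𝓘.ideal ⟨V, hV⟩)
    (cV (FSch.completionAlong X 𝓘) h (FSch.completionToX X 𝓘) (FSch.completionToX_comm X 𝓘) V)
    (fun n => ↑(((FSch.completionAlong X 𝓘).levelObj h n).obj.obj
      (op (FSch.completionToX X 𝓘 0 ⁻¹ᵁ V))))
    (τ (FSch.completionAlong X 𝓘) h (FSch.completionToX X 𝓘 0 ⁻¹ᵁ V))
    (πV (FSch.completionAlong X 𝓘) h (FSch.completionToX X 𝓘) (FSch.completionToX_comm X 𝓘) V)
    (ρ (FSch.completionAlong X 𝓘) h (FSch.completionToX X 𝓘 0 ⁻¹ᵁ V))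
    (fun n => (hsk n).1) (fun n => (hsk n).2)
    (τ_πV (FSch.completionAlong X 𝓘) h (FSch.completionToX X 𝓘) (FSch.completionToX_comm X 𝓘) V)
    (τ_ρ (FSch.completionAlong X 𝓘) h (FSch.completionToX X 𝓘 0 ⁻¹ᵁ V))
    (ρ_cV (FSch.completionAlong X 𝓘) h (FSch.completionToX X 𝓘) (FSch.completionToX_comm X 𝓘) V)
    (ρ_inj (FSch.completionAlong X 𝓘) h (FSch.completionToX X 𝓘 0 ⁻¹ᵁ V))
    (ρ_ex (FSch.completionAlong X 𝓘) h (FSch.completionToX X 𝓘 0 ⁻¹ᵁ V))

/-- the completion of a locally Noetherian scheme along an ideal is flat over the scheme. -/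
theorem completion_isFlat :
    ModSite.RMor.IsFlat (FSch.toSchemeMor (FSch.completionAlong X 𝓘) h (FSch.completionToX X 𝓘)
      (FSch.completionToX_comm X 𝓘)) := by
  have hflat : ∀ x : ↥((FSch.completionAlong X 𝓘).X 0),
      (Sky.stalkHom (FSch.completionToX X 𝓘 0).base
        (O_X := (FSch.completionAlong X 𝓘).Osh h) (O_Y := X.sheaf)
        (FSch.schSharp (FSch.completionAlong X 𝓘) h (FSch.completionToX X 𝓘)
          (FSch.completionToX_comm X 𝓘)) x).Flat := by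
    intro x
    refine StalkFlat.flat_sHom_of_basis ((FSch.completionAlong X 𝓘).Osh h).obj
      (FSch.completionToX X 𝓘 0).base X.sheaf.obj
      (FSch.schSharp (FSch.completionAlong X 𝓘) h (FSch.completionToX X 𝓘)
        (FSch.completionToX_comm X 𝓘)).hom x {V | IsAffineOpen V} ?_ ?_
    · intro V hV
      exact flat_cV X 𝓘 h V hV
    · intro U V₀ hxU hxV₀
      haveI : IsPreimmersion (FSch.completionToX X 𝓘 0) :=
        inferInstanceAs (IsPreimmersion (𝓘 ^ (0 + 1)).subschemeι)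
      obtain ⟨U', hU'⟩ := exists_opens_preimage_eq (FSch.completionToX X 𝓘 0).base
        (FSch.completionToX X 𝓘 0).isEmbedding.isInducing U
      have hxU' : (FSch.completionToX X 𝓘 0).base x ∈ U' := by
        have h1 : x ∈ (Opens.map (FSch.completionToX X 𝓘 0).base).obj U' := by
          rw [hU']
          exact hxU
        exact h1
      obtain ⟨V, hVaff, hxV, hVle⟩ := (Opens.isBasis_iff_nbhd.mp X.isBasis_affineOpens)
        (show (FSch.completionToX X 𝓘 0).base x ∈ V₀ ⊓ U' from ⟨hxV₀, hxU'⟩)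
      refine ⟨V, hVaff, hxV, hVle.trans inf_le_left, ?_⟩
      rw [← hU']
      exact fun z hz => (hVle hz).2
  exact Sky.isFlat_of_stalk_flat (FSch.completionToX X 𝓘 0).base
    (FSch.schSharp (FSch.completionAlong X 𝓘) h (FSch.completionToX X 𝓘)
      (FSch.completionToX_comm X 𝓘)) hflat

end Completion

end Groth.Agent.LD.RSp.ComplFlat
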