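import Groth.Agent.Lib.Lead.RSp.Gen

/-! # The forgetful functor from sheaves of modules to abelian sheaves preserves colimits. -/

universe u
open CategoryTheory Limits Opposite

namespace Groth.Agent.LD.RSp

/-- if `L` and `L ⋙ G` preserve the colimit of `D₀`, then `G` preserves the colimit of
`D₀ ⋙ L`. -/
lemma preservesColimit_of_comp {A B E K : Type*} [Category A] [Category B] [Category E]
    [Category K] (D₀ : K ⥤ A) (L : A ⥤ B) (G : B ⥤ E) [HasColimit D₀] [PreservesColimit D₀ L]
    [PreservesColimit D₀ (L ⋙ G)] : PreservesColimit (D₀ ⋙ L) G := by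
  constructor
  intro c hc
  have h₁ : IsColimit (L.mapCocone (colimit.cocone D₀)) :=
    isColimitOfPreserves L (colimit.isColimit D₀)
  have h₂ : IsColimit ((L ⋙ G).mapCocone (colimit.cocone D₀)) :=
    isColimitOfPreserves (L ⋙ G) (colimit.isColimit D₀)
  have h₃ : IsColimit (G.mapCocone (L.mapCocone (colimit.cocone D₀))) := h₂
  exact ⟨IsColimit.ofIsoColimit h₃
    ((Cocones.functoriality _ G).mapIso (h₁.uniqueUpToIso hc))⟩

section
variable {C : Type u} [SmallCategory C] {J : GrothendieckTopology C} (R : Sheaf J RingCat.{u})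
variable {K : Type u} [SmallCategory K]

/-- the forgetful functor to abelian sheaves preserves small colimits. -/
theorem preservesColimit_toSheaf (D : K ⥤ SheafOfModules.{u} R) :
    PreservesColimit D (SheafOfModules.toSheaf.{u} R) := by
  let L := PresheafOfModules.sheafification.{u} (𝟙 R.obj)
  let D₀ := D ⋙ SheafOfModules.forget R
  let e : D ≅ D₀ ⋙ L :=
    Functor.isoWhiskerLeft D
      (asIso (PresheafOfModules.sheafificationAdjunction (𝟙 R.obj)).counit).symm
  haveI : PreservesColimit D₀ L := inferInstance
  haveI h1 : PreservesColimit D₀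
      (PresheafOfModules.toPresheaf R.obj ⋙ presheafToSheaf J AddCommGrpCat.{u}) :=
    inferInstance
  haveI : PreservesColimit D₀ (L ⋙ SheafOfModules.toSheaf.{u} R) :=
    preservesColimit_of_natIso D₀ (PresheafOfModules.sheafificationCompToSheaf (𝟙 R.obj)).symm
  haveI := preservesColimit_of_comp D₀ L (SheafOfModules.toSheaf.{u} R)
  exact preservesColimit_of_iso_diagram _ e.symm

end

end Groth.Agent.LD.RSp
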