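import Groth.Agent.Lib.Lead.RSp.SubSh
import Groth.Agent.Lib.Lead.RSp.ToSheafColim

/-! # Directed colimits of modules on a quasi-compact ringed space with colimit of finite
type. -/

universe u
open CategoryTheory Limits Opposite TopologicalSpace

namespace Groth.Agent.LD.RSp

variable {X : TopCat.{u}} {O : TopCat.Sheaf CommRingCat.{u} X}

lemma leg_map {K : Type*} [Category K] {D : K ⥤ ModSite.Mod O} (c : Cocone D) {j j' : K}
    (a : j ⟶ j') (W : Opens X) (t : ModSite.sect (D.obj j) W) :
    (leg c j').val.app (op W) ((D.map a).val.app (op W) t) = (leg c j).val.app (op W) t := by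
  have h : (D.map a ≫ leg c j').val.app (op W) t = (leg c j).val.app (op W) t := by
    rw [show D.map a ≫ leg c j' = leg c j from c.w a]
  exact h

section Directed
variable {I : Type u} [Preorder I] [Nonempty I] [IsDirected I (· ≤ ·)]
  {D : I ⥤ ModSite.Mod O} (c : Cocone D)

/-- sections coming from a stage. -/
noncomputable def stageSubmodule (W : Opens X) :
    Submodule ((ModSite.ringSh O).obj.obj (op W)) (ModSite.sect c.pt W) where
  carrier := {s | ∃ (j : I) (t : ModSite.sect (D.obj j) W), (leg c j).val.app (op W) t = s}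
  zero_mem' := ⟨Classical.arbitrary I, 0, map_zero _⟩
  add_mem' := by
    rintro s₁ s₂ ⟨j₁, t₁, rfl⟩ ⟨j₂, t₂, rfl⟩
    obtain ⟨j₃, h₁, h₂⟩ := exists_ge_ge j₁ j₂
    refine ⟨j₃, (D.map (homOfLE h₁)).val.app (op W) t₁ + (D.map (homOfLE h₂)).val.app (op W) t₂,
      ?_⟩
    rw [map_add, leg_map, leg_map]
  smul_mem' := by
    rintro r s ⟨j, t, rfl⟩
    exact ⟨j, r • t, map_smul _ _ _⟩

lemma stageSubmodule_res {W W' : Opens X} (h : W' ≤ W) (s : ModSite.sect c.pt W)
    (hs : s ∈ stageSubmodule c W) : res c.pt h s ∈ stageSubmodule c W' := by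
  obtain ⟨j, t, rfl⟩ := hs
  exact ⟨j, res (D.obj j) h t, app_res _ h t⟩

/-- the subsheaf of sections locally coming from a stage. -/
noncomputable def stageSub : SubSh c.pt :=
  SubSh.ofLocal c.pt (stageSubmodule c) (fun h s hs => stageSubmodule_res c h s hs)

/-- every section of a directed colimit comes locally from a stage. -/
theorem locStage_of_isColimit (hc : IsColimit c) (W : Opens X) (s : ModSite.sect c.pt W)
    (x : X) (hx : x ∈ W) :
    ∃ (W' : Opens X) (h : W' ≤ W), x ∈ W' ∧ ∃ (j : I) (t : ModSite.sect (D.obj j) W'),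
      (leg c j).val.app (op W') t = res c.pt h s := by
  have hs : s ∈ (stageSub c).N W := by
    refine SubSh.mem_of_isColimit c hc (stageSub c) ?_ W s
    intro j V t y hy
    refine ⟨V, le_rfl, hy, ?_⟩
    rw [res_self]
    exact ⟨j, t, rfl⟩
  exact hs x hx

/-- the leg at `j` is surjective on sections locally over `W`. -/
def LocSurjOver (j : I) (W : Opens X) : Prop :=
  ∀ (V : Opens X) (_ : V ≤ W) (τ : ModSite.sect c.pt V) (y : X), y ∈ V →
    ∃ (V' : Opens X) (hV' : V' ≤ V), y ∈ V' ∧ ∃ m : ModSite.sect (D.obj j) V',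
      (leg c j).val.app (op V') m = res c.pt hV' τ

lemma LocSurjOver.mono {j j' : I} (h : j ≤ j') {W : Opens X} (hj : LocSurjOver c j W) :
    LocSurjOver c j' W := by
  intro V hV τ y hy
  obtain ⟨V', hV', hyV', m, hm⟩ := hj V hV τ y hy
  exact ⟨V', hV', hyV', (D.map (homOfLE h)).val.app (op V') m, by rw [leg_map, hm]⟩

theorem exists_locSurjOver (hc : IsColimit c)
    [SheafOfModules.IsFiniteType (R := ModSite.ringSh O) c.pt] (x : X) :
    ∃ (W : Opens X) (j : I), x ∈ W ∧ LocSurjOver c j W := by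
  classical
  obtain ⟨U, hxU, ι, _, s, hs⟩ := (isFiniteType_iff c.pt).mp inferInstance x
  obtain ⟨W, hWU, hxW, hW⟩ := exists_common_nbhd x U hxU
    (fun i W => ∃ (hW : W ≤ U) (j : I) (t : ModSite.sect (D.obj j) W),
      (leg c j).val.app (op W) t = res c.pt hW (s i))
    (by
      rintro i W W' hW' ⟨hW, j, t, ht⟩
      exact ⟨hW'.trans hW, j, res (D.obj j) hW' t, by rw [app_res, ht, res_res]⟩)
    (by
      intro i
      obtain ⟨W', hW', hxW', j, t, ht⟩ := locStage_of_isColimit c hc U (s i) x hxU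
      exact ⟨W', hW', hxW', hW', j, t, ht⟩)
  choose hWU' j t ht using hW
  obtain ⟨j₀, hj₀⟩ := Finset.exists_le (Finset.univ.image j)
  have hj₀' : ∀ i, j i ≤ j₀ := fun i =>
    hj₀ (j i) (Finset.mem_image_of_mem j (Finset.mem_univ i))
  refine ⟨W, j₀, hxW, ?_⟩
  intro V hV τ y hy
  obtain ⟨V', hV', hyV', r, hr⟩ := hs V (hV.trans hWU) τ y hy
  refine ⟨V', hV', hyV', ∑ i, r i • res (D.obj j₀) (hV'.trans hV)
    ((D.map (homOfLE (hj₀' i))).val.app (op W) (t i)), ?_⟩
  rw [hr, map_sum]
  refine Finset.sum_congr rfl fun i _ => ?_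
  rw [map_smul, app_res, leg_map, ht i, res_res]

/-- on a quasi-compact ringed space, a directed colimit of finite type is the image of a
stage. -/
theorem exists_epi_leg [CompactSpace X] (hc : IsColimit c)
    [SheafOfModules.IsFiniteType (R := ModSite.ringSh O) c.pt] : ∃ i : I, Epi (c.ι.app i) := by
  classical
  choose W j hxW hW using exists_locSurjOver c hc
  obtain ⟨T, hT⟩ := isCompact_univ.elim_finite_subcover (fun x : X => (W x : Set X))
    (fun x => (W x).isOpen) (fun y _ => Set.mem_iUnion.mpr ⟨y, hxW y⟩)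
  obtain ⟨j₀, hj₀⟩ := Finset.exists_le (T.image j)
  refine ⟨j₀, ?_⟩
  change Epi (leg c j₀)
  rw [epi_iff_forall_exists]
  intro V τ y hy
  obtain ⟨x, hxT, hyx⟩ : ∃ x ∈ T, y ∈ W x := by
    have h2 := hT (Set.mem_univ y)
    simp only [Set.mem_iUnion, exists_prop] at h2
    exact h2
  have hj : LocSurjOver c j₀ (W x) :=
    (hW x).mono c (hj₀ (j x) (Finset.mem_image_of_mem j hxT))
  obtain ⟨V', hV', hyV', m, hm⟩ :=
    hj (V ⊓ W x) inf_le_right (res c.pt inf_le_left τ) y ⟨hy, hyx⟩
  refine ⟨V', hV'.trans inf_le_left, hyV', m, ?_⟩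
  rw [hm, res_res]

/-- the legs of a directed colimit with injective transition maps are injective. -/
theorem mono_leg_of_mono (hc : IsColimit c) (hD : ∀ (i j : I) (f : i ⟶ j), Mono (D.map f))
    (i : I) : Mono (c.ι.app i) := by
  let G := SheafOfModules.toSheaf.{u} (ModSite.ringSh O)
  haveI := preservesColimit_toSheaf (ModSite.ringSh O) D
  have hc' : IsColimit (G.mapCocone c) := isColimitOfPreserves G hc
  haveI : ∀ (i j : I) (f : i ⟶ j), Mono ((D ⋙ G).map f) := fun i j f => by
    haveI := hD i j f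
    change Mono (G.map (D.map f))
    infer_instance
  have h := hc'.mono_ι_app_of_isFiltered i
  have h' : Mono (G.map (c.ι.app i)) := h
  exact G.mono_of_mono_map h'

end Directed

end Groth.Agent.LD.RSp
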