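import Groth.Agent.Lib.Lead.RSp.Top

/-! # Modules of finite type on a ringed space: extensions. -/

universe u
open CategoryTheory Limits Opposite TopologicalSpace

namespace Groth.Agent.LD.RSp

variable {X : TopCat.{u}} {O : TopCat.Sheaf CommRingCat.{u} X}

/-- an extension of modules of finite type is of finite type. -/
theorem isFiniteType_of_shortExact (S : ShortComplex (ModSite.Mod O)) (hS : S.ShortExact)
    (h₁ : SheafOfModules.IsFiniteType (R := ModSite.ringSh O) S.X₁)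
    (h₃ : SheafOfModules.IsFiniteType (R := ModSite.ringSh O) S.X₃) :
    SheafOfModules.IsFiniteType (R := ModSite.ringSh O) S.X₂ := by
  rw [isFiniteType_iff] at h₁ h₃ ⊢
  intro x
  obtain ⟨U₁, hx₁, ι₁, _, a, ha⟩ := h₁ x
  obtain ⟨U₃, hx₃, ι₃, _, c, hc⟩ := h₃ x
  haveI := hS.epi_g
  haveI := hS.mono_f
  obtain ⟨W, hW, hxW, b, hb⟩ := exists_lift_fin S.g (U₁ ⊓ U₃)
    (fun j => res S.X₃ inf_le_right (c j)) x ⟨hx₁, hx₃⟩
  have hW₁ : W ≤ U₁ := hW.trans inf_le_left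
  have hW₃ : W ≤ U₃ := hW.trans inf_le_right
  refine ⟨W, hxW, ι₁ ⊕ ι₃, inferInstance,
    Sum.elim (fun i => S.f.val.app (op W) (res S.X₁ hW₁ (a i))) b, ?_⟩
  intro V hV t y hy
  obtain ⟨V₁, hV₁, hyV₁, r₃, hr₃⟩ := hc V (hV.trans hW₃) (S.g.val.app (op V) t) y hy
  let t' : ModSite.sect S.X₂ V₁ :=
    res S.X₂ hV₁ t - ∑ j, r₃ j • res S.X₂ (hV₁.trans hV) (b j)
  have ht' : S.g.val.app (op V₁) t' = 0 := by
    simp only [t', map_sub, map_sum, map_smul]
    rw [app_res, hr₃, sub_eq_zero]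
    refine Finset.sum_congr rfl fun j _ => ?_
    rw [app_res, hb, res_res, res_res]
  obtain ⟨a', ha'⟩ := exists_of_exact hS.exact V₁ t' ht'
  obtain ⟨V₂, hV₂, hyV₂, r₁, hr₁⟩ := ha V₁ (hV₁.trans (hV.trans hW₁)) a' y hyV₁
  refine ⟨V₂, hV₂.trans hV₁, hyV₂, Sum.elim r₁ (fun j => rr O hV₂ (r₃ j)), ?_⟩
  rw [Fintype.sum_sum_type]
  simp only [Sum.elim_inl, Sum.elim_inr]
  have e1 : res S.X₂ (hV₂.trans hV₁) t = res S.X₂ hV₂ t' +
      ∑ j, rr O hV₂ (r₃ j) • res S.X₂ ((hV₂.trans hV₁).trans hV) (b j) := by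
    simp only [t', res_sub, res_sum, res_smul, res_res]
    abel
  rw [e1, ← ha', ← app_res, hr₁, map_sum]
  congr 1
  refine Finset.sum_congr rfl fun i _ => ?_
  rw [map_smul, ← app_res, res_res]

end Groth.Agent.LD.RSp
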