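import Groth.Agent.Lib.Lead.RSp.PullGen
import Groth.Agent.Lib.Lead.FCompl.EpiLevel
import Mathlib.RingTheory.Flat.FaithfullyFlat.Algebra
import Mathlib.AlgebraicGeometry.Morphisms.Flat

/-! # Finite type descends along flat, surjective, open morphisms of ringed spaces.

For a morphism of ringed spaces `(X, O_X) ⟶ (Y, O_Y)` which is open, surjective on points and
whose stalk maps are faithfully flat, an arbitrary `O_Y`-module whose pullback is of finite
type is of finite type.  The stalk of the pullback is never computed: generation of the stalk of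
the pullback by the sections coming from below comes from `PullGen.mem_unitSub`, and the descent
of generation is tested against skyscraper modules (`EpiLevel.exists_toPushSky`). -/

universe u
open CategoryTheory Limits Opposite TopologicalSpace

noncomputable section

namespace Groth.Agent.LD.RSp.FTDesc

open Groth.Agent.LD.RSp Groth.Agent.LD.RSp.Sky Groth.Agent.LD.FCompl.EpiLevel

section Local
variable {X : TopCat.{u}} {O : TopCat.Sheaf CommRingCat.{u} X}

/-- a section whose germ at `z` lies in the span of the germs of finitely many sections is,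
near `z`, a combination of these sections. -/
lemma exists_local_comb (F : ModSite.Mod O) (z : X) {V₀ U : Opens X} (hzV : z ∈ V₀) (hzU : z ∈ U)
    (t : ModSite.sect F V₀) {κ : Type u} [Fintype κ] (s : κ → ModSite.sect F U)
    (h : gM F z V₀ hzV t ∈
      Submodule.span (Ox O z) (Set.range fun k => gM F z U hzU (s k))) :
    ∃ (W : Opens X) (hWV : W ≤ V₀) (hWU : W ≤ U), z ∈ W ∧
      ∃ a : κ → (ModSite.ringSh O).obj.obj (op W),
        res F hWV t = ∑ k, a k • res F hWU (s k) := by
  obtain ⟨γ, hγ⟩ := (Submodule.mem_span_range_iff_exists_fun _).mp h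
  have hγ' : ∑ k, γ k • gM F z U hzU (s k) = gM F z V₀ hzV t := hγ
  obtain ⟨W₀, hW₀, hzW₀, hP⟩ := exists_common_nbhd z (V₀ ⊓ U) ⟨hzV, hzU⟩
    (fun k W => ∀ hz : z ∈ W, ∃ a : (ModSite.ringSh O).obj.obj (op W), gR O z W hz a = γ k)
    (by
      intro k W W' hW' hk hz
      obtain ⟨a, ha⟩ := hk (hW' hz)
      exact ⟨rr O hW' a, (gR_rr O z hW' hz (hW' hz) a).trans ha⟩)
    (by
      intro k
      obtain ⟨U₁, hzU₁, a, ha⟩ := gR_surj O z (γ k)
      refine ⟨U₁ ⊓ (V₀ ⊓ U), inf_le_right, ⟨hzU₁, hzV, hzU⟩, fun hz => ?_⟩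
      exact ⟨rr O inf_le_left a, (gR_rr O z inf_le_left hz hzU₁ a).trans ha⟩)
  choose a ha using fun k => hP k hzW₀
  have hgerm : gM F z W₀ hzW₀ (res F (hW₀.trans inf_le_left) t) =
      gM F z W₀ hzW₀ (∑ k, a k • res F (hW₀.trans inf_le_right) (s k)) := by
    rw [gM_res z F (hW₀.trans inf_le_left) hzW₀ hzV t, map_sum, ← hγ']
    refine Finset.sum_congr rfl fun k _ => ?_
    rw [gM_smul z F hzW₀, ha k, gM_res z F (hW₀.trans inf_le_right) hzW₀ hzU]
  obtain ⟨W₁, hzW₁, h1, h2, e⟩ := gM_eq z F hzW₀ hzW₀ _ _ hgerm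
  refine ⟨W₁, h1.trans (hW₀.trans inf_le_left), h2.trans (hW₀.trans inf_le_right), hzW₁,
    fun k => rr O h2 (a k), ?_⟩
  rw [res_res] at e
  rw [e, res_sum]
  refine Finset.sum_congr rfl fun k _ => ?_
  rw [res_smul, res_res]

/-- sections whose germs span every stalk over `U` generate over `U`. -/
theorem locGen_of_stalk_span (F : ModSite.Mod O) (U : Opens X) {κ : Type u} [Fintype κ]
    (s : κ → ModSite.sect F U)
    (h : ∀ (z : X) (hz : z ∈ U),
      Submodule.span (Ox O z) (Set.range fun k => gM F z U hz (s k)) = ⊤) :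
    LocGen F U s := by
  intro V hV t z hz
  have h1 : gM F z V hz t ∈
      Submodule.span (Ox O z) (Set.range fun k => gM F z U (hV hz) (s k)) := by
    rw [h z (hV hz)]
    exact Submodule.mem_top
  obtain ⟨W, hWV, hWU, hzW, a, ha⟩ := exists_local_comb F z hz (hV hz) t s h1
  exact ⟨W, hWV, hzW, a, ha⟩

/-- for a module of finite type, sections whose germs span the stalk at `x` generate over a
neighbourhood of `x`. -/
theorem exists_locGen_of_stalk_span (F : ModSite.Mod O)
    (hF : SheafOfModules.IsFiniteType (R := ModSite.ringSh O) F) (x : X) (U : Opens X)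
    (hx : x ∈ U) {κ : Type u} [Fintype κ] (s : κ → ModSite.sect F U)
    (h : Submodule.span (Ox O x) (Set.range fun k => gM F x U hx (s k)) = ⊤) :
    ∃ (W : Opens X) (hW : W ≤ U), x ∈ W ∧ LocGen F W (fun k => res F hW (s k)) := by
  obtain ⟨U₁, hxU₁, ι, _, t, ht⟩ := (isFiniteType_iff F).mp hF x
  obtain ⟨W, hWU, hxW, hW⟩ := exists_common_nbhd x (U₁ ⊓ U) ⟨hxU₁, hx⟩
    (fun i W => ∃ (hW₁ : W ≤ U₁) (hW₂ : W ≤ U) (a : κ → (ModSite.ringSh O).obj.obj (op W)),
      res F hW₁ (t i) = ∑ k, a k • res F hW₂ (s k))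
    (by
      rintro i W W' hW' ⟨hW₁, hW₂, a, ha⟩
      refine ⟨hW'.trans hW₁, hW'.trans hW₂, fun k => rr O hW' (a k), ?_⟩
      have h0 := congrArg (res F hW') ha
      rw [res_res, res_sum] at h0
      rw [h0]
      refine Finset.sum_congr rfl fun k _ => ?_
      rw [res_smul, res_res])
    (by
      intro i
      have h1 : gM F x U₁ hxU₁ (t i) ∈
          Submodule.span (Ox O x) (Set.range fun k => gM F x U hx (s k)) := by
        rw [h]
        exact Submodule.mem_top
      obtain ⟨W, hWV, hWU, hzW, a, ha⟩ := exists_local_comb F x hxU₁ hx (t i) s h1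
      exact ⟨W, le_inf hWV hWU, hzW, hWV, hWU, a, ha⟩)
  choose hW₁ hW₂ a ha using hW
  refine ⟨W, hWU.trans inf_le_right, hxW, ?_⟩
  intro V hV t' z hz
  obtain ⟨V', hV', hzV', r, hr⟩ := ht V (hV.trans (hWU.trans inf_le_left)) t' z hz
  refine ⟨V', hV', hzV', fun k => ∑ i, r i * rr O (hV'.trans hV) (a i k), ?_⟩
  have h2 : ∀ i, res F ((hV'.trans hV).trans (hWU.trans inf_le_left)) (t i) =
      ∑ k, rr O (hV'.trans hV) (a i k) •
        res F ((hV'.trans hV).trans (hWU.trans inf_le_right)) (s k) := by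
    intro i
    have h0 := congrArg (res F (hV'.trans hV)) (ha i)
    rw [res_res, res_sum] at h0
    rw [h0]
    refine Finset.sum_congr rfl fun k _ => ?_
    rw [res_smul, res_res]
  calc res F hV' t'
      = ∑ i, r i • res F ((hV'.trans hV).trans (hWU.trans inf_le_left)) (t i) := hr
    _ = ∑ i, r i • ∑ k, rr O (hV'.trans hV) (a i k) •
          res F ((hV'.trans hV).trans (hWU.trans inf_le_right)) (s k) :=
        Finset.sum_congr rfl fun i _ => by rw [h2 i]
    _ = ∑ i, ∑ k, (r i * rr O (hV'.trans hV) (a i k)) •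
          res F ((hV'.trans hV).trans (hWU.trans inf_le_right)) (s k) :=
        Finset.sum_congr rfl fun i _ => by
          rw [Finset.smul_sum]
          exact Finset.sum_congr rfl fun k _ => smul_smul _ _ _
    _ = ∑ k, ∑ i, (r i * rr O (hV'.trans hV) (a i k)) •
          res F ((hV'.trans hV).trans (hWU.trans inf_le_right)) (s k) := Finset.sum_comm
    _ = ∑ k, (∑ i, r i * rr O (hV'.trans hV) (a i k)) •
          res F ((hV'.trans hV).trans (hWU.trans inf_le_right)) (s k) :=
        Finset.sum_congr rfl fun k _ => (Finset.sum_smul).symm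
    _ = ∑ k, (∑ i, r i * rr O (hV'.trans hV) (a i k)) •
          res F (hV'.trans hV) (res F (hWU.trans inf_le_right) (s k)) :=
        Finset.sum_congr rfl fun k _ => by rw [res_res]

end Local

section Algebra

/-- over a faithfully flat algebra, membership in a submodule can be tested after a semilinear
map to a module over the algebra. -/
lemma exists_test_map {A B : Type u} [CommRing A] [CommRing B] (φ : A →+* B)
    (hff : letI := φ.toAlgebra
      Module.FaithfullyFlat A B)
    {M : Type u} [AddCommGroup M] [Module A M] (N : Submodule A M) :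
    ∃ (E : Type u) (_ : AddCommGroup E) (_ : Module B E) (ℓ : M →+ E),
      (∀ (r : A) (μ : M), ℓ (r • μ) = φ r • ℓ μ) ∧ (∀ μ ∈ N, ℓ μ = 0) ∧
        ∀ μ, ℓ μ = 0 → μ ∈ N := by
  letI := φ.toAlgebra
  haveI : Module.FaithfullyFlat A B := hff
  refine ⟨TensorProduct A B (M ⧸ N), inferInstance, inferInstance,
    ((TensorProduct.mk A B (M ⧸ N) 1).comp N.mkQ).toAddMonoidHom, ?_, ?_, ?_⟩
  · intro r μ
    show (TensorProduct.mk A B (M ⧸ N) 1) (N.mkQ (r • μ)) =
      algebraMap A B r • (TensorProduct.mk A B (M ⧸ N) 1) (N.mkQ μ)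
    rw [map_smul, map_smul, algebraMap_smul]
  · intro μ hμ
    show (TensorProduct.mk A B (M ⧸ N) 1) (N.mkQ μ) = 0
    have h0 : N.mkQ μ = 0 := (Submodule.Quotient.mk_eq_zero N).mpr hμ
    rw [h0, map_zero]
  · intro μ hμ
    have h0 : (TensorProduct.mk A B (M ⧸ N) 1) (N.mkQ μ) =
        (TensorProduct.mk A B (M ⧸ N) 1) 0 := by
      rw [map_zero]
      exact hμ
    have h1 : N.mkQ μ = 0 :=
      Module.FaithfullyFlat.tensorProduct_mk_injective (A := A) (B := B) (M ⧸ N) h0
    exact (Submodule.Quotient.mk_eq_zero N).mp h1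

end Algebra

section Pull
variable {X Y : TopCat.{u}} (f : X ⟶ Y) {O_X : TopCat.Sheaf CommRingCat.{u} X}
  {O_Y : TopCat.Sheaf CommRingCat.{u} Y}
  (c : O_Y ⟶ ((Opens.map f).sheafPushforwardContinuous CommRingCat.{u}
    (Opens.grothendieckTopology Y) (Opens.grothendieckTopology X)).obj O_X)
  (G : ModSite.Mod O_Y)

/-- the germs at `x` of the sections of the pullback coming from `G`. -/
def unitGerms (x : X) : Set (St (pl f c G) x) :=
  {γ | ∃ (V : Opens Y) (hV : f x ∈ V) (g : ModSite.sect G V),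
    γ = gM (pl f c G) x ((Opens.map f).obj V) hV (un f c G V g)}

/-- the stalk of the pullback is spanned by the germs coming from `G`. -/
theorem span_unitGerms (x : X) :
    Submodule.span (Ox O_X x) (unitGerms f c G x) = ⊤ := by
  rw [eq_top_iff]
  intro γ _
  obtain ⟨W, hxW, t, rfl⟩ := gM_surj x (pl f c G) γ
  have hmem : ∀ x ∈ W, ∃ (W' : Opens X) (h : W' ≤ W), x ∈ W' ∧
      res (pl f c G) h t ∈ unitSpan f c G W' := mem_unitSub f c G W t
  obtain ⟨W', hW', hxW', ht⟩ := hmem x hxW
  rw [← gM_res x (pl f c G) hW' hxW' hxW t]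
  have key : ∀ t' : ModSite.sect (pl f c G) W', t' ∈ unitSpan f c G W' →
      gM (pl f c G) x W' hxW' t' ∈ Submodule.span (Ox O_X x) (unitGerms f c G x) := by
    intro t' ht'
    unfold unitSpan at ht'
    induction ht' using Submodule.span_induction with
    | mem y hy =>
      obtain ⟨V, hV, g, rfl⟩ := hy
      rw [gM_res x (pl f c G) hV hxW' (hV hxW')]
      exact Submodule.subset_span ⟨V, hV hxW', g, rfl⟩
    | zero =>
      rw [map_zero]
      exact Submodule.zero_mem _
    | add y y' _ _ hy hy' =>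
      rw [map_add]
      exact Submodule.add_mem _ hy hy'
    | smul a y _ hy =>
      rw [gM_smul x (pl f c G) hxW']
      exact Submodule.smul_mem _ _ hy
  exact key _ ht

/-- if the pullback is of finite type, its stalk at `x` is spanned by the germs of finitely many
sections of `G` over a common neighbourhood of `f x`. -/
theorem exists_fin_unit_span
    (hft : SheafOfModules.IsFiniteType (R := ModSite.ringSh O_X) (pl f c G)) (x : X) :
    ∃ (V : Opens Y) (hV : f x ∈ V) (κ : Type u) (_ : Fintype κ) (m : κ → ModSite.sect G V),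
      Submodule.span (Ox O_X x) (Set.range fun k =>
        gM (pl f c G) x ((Opens.map f).obj V) hV (un f c G V (m k))) = ⊤ := by
  have hfg : (⊤ : Submodule (Ox O_X x) (St (pl f c G) x)).FG := by
    obtain ⟨U, hxU, ι, _, s, hs⟩ := (isFiniteType_iff (pl f c G)).mp hft x
    exact st_fg_of_locGen (pl f c G) x hxU s hs
  rw [← span_unitGerms f c G x] at hfg
  obtain ⟨T, hTS, hT⟩ := (Submodule.fg_span_iff_fg_span_finset_subset _).mp hfg
  obtain ⟨V, -, hV, hP⟩ := exists_common_nbhd (f x) ⊤ (Opens.mem_top _)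
    (fun (τ : ↥T) (V : Opens Y) => ∀ hV : f x ∈ V, ∃ g : ModSite.sect G V,
      (τ : St (pl f c G) x) = gM (pl f c G) x ((Opens.map f).obj V) hV (un f c G V g))
    (by
      intro τ V V' hV' hτ hfx
      obtain ⟨g, hg⟩ := hτ (hV' hfx)
      refine ⟨res G hV' g, ?_⟩
      rw [hg, un_res]
      exact (gM_res x (pl f c G) (preim_le f hV') hfx (hV' hfx) (un f c G V g)).symm)
    (by
      intro τ
      obtain ⟨V, hV, g, hg⟩ := hTS τ.2
      exact ⟨V, le_top, hV, fun _ => ⟨g, hg⟩⟩)
  choose m hm using fun τ => hP τ hV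
  refine ⟨V, hV, ↥T, inferInstance, m, ?_⟩
  have hrange : (Set.range fun τ : ↥T =>
      gM (pl f c G) x ((Opens.map f).obj V) hV (un f c G V (m τ))) =
      (↑T : Set (St (pl f c G) x)) := by
    ext γ
    constructor
    · rintro ⟨τ, rfl⟩
      exact Set.mem_of_eq_of_mem (hm τ).symm (Finset.mem_coe.mpr τ.2)
    · intro hγ
      exact ⟨⟨γ, Finset.mem_coe.mp hγ⟩, (hm ⟨γ, Finset.mem_coe.mp hγ⟩).symm⟩
  rw [hrange, ← hT]
  exact span_unitGerms f c G x

/-- faithfully flat descent of the generation of a stalk: if the sections of the pullback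
attached to finitely many sections of `G` over `V` generate the pullback near `x'`, the germs of
these sections of `G` span the stalk of `G` at `f x'`. -/
theorem span_germs_eq_top (x' : X)
    (hff : letI := (stalkHom f c x').toAlgebra
      Module.FaithfullyFlat (Ox O_Y (f x')) (Ox O_X x'))
    (V : Opens Y) (hV : f x' ∈ V) {κ : Type u} [Fintype κ] (m : κ → ModSite.sect G V)
    (W : Opens X) (hW : W ≤ (Opens.map f).obj V) (hx'W : x' ∈ W)
    (hgen : LocGen (pl f c G) W (fun k => res (pl f c G) hW (un f c G V (m k)))) :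
    Submodule.span (Ox O_Y (f x')) (Set.range fun k => gM G (f x') V hV (m k)) = ⊤ := by
  obtain ⟨E, _, _, ℓ, hℓ, hℓN, hℓ0⟩ := exists_test_map (stalkHom f c x') hff
    (Submodule.span (Ox O_Y (f x')) (Set.range fun k => gM G (f x') V hV (m k)))
  obtain ⟨g, hg⟩ := exists_toPushSky f c x' E G ℓ hℓ
  obtain ⟨g', hg'⟩ : ∃ g' : pl f c G ⟶ sky O_X x' E,
      (rm f c).adj.homEquiv G (sky O_X x' E) g' = g :=
    ⟨((rm f c).adj.homEquiv G (sky O_X x' E)).symm g, Equiv.apply_symm_apply _ g⟩
  have key : ∀ (V₂ : Opens Y) (m₂ : ModSite.sect G V₂),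
      g'.val.app (op ((Opens.map f).obj V₂)) (un f c G V₂ m₂) =
        ofP f c (sky O_X x' E) V₂ (g.val.app (op V₂) m₂) := by
    intro V₂ m₂
    rw [← hg', Adjunction.homEquiv_unit]
    rfl
  have hgen0 : ∀ k, toE O_X x' E
      (g'.val.app (op ((Opens.map f).obj V)) (un f c G V (m k))) hV = 0 := by
    intro k
    rw [key, hg V hV (m k)]
    exact hℓN _ (Submodule.subset_span ⟨k, rfl⟩)
  rw [eq_top_iff]
  intro μ _
  obtain ⟨V₁, hV₁, t, rfl⟩ := gM_surj (f x') G μ
  apply hℓ0
  rw [← hg V₁ hV₁ t, ← key]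
  obtain ⟨W₄, hW₄, hx'W₄, r, hr⟩ := hgen (((Opens.map f).obj V₁) ⊓ W) inf_le_right
    (res (pl f c G) inf_le_left (un f c G V₁ t)) x' ⟨hV₁, hx'W⟩
  have e1 : toE O_X x' E (g'.val.app (op ((Opens.map f).obj V₁)) (un f c G V₁ t)) hV₁ =
      toE O_X x' E (g'.val.app (op W₄)
        (res (pl f c G) hW₄ (res (pl f c G) inf_le_left (un f c G V₁ t)))) hx'W₄ := by
    rw [res_res, app_res]
    rfl
  have e2 : ∀ k, toE O_X x' E (g'.val.app (op W₄)
      (r k • res (pl f c G) (hW₄.trans inf_le_right)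
        (res (pl f c G) hW (un f c G V (m k))))) hx'W₄ = 0 := by
    intro k
    rw [map_smul, toE_smul, res_res, app_res]
    have h0 : toE O_X x' E (res (sky O_X x' E) ((hW₄.trans inf_le_right).trans hW)
        (g'.val.app (op ((Opens.map f).obj V)) (un f c G V (m k)))) hx'W₄ = 0 := hgen0 k
    rw [h0, smul_zero]
  have e3 : ∀ (s : Finset κ) (u : κ → ModSite.sect (sky O_X x' E) W₄),
      toE O_X x' E (∑ k ∈ s, u k) hx'W₄ = ∑ k ∈ s, toE O_X x' E (u k) hx'W₄ := by
    intro s u
    exact map_sum (⟨⟨fun t => toE O_X x' E t hx'W₄, rfl⟩, fun _ _ => rfl⟩ :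
      ModSite.sect (sky O_X x' E) W₄ →+ E) u s
  rw [e1, hr, map_sum, e3]
  exact Finset.sum_eq_zero fun k _ => e2 k

/-- **finite type descends along an open, surjective morphism of ringed spaces with
faithfully flat stalk maps.** -/
theorem isFiniteType_of_pull (hopen : IsOpenMap f) (hsurj : Function.Surjective f)
    (hff : ∀ x : X, letI := (stalkHom f c x).toAlgebra
      Module.FaithfullyFlat (Ox O_Y (f x)) (Ox O_X x))
    (hft : SheafOfModules.IsFiniteType (R := ModSite.ringSh O_X) (pl f c G)) :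
    SheafOfModules.IsFiniteType (R := ModSite.ringSh O_Y) G := by
  rw [isFiniteType_iff]
  intro y
  obtain ⟨x, rfl⟩ := hsurj y
  obtain ⟨V, hV, κ, hκ, m, hm⟩ := exists_fin_unit_span f c G hft x
  obtain ⟨W, hW, hxW, hgen⟩ := exists_locGen_of_stalk_span (pl f c G) hft x
    ((Opens.map f).obj V) hV (fun k => un f c G V (m k)) hm
  obtain ⟨V', hV'def⟩ : ∃ V' : Opens Y, (V' : Set Y) = f '' (W : Set X) :=
    ⟨⟨f '' (W : Set X), hopen _ W.isOpen⟩, rfl⟩
  have hmem : ∀ z : Y, z ∈ V' ↔ ∃ x' : X, x' ∈ W ∧ f x' = z := by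
    intro z
    rw [← SetLike.mem_coe, hV'def]
    rfl
  have hV'V : V' ≤ V := by
    intro z hz
    obtain ⟨x', hx', rfl⟩ := (hmem z).mp hz
    exact hW hx'
  refine ⟨V', (hmem _).mpr ⟨x, hxW, rfl⟩, κ, hκ, fun k => res G hV'V (m k), ?_⟩
  apply locGen_of_stalk_span
  intro z hz
  obtain ⟨x', hx'W, rfl⟩ := (hmem z).mp hz
  have h1 := span_germs_eq_top f c G x' (hff x') V (hV'V hz) m W hW hx'W hgen
  have h2 : (fun k => gM G (f x') V' hz (res G hV'V (m k))) =
      fun k => gM G (f x') V (hV'V hz) (m k) :=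
    funext fun k => gM_res (f x') G hV'V hz (hV'V hz) (m k)
  have h3 : Submodule.span (Ox O_Y (f x'))
      (Set.range fun k => gM G (f x') V' hz (res G hV'V (m k))) = ⊤ := by
    rw [h2]
    exact h1
  exact h3

end Pull

section Sch
open AlgebraicGeometry

/-- the comorphism of a morphism of schemes, as a morphism of sheaves. -/
abbrev schC {X Y : Scheme.{u}} (f : X ⟶ Y) :
    Y.sheaf ⟶ ((Opens.map f.base).sheafPushforwardContinuous CommRingCat.{u}
      (Opens.grothendieckTopology Y) (Opens.grothendieckTopology X)).obj X.sheaf :=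
  { hom := f.c }

/-- faithful flatness from flatness and locality. -/
lemma ff_of_eq {A B : Type u} [CommRing A] [CommRing B] [IsLocalRing A] [IsLocalRing B]
    (φ ψ : A →+* B) (h : φ = ψ) (hψ : ψ.Flat) (hl : IsLocalHom ψ) :
    letI := φ.toAlgebra
    Module.FaithfullyFlat A B := by
  subst h
  letI := φ.toAlgebra
  haveI : Module.Flat A B := hψ
  haveI : IsLocalHom (algebraMap A B) := hl
  exact Module.FaithfullyFlat.of_flat_of_isLocalHom

/-- **an arbitrary module on the target of a flat, surjective, open morphism of schemes whose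
pullback is of finite type is of finite type.** -/
theorem isFiniteType_of_pullback_scheme {X Y : Scheme.{u}} (f : X ⟶ Y) [Flat f] [Surjective f]
    (hf : IsOpenMap f.base) (F : Y.Modules)
    (h : SheafOfModules.IsFiniteType (R := X.ringCatSheaf)
      ((Scheme.Modules.pullback f).obj F)) :
    SheafOfModules.IsFiniteType (R := Y.ringCatSheaf) F := by
  refine isFiniteType_of_pull f.base (schC f) F hf ‹Surjective f›.surj (fun x => ?_) h
  haveI : IsLocalRing (Ox Y.sheaf (f.base x)) :=
    inferInstanceAs (IsLocalRing (Y.presheaf.stalk (f.base x)))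
  haveI : IsLocalRing (Ox X.sheaf x) := inferInstanceAs (IsLocalRing (X.presheaf.stalk x))
  exact ff_of_eq (stalkHom f.base (schC f) x) (f.stalkMap x).hom rfl (Flat.stalkMap f x)
    (f.toLRSHom.prop x)

end Sch

end Groth.Agent.LD.RSp.FTDesc
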