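import Groth.Agent.Lib.Lead.RSp.LocSpan

/-! # Local frames of locally free modules on a ringed space (arbitrary rank); the rank is
well defined and locally constant when the stalks of the structure sheaf are nonzero. -/

universe u
open CategoryTheory Limits Opposite TopologicalSpace

namespace Groth.Agent.LD.RSp

section Algebra

/-- if a family `v` expands in `v'` through `B` and `v'` in `v` through `A`, and `v` is
independent, then `B * A = 1`. -/
lemma mul_eq_one_of_expansions {S : Type*} [Ring S] {M : Type*} [AddCommGroup M] [Module S M]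
    {I I' : Type*} [Fintype I] [Fintype I'] [DecidableEq I]
    (v : I → M) (v' : I' → M) (B : I → I' → S) (A : I' → I → S)
    (hB : ∀ j, ∑ k, B j k • v' k = v j) (hA : ∀ k, ∑ l, A k l • v l = v' k)
    (hind : ∀ c : I → S, ∑ l, c l • v l = 0 → ∀ l, c l = 0) :
    ∀ j l, ∑ k, B j k * A k l = if j = l then 1 else 0 := by
  intro j
  have h1 : ∑ l, (∑ k, B j k * A k l) • v l = v j := by
    calc ∑ l, (∑ k, B j k * A k l) • v l = ∑ l, ∑ k, (B j k * A k l) • v l := by
          simp only [Finset.sum_smul]
      _ = ∑ k, ∑ l, (B j k * A k l) • v l := Finset.sum_comm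
      _ = ∑ k, B j k • ∑ l, A k l • v l := by
          simp only [Finset.smul_sum, smul_smul]
      _ = ∑ k, B j k • v' k := by simp only [hA]
      _ = v j := hB j
  have h2 : ∑ l, ((∑ k, B j k * A k l) - (if j = l then 1 else 0)) • v l = 0 := by
    simp only [sub_smul, Finset.sum_sub_distrib, h1, ite_smul, one_smul, zero_smul,
      Finset.sum_ite_eq, Finset.mem_univ, if_true, sub_self]
  intro l
  exact sub_eq_zero.mp (hind _ h2 l)

/-- if a family `v` expands in finitely many members `S''` of an independent family `v'`, and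
some `v' k₀` with `k₀ ∉ S''` is a combination of the `v`, then `1 = 0`. -/
lemma one_eq_zero_of_expansions {S : Type*} [Ring S] {M : Type*} [AddCommGroup M] [Module S M]
    {I I' : Type*} [DecidableEq I'] (v : I → M) (v' : I' → M) (S'' : Finset I')
    (β : I → I' → S) (hβ : ∀ j, ∑ k ∈ S'', β j k • v' k = v j) (k₀ : I') (hk₀ : k₀ ∉ S'')
    (S₀ : Finset I) (a : I → S) (ha : ∑ j ∈ S₀, a j • v j = v' k₀)
    (hind : ∀ (T : Finset I') (c : I' → S), ∑ k ∈ T, c k • v' k = 0 → ∀ k ∈ T, c k = 0) :
    (1 : S) = 0 := by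
  let γ : I' → S := fun k => if k = k₀ then 1 else -(∑ j ∈ S₀, a j * β j k)
  have hγ₀ : γ k₀ = 1 := if_pos rfl
  have h4 : ∑ k ∈ S'', γ k • v' k = -(v' k₀) := by
    have h5 : ∀ k ∈ S'', γ k • v' k = -(∑ j ∈ S₀, (a j * β j k) • v' k) := by
      intro k hk
      have hne : k ≠ k₀ := fun h => hk₀ (h ▸ hk)
      simp only [γ, if_neg hne, neg_smul, Finset.sum_smul]
    rw [Finset.sum_congr rfl h5, Finset.sum_neg_distrib, Finset.sum_comm, ← ha]
    congr 1
    refine Finset.sum_congr rfl fun j _ => ?_
    rw [← hβ j, Finset.smul_sum]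
    refine Finset.sum_congr rfl fun k _ => ?_
    rw [smul_smul]
  have hγ : ∑ k ∈ insert k₀ S'', γ k • v' k = 0 := by
    rw [Finset.sum_insert hk₀, h4, hγ₀, one_smul, add_neg_cancel]
  have h6 := hind (insert k₀ S'') γ hγ k₀ (Finset.mem_insert_self k₀ S'')
  rw [hγ₀] at h6
  exact h6

end Algebra

section GenFrame
variable {C : Type u} [SmallCategory C] {J : GrothendieckTopology C}

/-- the projections of a free module (arbitrary index type). -/
noncomputable def projI (R : Sheaf J RingCat.{u}) (I : Type u) [DecidableEq I] (i : I) :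
    SheafOfModules.free (R := R) I ⟶ SheafOfModules.unit R :=
  Cofan.IsColimit.desc (SheafOfModules.isColimitFreeCofan I)
    (fun j => if j = i then 𝟙 _ else 0)

lemma ιFree_projI (R : Sheaf J RingCat.{u}) (I : Type u) [DecidableEq I] (i j : I) :
    SheafOfModules.ιFree j ≫ projI R I i = if j = i then 𝟙 (SheafOfModules.unit R) else 0 :=
  Cofan.IsColimit.fac (SheafOfModules.isColimitFreeCofan (R := R) I)
    (fun j => if j = i then 𝟙 (SheafOfModules.unit R) else 0) j

/-- the basis sections of a free module (arbitrary index type). -/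
noncomputable def basI (R : Sheaf J RingCat.{u}) (I : Type u) (i : I) (U : C) :
    (SheafOfModules.free (R := R) I).val.obj (op U) :=
  evAt _ _ U (SheafOfModules.ιFree (R := R) i) (1 : R.obj.obj (op U))

/-- the coordinates of a section of a free module (arbitrary index type). -/
noncomputable def coordI (R : Sheaf J RingCat.{u}) (I : Type u) [DecidableEq I] (i : I) (U : C) :
    (SheafOfModules.free (R := R) I).val.obj (op U) →ₗ[R.obj.obj (op U)] R.obj.obj (op U) :=
  evAt _ _ U (projI R I i)

lemma coordI_basI (R : Sheaf J RingCat.{u}) (I : Type u) [DecidableEq I] (i j : I) (U : C) :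
    coordI R I i U (basI R I j U) = if j = i then 1 else 0 := by
  have h : evAt _ _ U (SheafOfModules.ιFree j ≫ projI R I i) (1 : R.obj.obj (op U)) =
      coordI R I i U (basI R I j U) := rfl
  rw [← h, ιFree_projI]
  split_ifs
  · rfl
  · rfl

/-- a finite combination of basis sections vanishes only if its coefficients do. -/
lemma basI_indep (R : Sheaf J RingCat.{u}) (I : Type u) [DecidableEq I] (U : C) (S : Finset I)
    (c : I → R.obj.obj (op U)) (h : ∑ j ∈ S, c j • basI R I j U = 0) (i : I) (hi : i ∈ S) :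
    c i = 0 := by
  have h1 := congrArg (coordI R I i U) h
  rw [map_sum, map_zero] at h1
  simp only [map_smul, coordI_basI, smul_eq_mul, mul_ite, mul_one, mul_zero] at h1
  rw [Finset.sum_ite_eq' S i, if_pos hi] at h1
  exact h1

end GenFrame

section TopFrame
variable {X : TopCat.{u}} {O : TopCat.Sheaf CommRingCat.{u} X}

/-- `e` is a local frame of `F` over `U`: it generates, and is independent over every smaller
open. -/
def IsLocFrame (F : ModSite.Mod O) (U : Opens X) {ι : Type u} (e : ι → ModSite.sect F U) :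
    Prop :=
  LocSpan F U e ∧ ∀ (W : Opens X) (hW : W ≤ U) (S : Finset ι)
    (c : ι → (ModSite.ringSh O).obj.obj (op W)),
    ∑ j ∈ S, c j • res F hW (e j) = 0 → ∀ j ∈ S, c j = 0

/-- a trivialisation of `F` over `U` (of arbitrary rank) gives a local frame. -/
theorem exists_isLocFrame (F : ModSite.Mod O) (U : Opens X) {I : Type u}
    (h : Nonempty ((ModSite.restr O U).obj F ≅ SheafOfModules.free I)) :
    ∃ e : I → ModSite.sect F U, IsLocFrame F U e := by
  classical
  obtain ⟨α⟩ := h
  have α' : SheafOfModules.over F U ≅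
      SheafOfModules.free (R := (ModSite.ringSh O).over U) I := α
  let σ : I → (SheafOfModules.over F U).sections :=
    (SheafOfModules.over F U).freeHomEquiv α'.inv
  have hσ : (SheafOfModules.over F U).freeHomEquiv.symm σ = α'.inv :=
    Equiv.symm_apply_apply _ _
  have hepi : Epi ((SheafOfModules.over F U).freeHomEquiv.symm σ) := by
    rw [hσ]
    infer_instance
  refine ⟨fun j => evalId F U (σ j), locSpan_of_epi F U σ hepi, ?_⟩
  intro W hW S c hc i hi
  let Y : Over U := Over.mk (homOfLE hW)
  have h1 : ∀ j, res F hW (evalId F U (σ j)) =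
      evAt _ _ Y α'.inv (basI ((ModSite.ringSh O).over U) I j Y) := by
    intro j
    have h2 := freeHom_apply_basis (R := (ModSite.ringSh O).over U)
      (SheafOfModules.over F U) σ Y j
    rw [hσ] at h2
    have h3 : PresheafOfModules.sections.eval (σ j) (op Y) = res F hW (evalId F U (σ j)) :=
      (congrArg (fun τ : (SheafOfModules.over F U).sections =>
        PresheafOfModules.sections.eval τ (op Y)) (secOver_evalId F U (σ j))).symm
    exact h3.symm.trans h2.symm
  let c' : I → ((ModSite.ringSh O).over U).obj.obj (op Y) := c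
  have h4 : evAt _ _ Y α'.inv (∑ j ∈ S, c' j • basI ((ModSite.ringSh O).over U) I j Y) =
      ∑ j ∈ S, c' j • evAt _ _ Y α'.inv (basI ((ModSite.ringSh O).over U) I j Y) := by
    rw [map_sum]
    exact Finset.sum_congr rfl fun j _ => map_smul _ _ _
  have h5 : ∑ j ∈ S, c' j • evAt _ _ Y α'.inv (basI ((ModSite.ringSh O).over U) I j Y) = 0 := by
    refine Eq.trans ?_ hc
    exact Finset.sum_congr rfl fun j _ => congrArg (fun z => c' j • z) (h1 j).symm
  have h6 := congrArg (evAt _ _ Y α'.hom) (h4.trans h5)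
  rw [evAt_inv_hom, map_zero] at h6
  exact basI_indep ((ModSite.ringSh O).over U) I Y S c' h6 i hi

/-- explicit finite combinations from `LocSpan`. -/
lemma exists_finset_coeff (F : ModSite.Mod O) {U : Opens X} {ι : Type u}
    {e : ι → ModSite.sect F U} (he : LocSpan F U e) (V : Opens X) (hV : V ≤ U)
    (t : ModSite.sect F V) (x : X) (hx : x ∈ V) :
    ∃ (W : Opens X) (hW : W ≤ V), x ∈ W ∧ ∃ (S : Finset ι)
      (a : ι → (ModSite.ringSh O).obj.obj (op W)),
      ∑ j ∈ S, a j • res F (hW.trans hV) (e j) = res F hW t := by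
  obtain ⟨W, hW, hxW, hmem⟩ := he V hV t x hx
  obtain ⟨c, hc⟩ := Finsupp.mem_span_range_iff_exists_finsupp.mp hmem
  exact ⟨W, hW, hxW, c.support, c, hc⟩

/-- explicit combinations from `LocSpan`, for a finite family. -/
lemma exists_fun_coeff (F : ModSite.Mod O) {U : Opens X} {ι : Type u} [Fintype ι]
    {e : ι → ModSite.sect F U} (he : LocSpan F U e) (V : Opens X) (hV : V ≤ U)
    (t : ModSite.sect F V) (x : X) (hx : x ∈ V) :
    ∃ (W : Opens X) (hW : W ≤ V), x ∈ W ∧ ∃ a : ι → (ModSite.ringSh O).obj.obj (op W),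
      ∑ j, a j • res F (hW.trans hV) (e j) = res F hW t := by
  obtain ⟨W, hW, hxW, hmem⟩ := he V hV t x hx
  obtain ⟨c, hc⟩ := (Submodule.mem_span_range_iff_exists_fun _).mp hmem
  exact ⟨W, hW, hxW, c, hc⟩

/-- if `F` has a finite frame near `x`, every frame near `x` is finite (when the sections of
the structure sheaf near `x` form nonzero rings). -/
theorem finite_of_frames (F : ModSite.Mod O) (x : X)
    (hO : ∀ W : Opens X, x ∈ W → (1 : (ModSite.ringSh O).obj.obj (op W)) ≠ 0)
    {I I' : Type u} {U U' : Opens X} (e : I → ModSite.sect F U) (he : IsLocFrame F U e)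
    (e' : I' → ModSite.sect F U') (he' : IsLocFrame F U' e') (hx : x ∈ U) (hx' : x ∈ U')
    [Finite I] : Finite I' := by
  classical
  haveI := Fintype.ofFinite I
  obtain ⟨W₁, hW₁, hxW₁, h1⟩ := exists_common_nbhd x (U ⊓ U') ⟨hx, hx'⟩
    (fun j W => ∃ (hW : W ≤ U ⊓ U') (S : Finset I')
      (b : I' → (ModSite.ringSh O).obj.obj (op W)),
      ∑ k ∈ S, b k • res F (hW.trans inf_le_right) (e' k) = res F (hW.trans inf_le_left) (e j))
    (by
      rintro j W W' hW' ⟨hW, S, b, hb⟩
      refine ⟨hW'.trans hW, S, fun k => rr O hW' (b k), ?_⟩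
      have h2 := congrArg (res F hW') hb
      rw [res_sum, res_res] at h2
      rw [← h2]
      refine Finset.sum_congr rfl fun k _ => ?_
      rw [res_smul, res_res])
    (by
      intro j
      obtain ⟨W, hW, hxW, S, b, hb⟩ := exists_finset_coeff F he'.1 (U ⊓ U') inf_le_right
        (res F inf_le_left (e j)) x ⟨hx, hx'⟩
      refine ⟨W, hW, hxW, hW, S, b, ?_⟩
      rw [hb, res_res])
  choose hW₁' S' b hb using h1
  let S'' : Finset I' := Finset.univ.biUnion S'
  have hall : ∀ k₀ : I', k₀ ∈ S'' := by
    intro k₀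
    by_contra hk₀
    obtain ⟨W₂, hW₂, hxW₂, S₀, a, ha⟩ := exists_finset_coeff F he.1 W₁ (hW₁.trans inf_le_left)
      (res F (hW₁.trans inf_le_right) (e' k₀)) x hxW₁
    have hU' : W₂ ≤ U' := hW₂.trans (hW₁.trans inf_le_right)
    have hU : W₂ ≤ U := hW₂.trans (hW₁.trans inf_le_left)
    let β : I → I' → (ModSite.ringSh O).obj.obj (op W₂) :=
      fun j k => if k ∈ S' j then rr O hW₂ (b j k) else 0
    have hβ : ∀ j, ∑ k ∈ S'', β j k • res F hU' (e' k) = res F hU (e j) := by
      intro j
      have h2 : ∑ k ∈ S'', β j k • res F hU' (e' k) =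
          ∑ k ∈ S' j, rr O hW₂ (b j k) • res F hU' (e' k) := by
        rw [← Finset.sum_subset (Finset.subset_biUnion_of_mem S' (Finset.mem_univ j))]
        · refine Finset.sum_congr rfl fun k hk => ?_
          simp only [β, if_pos hk]
        · intro k _ hk
          simp only [β, if_neg hk, zero_smul]
      rw [h2]
      have h3 := congrArg (res F hW₂) (hb j)
      rw [res_sum, res_res] at h3
      rw [← h3]
      refine Finset.sum_congr rfl fun k _ => ?_
      rw [res_smul, res_res]
    have ha' : ∑ j ∈ S₀, a j • res F hU (e j) = res F hU' (e' k₀) := by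
      rw [res_res] at ha
      exact ha
    exact hO W₂ hxW₂ (one_eq_zero_of_expansions (fun j => res F hU (e j))
      (fun k => res F hU' (e' k)) S'' β hβ k₀ hk₀ S₀ a ha' (fun T c hc => he'.2 W₂ hU' T c hc))
  exact Set.finite_univ_iff.mp ((S''.finite_toSet).subset (fun k _ => hall k))

/-- two finite frames near `x` have the same cardinality. -/
theorem card_eq_of_frames_fintype (F : ModSite.Mod O) (x : X)
    (hO : ∀ W : Opens X, x ∈ W → (1 : (ModSite.ringSh O).obj.obj (op W)) ≠ 0)
    {I I' : Type u} [Fintype I] [Fintype I'] {U U' : Opens X} (e : I → ModSite.sect F U)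
    (he : IsLocFrame F U e) (e' : I' → ModSite.sect F U') (he' : IsLocFrame F U' e')
    (hx : x ∈ U) (hx' : x ∈ U') : Fintype.card I = Fintype.card I' := by
  classical
  obtain ⟨W₁, hW₁, hxW₁, hB⟩ := exists_common_nbhd x (U ⊓ U') ⟨hx, hx'⟩
    (fun j W => ∃ (hW : W ≤ U ⊓ U') (b : I' → (ModSite.ringSh O).obj.obj (op W)),
      ∑ k, b k • res F (hW.trans inf_le_right) (e' k) = res F (hW.trans inf_le_left) (e j))
    (by
      rintro j W W' hW' ⟨hW, b, hb⟩
      refine ⟨hW'.trans hW, fun k => rr O hW' (b k), ?_⟩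
      have h2 := congrArg (res F hW') hb
      rw [res_sum, res_res] at h2
      rw [← h2]
      refine Finset.sum_congr rfl fun k _ => ?_
      rw [res_smul, res_res])
    (by
      intro j
      obtain ⟨W, hW, hxW, b, hb⟩ := exists_fun_coeff F he'.1 (U ⊓ U') inf_le_right
        (res F inf_le_left (e j)) x ⟨hx, hx'⟩
      refine ⟨W, hW, hxW, hW, b, ?_⟩
      rw [hb, res_res])
  obtain ⟨W₂, hW₂, hxW₂, hA⟩ := exists_common_nbhd x W₁ hxW₁
    (fun k W => ∃ (hW : W ≤ W₁) (a : I → (ModSite.ringSh O).obj.obj (op W)),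
      ∑ j, a j • res F ((hW.trans hW₁).trans inf_le_left) (e j) =
        res F ((hW.trans hW₁).trans inf_le_right) (e' k))
    (by
      rintro k W W' hW' ⟨hW, a, ha⟩
      refine ⟨hW'.trans hW, fun j => rr O hW' (a j), ?_⟩
      have h2 := congrArg (res F hW') ha
      rw [res_sum, res_res] at h2
      rw [← h2]
      refine Finset.sum_congr rfl fun j _ => ?_
      rw [res_smul, res_res])
    (by
      intro k
      obtain ⟨W, hW, hxW, a, ha⟩ := exists_fun_coeff F he.1 W₁ (hW₁.trans inf_le_left)
        (res F (hW₁.trans inf_le_right) (e' k)) x hxW₁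
      refine ⟨W, hW, hxW, hW, a, ?_⟩
      rw [ha, res_res])
  choose hW₁' B₀ hB₀ using hB
  choose hW₂' A hA using hA
  have hU : W₂ ≤ U := (hW₂.trans hW₁).trans inf_le_left
  have hU' : W₂ ≤ U' := (hW₂.trans hW₁).trans inf_le_right
  let B : I → I' → (ModSite.ringSh O).obj.obj (op W₂) := fun j k => rr O hW₂ (B₀ j k)
  have hB : ∀ j, ∑ k, B j k • res F hU' (e' k) = res F hU (e j) := by
    intro j
    have h3 := congrArg (res F hW₂) (hB₀ j)
    rw [res_sum, res_res] at h3
    rw [← h3]
    refine Finset.sum_congr rfl fun k _ => ?_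
    rw [res_smul, res_res]
  have hA' : ∀ k, ∑ j, A k j • res F hU (e j) = res F hU' (e' k) := hA
  have hBA := mul_eq_one_of_expansions (fun j => res F hU (e j)) (fun k => res F hU' (e' k))
    B A hB hA' (fun c hc l => he.2 W₂ hU Finset.univ c hc l (Finset.mem_univ l))
  have hAB := mul_eq_one_of_expansions (fun k => res F hU' (e' k)) (fun j => res F hU (e j))
    A B hA' hB (fun c hc l => he'.2 W₂ hU' Finset.univ c hc l (Finset.mem_univ l))
  haveI : Nontrivial ↑(O.obj.obj (op W₂)) := ⟨⟨1, 0, hO W₂ hxW₂⟩⟩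
  let MB : Matrix I I' ↑(O.obj.obj (op W₂)) := Matrix.of B
  let MA : Matrix I' I ↑(O.obj.obj (op W₂)) := Matrix.of A
  have h1 : MB * MA = 1 := by
    ext j l
    rw [Matrix.mul_apply, Matrix.one_apply]
    exact hBA j l
  have h2 : MA * MB = 1 := by
    ext k l
    rw [Matrix.mul_apply, Matrix.one_apply]
    exact hAB k l
  exact Matrix.square_of_invertible MB MA h1 h2

/-- two frames near `x` have the same cardinality in `ℕ∞`. -/
theorem card_eq_of_frames (F : ModSite.Mod O) (x : X)
    (hO : ∀ W : Opens X, x ∈ W → (1 : (ModSite.ringSh O).obj.obj (op W)) ≠ 0)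
    {I I' : Type u} {U U' : Opens X} (e : I → ModSite.sect F U) (he : IsLocFrame F U e)
    (e' : I' → ModSite.sect F U') (he' : IsLocFrame F U' e') (hx : x ∈ U) (hx' : x ∈ U') :
    ENat.card I = ENat.card I' := by
  by_cases hI : Finite I
  · haveI := hI
    haveI : Finite I' := finite_of_frames F x hO e he e' he' hx hx'
    haveI := Fintype.ofFinite I
    haveI := Fintype.ofFinite I'
    rw [ENat.card_eq_coe_fintype_card, ENat.card_eq_coe_fintype_card,
      card_eq_of_frames_fintype F x hO e he e' he' hx hx']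
  · have hI' : ¬ Finite I' := by
      intro h'
      haveI := h'
      exact hI (finite_of_frames F x hO e' he' e he hx' hx)
    haveI : Infinite I := not_finite_iff_infinite.mp hI
    haveI : Infinite I' := not_finite_iff_infinite.mp hI'
    rw [ENat.card_eq_top_of_infinite, ENat.card_eq_top_of_infinite]

/-- the rank of a locally free module on a ringed space with nonzero stalks. -/
theorem exists_rank (O : TopCat.Sheaf CommRingCat.{u} X)
    (hO : ∀ x : X, Nontrivial (O.presheaf.stalk x)) (F : ModSite.Mod O)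
    [SheafOfModules.IsLocallyFree (R := ModSite.ringSh O) F] :
    ∃ rk : X → ℕ∞, IsLocallyConstant rk ∧
      ∀ (x : X) (U : Opens X) (I : Type u), x ∈ U →
        Nonempty ((ModSite.restr O U).obj F ≅ SheafOfModules.free I) → ENat.card I = rk x := by
  classical
  have hO' : ∀ (x : X) (W : Opens X), x ∈ W →
      (1 : (ModSite.ringSh O).obj.obj (op W)) ≠ 0 := by
    intro x W hxW h
    haveI := hO x
    have h' : (1 : ↑(O.presheaf.obj (op W))) = 0 := h
    have h1 := congrArg (O.presheaf.germ W x hxW).hom h'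
    rw [map_one, map_zero] at h1
    exact one_ne_zero h1
  obtain ⟨q, hq⟩ := SheafOfModules.IsLocallyFree.exists_isLocallyFreeData (M := F)
  have hi : ∀ x : X, ∃ i : q.I, x ∈ q.X i := by
    intro x
    obtain ⟨V, g, ⟨i, ⟨h⟩⟩, hxV⟩ := q.coversTop ⊤ x trivial
    exact ⟨i, leOfHom h hxV⟩
  choose i hxi using hi
  have hiso : ∀ j : q.I, Nonempty ((ModSite.restr O (q.X j)).obj F ≅
      SheafOfModules.free (q.generators j).I) := by
    intro j
    haveI := hq.isIso j
    exact ⟨(asIso (q.generators j).π).symm⟩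
  have huniq : ∀ (x : X) (U U' : Opens X) (I I' : Type u), x ∈ U → x ∈ U' →
      Nonempty ((ModSite.restr O U).obj F ≅ SheafOfModules.free I) →
      Nonempty ((ModSite.restr O U').obj F ≅ SheafOfModules.free I') →
      ENat.card I = ENat.card I' := by
    intro x U U' I I' hx hx' h h'
    obtain ⟨e, he⟩ := exists_isLocFrame F U h
    obtain ⟨e', he'⟩ := exists_isLocFrame F U' h'
    exact card_eq_of_frames F x (hO' x) e he e' he' hx hx'
  refine ⟨fun x => ENat.card (q.generators (i x)).I, ?_, ?_⟩
  · rw [IsLocallyConstant.iff_exists_open]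
    intro x
    refine ⟨q.X (i x), (q.X (i x)).isOpen, hxi x, ?_⟩
    intro x' hx'
    exact huniq x' (q.X (i x')) (q.X (i x)) _ _ (hxi x') hx' (hiso (i x')) (hiso (i x))
  · intro x U I hxU h
    exact huniq x U (q.X (i x)) I _ hxU (hxi x) h (hiso (i x))

end TopFrame

end Groth.Agent.LD.RSp
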