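import Mathlib
import Groth.Agent.Lib.Helper2.ModEpi

/-! # Sheaves of modules on a small site: sections, local surjectivity, slices. -/

universe u
open CategoryTheory Limits Opposite

namespace Groth.Agent.LD.RSp

section Gen
variable {C : Type u} [SmallCategory C] {J : GrothendieckTopology C} {R : Sheaf J RingCat.{u}}

/-- evaluation of morphisms at an object, as an additive map. -/
noncomputable def evAt (M N : SheafOfModules.{u} R) (U : C) :
    (M ⟶ N) →+ (M.val.obj (op U) →ₗ[R.obj.obj (op U)] N.val.obj (op U)) where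
  toFun f := (f.val.app (op U)).hom
  map_zero' := rfl
  map_add' _ _ := rfl

lemma evAt_comp {M N P : SheafOfModules.{u} R} (f : M ⟶ N) (g : N ⟶ P) (U : C)
    (z : M.val.obj (op U)) :
    evAt M P U (f ≫ g) z = evAt N P U g (evAt M N U f z) := rfl

lemma evAt_id (M : SheafOfModules.{u} R) (U : C) (z : M.val.obj (op U)) :
    evAt M M U (𝟙 M) z = z := rfl

lemma lin_apply_eq_smul_one {A : Type*} [Ring A] {M : Type*} [AddCommGroup M] [Module A M]
    (f : A →ₗ[A] M) (b : A) : f b = b • f 1 := by
  rw [← f.map_smul, smul_eq_mul, mul_one]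

/-- the sections of a finite free module are spanned by the basis sections. -/
theorem free_mem_span {I : Type u} [Fintype I] [DecidableEq I] (U : C)
    (z : (SheafOfModules.free (R := R) I).val.obj (op U)) :
    z ∈ Submodule.span (R.obj.obj (op U))
      (Set.range fun i : I =>
        evAt _ _ U (SheafOfModules.ιFree (R := R) i) (1 : R.obj.obj (op U))) := by
  let π : I → (SheafOfModules.free (R := R) I ⟶ SheafOfModules.unit R) := fun i =>
    Cofan.IsColimit.desc (SheafOfModules.isColimitFreeCofan I)
      (fun j => if j = i then 𝟙 _ else 0)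
  have hπ : ∀ i j, SheafOfModules.ιFree j ≫ π i =
      if j = i then 𝟙 (SheafOfModules.unit R) else 0 := fun i j =>
    Cofan.IsColimit.fac (SheafOfModules.isColimitFreeCofan (R := R) I)
      (fun j => if j = i then 𝟙 (SheafOfModules.unit R) else 0) j
  have htot : ∑ i, π i ≫ SheafOfModules.ιFree i = 𝟙 (SheafOfModules.free (R := R) I) := by
    apply Cofan.IsColimit.hom_ext (SheafOfModules.isColimitFreeCofan I)
    intro j
    change SheafOfModules.ιFree (R := R) j ≫
        (∑ i, π i ≫ SheafOfModules.ιFree i : SheafOfModules.free (R := R) I ⟶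
          SheafOfModules.free (R := R) I) =
      SheafOfModules.ιFree (R := R) j ≫ 𝟙 (SheafOfModules.free (R := R) I)
    rw [Preadditive.comp_sum, Category.comp_id]
    rw [Finset.sum_eq_single j]
    · rw [← Category.assoc, hπ, if_pos rfl, Category.id_comp]
    · intro i _ hij
      rw [← Category.assoc, hπ, if_neg (Ne.symm hij), zero_comp]
    · intro h
      exact absurd (Finset.mem_univ j) h
  have hz : z = ∑ i, evAt (SheafOfModules.unit R) (SheafOfModules.free (R := R) I) U
      (SheafOfModules.ιFree (R := R) i)
      (evAt (SheafOfModules.free (R := R) I) (SheafOfModules.unit R) U (π i) z) := by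
    have h1 := evAt_id (SheafOfModules.free (R := R) I) U z
    rw [← htot, map_sum, LinearMap.sum_apply] at h1
    exact h1.symm
  rw [hz]
  refine Submodule.sum_mem _ (fun i _ => ?_)
  have h2 := lin_apply_eq_smul_one (A := R.obj.obj (op U))
    (evAt _ _ U (SheafOfModules.ιFree (R := R) i)) (evAt _ _ U (π i) z)
  have h3 := Submodule.smul_mem (Submodule.span (R.obj.obj (op U))
      (Set.range fun i : I =>
        evAt _ _ U (SheafOfModules.ιFree (R := R) i) (1 : R.obj.obj (op U))))
    (evAt (SheafOfModules.free (R := R) I) (SheafOfModules.unit R) U (π i) z)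
    (Submodule.subset_span ⟨i, rfl⟩)
  exact (congrArg (fun t => t ∈ Submodule.span (R.obj.obj (op U))
      (Set.range fun i : I =>
        evAt _ _ U (SheafOfModules.ιFree (R := R) i) (1 : R.obj.obj (op U)))) h2).mpr h3

/-- the morphism attached to a family of sections sends the basis sections to the sections. -/
lemma freeHom_apply_basis {I : Type u} (M : SheafOfModules.{u} R) (s : I → M.sections) (U : C)
    (i : I) :
    evAt _ _ U (M.freeHomEquiv.symm s)
      (evAt _ _ U (SheafOfModules.ιFree (R := R) i) (1 : R.obj.obj (op U))) =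
      PresheafOfModules.sections.eval (s i) (op U) := by
  have h := SheafOfModules.sectionsMap_freeHomEquiv_symm_freeSection s i
  exact congrArg (fun z => PresheafOfModules.sections.eval z (op U)) h

/-- the value of the morphism attached to a finite family of sections is a combination of the
sections. -/
theorem freeHom_apply_exists {I : Type u} [Fintype I] (M : SheafOfModules.{u} R)
    (s : I → M.sections) (U : C) (z : (SheafOfModules.free (R := R) I).val.obj (op U)) :
    ∃ r : I → R.obj.obj (op U),
      evAt _ _ U (M.freeHomEquiv.symm s) z =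
        ∑ i, r i • PresheafOfModules.sections.eval (s i) (op U) := by
  classical
  obtain ⟨r, hr⟩ := (Submodule.mem_span_range_iff_exists_fun _).mp (free_mem_span U z)
  refine ⟨r, ?_⟩
  rw [← hr, map_sum]
  refine Finset.sum_congr rfl (fun i _ => ?_)
  rw [map_smul]
  congr 1
  have h := SheafOfModules.sectionsMap_freeHomEquiv_symm_freeSection s i
  exact congrArg (fun z => PresheafOfModules.sections.eval z (op U)) h

/-- restriction of sections. -/
noncomputable def rs (M : SheafOfModules.{u} R) {V W : C} (g : W ⟶ V) (t : M.val.obj (op V)) :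
    M.val.obj (op W) :=
  M.val.presheaf.map g.op t

lemma rs_add (M : SheafOfModules.{u} R) {V W : C} (g : W ⟶ V) (t t' : M.val.obj (op V)) :
    rs M g (t + t') = rs M g t + rs M g t' :=
  map_add (M.val.presheaf.map g.op).hom t t'

lemma rs_zero (M : SheafOfModules.{u} R) {V W : C} (g : W ⟶ V) :
    rs M g (0 : M.val.obj (op V)) = 0 :=
  map_zero (M.val.presheaf.map g.op).hom

lemma rs_sub (M : SheafOfModules.{u} R) {V W : C} (g : W ⟶ V) (t t' : M.val.obj (op V)) :
    rs M g (t - t') = rs M g t - rs M g t' :=
  map_sub (M.val.presheaf.map g.op).hom t t'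

lemma rs_sum (M : SheafOfModules.{u} R) {V W : C} (g : W ⟶ V) {ι : Type*} (s : Finset ι)
    (t : ι → M.val.obj (op V)) : rs M g (∑ i ∈ s, t i) = ∑ i ∈ s, rs M g (t i) :=
  map_sum (M.val.presheaf.map g.op).hom t s

lemma rs_smul (M : SheafOfModules.{u} R) {V W : C} (g : W ⟶ V) (r : R.obj.obj (op V))
    (t : M.val.obj (op V)) :
    rs M g (r • t) = (R.obj.map g.op r : R.obj.obj (op W)) • rs M g t :=
  M.val.map_smul g.op r t

lemma rs_rs (M : SheafOfModules.{u} R) {V W Z : C} (g : W ⟶ V) (h : Z ⟶ W)
    (t : M.val.obj (op V)) : rs M h (rs M g t) = rs M (h ≫ g) t := by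
  change M.val.presheaf.map h.op (M.val.presheaf.map g.op t) = M.val.presheaf.map (h ≫ g).op t
  rw [← ConcreteCategory.comp_apply, ← Functor.map_comp, ← op_comp]

lemma rs_id (M : SheafOfModules.{u} R) (V : C) (t : M.val.obj (op V)) : rs M (𝟙 V) t = t := by
  change M.val.presheaf.map (𝟙 V).op t = t
  rw [op_id, M.val.presheaf.map_id]
  rfl

lemma app_rs {M N : SheafOfModules.{u} R} (φ : M ⟶ N) {V W : C} (g : W ⟶ V)
    (t : M.val.obj (op V)) :
    φ.val.app (op W) (rs M g t) = rs N g (φ.val.app (op V) t) :=
  PresheafOfModules.naturality_apply φ.val g.op t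

/-- an epimorphism of sheaves of modules is locally surjective. -/
theorem exists_sieve_of_epi {M N : SheafOfModules.{u} R} (φ : M ⟶ N) [Epi φ] (U : C)
    (t : N.val.obj (op U)) :
    ∃ S ∈ J U, ∀ ⦃V : C⦄ (g : V ⟶ U), S g →
      ∃ m : M.val.obj (op V), φ.val.app (op V) m = rs N g t := by
  haveI := Groth.Agent.H2.ModEpi.isLocallySurjective_of_epi φ
  refine ⟨Presheaf.imageSieve ((PresheafOfModules.toPresheaf R.obj).map φ.val) t,
    Presheaf.imageSieve_mem J ((PresheafOfModules.toPresheaf R.obj).map φ.val) t, ?_⟩
  rintro V g ⟨m, hm⟩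
  exact ⟨m, hm⟩

/-- a locally surjective morphism of sheaves of modules is an epimorphism. -/
theorem epi_of_exists_sieve {M N : SheafOfModules.{u} R} (φ : M ⟶ N)
    (h : ∀ (U : C) (t : N.val.obj (op U)), ∃ S ∈ J U, ∀ ⦃V : C⦄ (g : V ⟶ U), S g →
      ∃ m : M.val.obj (op V), φ.val.app (op V) m = rs N g t) : Epi φ := by
  have h3 : Sheaf.IsLocallySurjective ((SheafOfModules.toSheaf R).map φ) := by
    constructor
    intro U t
    obtain ⟨S, hS, hS'⟩ := h U t
    refine J.superset_covering ?_ hS
    intro V g hg
    obtain ⟨m, hm⟩ := hS' g hg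
    exact ⟨m, hm⟩
  have h1 : Epi ((SheafOfModules.toSheaf R).map φ) :=
    (Sheaf.isLocallySurjective_iff_epi' (φ := (SheafOfModules.toSheaf R).map φ)).mp h3
  exact (SheafOfModules.toSheaf R).epi_of_epi_map h1

instance instAdditiveEvaluation (Y : Cᵒᵖ) : (SheafOfModules.evaluation R Y).Additive := by
  dsimp only [SheafOfModules.evaluation]
  infer_instance

/-- left exactness on sections. -/
theorem exists_of_exact {S : ShortComplex (SheafOfModules.{u} R)} (hS : S.Exact) [Mono S.f]
    (U : C) (t : S.X₂.val.obj (op U)) (ht : S.g.val.app (op U) t = 0) :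
    ∃ a : S.X₁.val.obj (op U), S.f.val.app (op U) a = t := by
  have h := hS.map_of_mono_of_preservesKernel (SheafOfModules.evaluation R (op U))
    inferInstance inferInstance
  exact (ShortComplex.moduleCat_exact_iff _).mp h t ht

/-- a monomorphism is injective on sections. -/
theorem injective_of_mono {M N : SheafOfModules.{u} R} (φ : M ⟶ N) [Mono φ] (U : C) :
    Function.Injective (φ.val.app (op U)) := by
  have : Mono ((SheafOfModules.evaluation R (op U)).map φ) := inferInstance
  exact (ModuleCat.mono_iff_injective _).mp this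

end Gen

end Groth.Agent.LD.RSp
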