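import Groth.Agent.Lib.Lead.RSp.GlueHom

/-! # On a ringed space whose open coverings are refined by finite coverings with quasi-compact
pairwise intersections, morphisms out of a module of finite presentation commute with directed
colimits. -/

universe u
open CategoryTheory Limits Opposite TopologicalSpace

namespace Groth.Agent.LD.RSp

variable {X : TopCat.{u}} {O : TopCat.Sheaf CommRingCat.{u} X}

section Directed
variable {I : Type u} [Preorder I] [Nonempty I] [IsDirected I (· ≤ ·)]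
  (D : I ⥤ ModSite.Mod O) (c : Cocone D) (hc : IsColimit c)

include hc in
/-- a morphism from a module of finite presentation to a directed colimit lifts locally to a
stage, compatibly with local generators and relations. -/
theorem exists_local_stage_data (G : ModSite.Mod O)
    [SheafOfModules.IsFinitePresentation (R := ModSite.ringSh O) G] (φ : G ⟶ c.pt) (x : X) :
    ∃ (U : Opens X) (_ : x ∈ U) (ι κ : Type u) (_ : Fintype ι) (_ : Fintype κ)
      (g : ι → ModSite.sect G U) (ρ : κ → ι → (ModSite.ringSh O).obj.obj (op U)),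
      LocGen G U g ∧ LocRel G U g ρ ∧ ∃ (i : I) (s : ι → ModSite.sect (D.obj i) U),
        (∀ a, (leg c i).val.app (op U) (s a) = φ.val.app (op U) (g a)) ∧
        (∀ b, ∑ a, ρ b a • s a = 0) := by
  classical
  obtain ⟨U₀, hxU₀, ι, κ, _, _, g₀, ρ₀, hgen, hrel⟩ :=
    (isFinitePresentation_iff G).mp inferInstance x
  obtain ⟨W₁, hW₁, hxW₁, h1⟩ := exists_common_nbhd x U₀ hxU₀
    (fun a W => ∃ (hW : W ≤ U₀) (j : I) (t : ModSite.sect (D.obj j) W),
      (leg c j).val.app (op W) t = res c.pt hW (φ.val.app (op U₀) (g₀ a)))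
    (by
      rintro a W W' hW' ⟨hW, j, t, ht⟩
      exact ⟨hW'.trans hW, j, res (D.obj j) hW' t, by rw [app_res, ht, res_res]⟩)
    (by
      intro a
      obtain ⟨W', hW', hxW', j, t, ht⟩ :=
        locStage_of_isColimit c hc U₀ (φ.val.app (op U₀) (g₀ a)) x hxU₀
      exact ⟨W', hW', hxW', hW', j, t, ht⟩)
  choose hW₁' j t ht using h1
  obtain ⟨j₀, hj₀⟩ := Finite.exists_le j
  let s₁ : ι → ModSite.sect (D.obj j₀) W₁ := fun a => tr D (hj₀ a) W₁ (t a)
  have hs₁ : ∀ a, (leg c j₀).val.app (op W₁) (s₁ a) =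
      res c.pt hW₁ (φ.val.app (op U₀) (g₀ a)) := by
    intro a
    show (leg c j₀).val.app (op W₁) (tr D (hj₀ a) W₁ (t a)) = _
    rw [leg_tr, ht a]
  let r : κ → ModSite.sect (D.obj j₀) W₁ := fun b => ∑ a, rr O hW₁ (ρ₀ b a) • s₁ a
  have hr : ∀ b, (leg c j₀).val.app (op W₁) (r b) = 0 := by
    intro b
    have h2 : ∑ a, rr O hW₁ (ρ₀ b a) • res c.pt hW₁ (φ.val.app (op U₀) (g₀ a)) = 0 := by
      have h3 : evAt _ _ U₀ φ (∑ a, ρ₀ b a • g₀ a) = 0 := by rw [hrel.1 b, map_zero]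
      rw [map_sum] at h3
      have h4 := congrArg (res c.pt hW₁) h3
      rw [res_sum, res_zero] at h4
      refine Eq.trans (Finset.sum_congr rfl fun a _ => ?_) h4
      rw [map_smul, res_smul]
      rfl
    have h5 : evAt _ _ W₁ (leg c j₀) (∑ a, rr O hW₁ (ρ₀ b a) • s₁ a) = 0 := by
      rw [map_sum]
      refine Eq.trans (Finset.sum_congr rfl fun a _ => ?_) h2
      rw [map_smul]
      exact congrArg (fun z => rr O hW₁ (ρ₀ b a) • z) (hs₁ a)
    exact h5
  obtain ⟨W₂, hW₂, hxW₂, h5⟩ := exists_common_nbhd x W₁ hxW₁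
    (fun b W => ∃ (hW : W ≤ W₁) (k : I) (hk : j₀ ≤ k),
      tr D hk W (res (D.obj j₀) hW (r b)) = 0)
    (by
      rintro b W W' hW' ⟨hW, k, hk, e⟩
      refine ⟨hW'.trans hW, k, hk, ?_⟩
      rw [← res_res (D.obj j₀) hW hW', tr_res, e, res_zero])
    (by
      intro b
      obtain ⟨W', hW', hxW', k, hk, e⟩ :=
        locKill_of_isColimit D c hc j₀ W₁ (r b) (hr b) x hxW₁
      exact ⟨W', hW', hxW', hW', k, hk, e⟩)
  choose hW₂' k hk hk0 using h5
  obtain ⟨k₀, hk₀⟩ := Finite.exists_le k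
  obtain ⟨k₁, hjk₁, hk₀₁⟩ := exists_ge_ge j₀ k₀
  have hW₂₀ : W₂ ≤ U₀ := hW₂.trans hW₁
  refine ⟨W₂, hxW₂, ι, κ, inferInstance, inferInstance, fun a => res G hW₂₀ (g₀ a),
    fun b a => rr O hW₂₀ (ρ₀ b a), hgen.res hW₂₀, hrel.res hW₂₀, k₁,
    fun a => tr D hjk₁ W₂ (res (D.obj j₀) hW₂ (s₁ a)), ?_, ?_⟩
  · intro a
    show (leg c k₁).val.app (op W₂) (tr D hjk₁ W₂ (res (D.obj j₀) hW₂ (s₁ a))) =
      φ.val.app (op W₂) (res G hW₂₀ (g₀ a))
    rw [leg_tr, app_res, app_res, hs₁ a, res_res]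
  · intro b
    have h6 : tr D hjk₁ W₂ (res (D.obj j₀) hW₂ (r b)) = 0 := by
      have h7 : tr D ((hk b).trans ((hk₀ b).trans hk₀₁)) W₂ (res (D.obj j₀) hW₂ (r b)) = 0 := by
        rw [← tr_tr D (hk b) ((hk₀ b).trans hk₀₁)]
        have h8 : tr D (hk b) W₂ (res (D.obj j₀) hW₂ (r b)) = 0 := hk0 b
        rw [h8, map_zero]
      exact h7
    have h8 : tr D hjk₁ W₂ (res (D.obj j₀) hW₂ (r b)) =
        ∑ a, rr O hW₂₀ (ρ₀ b a) • tr D hjk₁ W₂ (res (D.obj j₀) hW₂ (s₁ a)) := by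
      show tr D hjk₁ W₂ (res (D.obj j₀) hW₂ (∑ a, rr O hW₁ (ρ₀ b a) • s₁ a)) = _
      rw [res_sum, map_sum]
      refine Finset.sum_congr rfl fun a _ => ?_
      rw [res_smul, map_smul, rr_rr]
    exact h8.symm.trans h6

variable (hX : ∀ (ι : Type u) (V : ι → Opens X), iSup V = ⊤ →
  ∃ (J : Type u) (_ : Finite J) (U : J → Opens X), iSup U = ⊤ ∧ (∀ j, ∃ i, U j ≤ V i) ∧
    ∀ j j', IsCompact ((U j ⊓ U j' : Opens X) : Set X))

include hc hX in
/-- a morphism from a module of finite type to a stage which dies in the colimit dies at a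
later stage. -/
theorem comp_map_eq_zero_at_stage (G : ModSite.Mod O)
    [SheafOfModules.IsFiniteType (R := ModSite.ringSh O) G] {i : I} (δ : G ⟶ D.obj i)
    (h : δ ≫ leg c i = 0) : ∃ (k : I) (hk : i ≤ k), δ ≫ D.map (homOfLE hk) = 0 := by
  classical
  have hft := (isFiniteType_iff G).mp inferInstance
  choose U hxU ι hι g hg using hft
  have hsup : iSup U = ⊤ := by
    apply top_le_iff.mp
    intro x _
    exact Opens.mem_iSup.mpr ⟨x, hxU x⟩
  obtain ⟨J, hJ, 𝒱, h𝒱sup, href, hcomp⟩ := hX X U hsup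
  haveI := hJ
  choose xj hxj using href
  have hcompj : ∀ j, IsCompact ((𝒱 j : Opens X) : Set X) := by
    intro j
    have h1 := hcomp j j
    rwa [inf_idem] at h1
  have hstage : ∀ (p : Σ j : J, ι (xj j)), ∃ (k : I) (hk : i ≤ k),
      tr D hk (𝒱 p.1) (δ.val.app (op (𝒱 p.1)) (res G (hxj p.1) (g (xj p.1) p.2))) = 0 := by
    intro p
    apply exists_kill_of_isCompact D c hc i (𝒱 p.1) (hcompj p.1)
    have h1 : (δ ≫ leg c i).val.app (op (𝒱 p.1)) (res G (hxj p.1) (g (xj p.1) p.2)) = 0 := by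
      rw [h]
      rfl
    exact h1
  choose k hk hk0 using hstage
  haveI : ∀ j : J, Finite (ι (xj j)) := fun j => @Finite.of_fintype _ (hι (xj j))
  obtain ⟨k₀, hk₀⟩ := Finite.exists_le k
  obtain ⟨k₁, hik₁, hk₀₁⟩ := exists_ge_ge i k₀
  refine ⟨k₁, hik₁, ?_⟩
  apply SheafOfModules.hom_ext
  apply PresheafOfModules.hom_ext
  intro Y'
  obtain ⟨V⟩ := Y'
  apply ModuleCat.hom_ext
  apply LinearMap.ext
  intro t
  have key : tr D hik₁ V (δ.val.app (op V) t) = 0 := by
    apply eq_of_locally (D.obj k₁) V _ 0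
    intro y hy
    obtain ⟨j, hyj⟩ : ∃ j, y ∈ 𝒱 j := by
      have h1 : y ∈ iSup 𝒱 := by
        rw [h𝒱sup]
        trivial
      exact Opens.mem_iSup.mp h1
    letI := hι (xj j)
    obtain ⟨W, hW, hyW, r, hr⟩ := hg (xj j) (V ⊓ 𝒱 j) (inf_le_right.trans (hxj j))
      (res G inf_le_left t) y ⟨hy, hyj⟩
    refine ⟨W, hW.trans inf_le_left, hyW, ?_⟩
    rw [res_zero, ← tr_res, ← app_res, ← res_res G inf_le_left hW t, hr, map_sum, map_sum]
    refine Finset.sum_eq_zero fun a _ => ?_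
    rw [map_smul, map_smul]
    have h2 : tr D hik₁ W (δ.val.app (op W)
        (res G (hW.trans (inf_le_right.trans (hxj j))) (g (xj j) a))) = 0 := by
      have hW𝒱 : W ≤ 𝒱 j := hW.trans inf_le_right
      rw [← res_res G (hxj j) hW𝒱 (g (xj j) a), app_res, tr_res]
      have h3 : tr D hik₁ (𝒱 j) (δ.val.app (op (𝒱 j)) (res G (hxj j) (g (xj j) a))) = 0 := by
        have h4 : tr D ((hk ⟨j, a⟩).trans ((hk₀ ⟨j, a⟩).trans hk₀₁)) (𝒱 j)
            (δ.val.app (op (𝒱 j)) (res G (hxj j) (g (xj j) a))) = 0 := by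
          rw [← tr_tr D (hk ⟨j, a⟩) ((hk₀ ⟨j, a⟩).trans hk₀₁), hk0 ⟨j, a⟩, map_zero]
        exact h4
      rw [h3, res_zero]
    rw [h2, smul_zero]
  exact key

include hc hX in
/-- a morphism from a module of finite presentation to a directed colimit factors through a
stage. -/
theorem exists_factor_stage (G : ModSite.Mod O)
    [SheafOfModules.IsFinitePresentation (R := ModSite.ringSh O) G] (φ : G ⟶ c.pt) :
    ∃ (i : I) (ψ : G ⟶ D.obj i), ψ ≫ leg c i = φ := by
  classical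
  choose U hxU ι κ hι hκ g ρ hgen hrel i₀ s hlift hrels using
    exists_local_stage_data D c hc G φ
  have hsup : iSup U = ⊤ := by
    apply top_le_iff.mp
    intro x _
    exact Opens.mem_iSup.mpr ⟨x, hxU x⟩
  obtain ⟨J, hJ, 𝒱, h𝒱sup, href, hcomp⟩ := hX X U hsup
  haveI := hJ
  choose xj hxj using href
  obtain ⟨i₁, hi₁⟩ := Finite.exists_le (fun j => i₀ (xj j))
  have hloc : ∀ j, ∃ m : ∀ (V : Opens X), V ≤ 𝒱 j →
      (ModSite.sect G V →ₗ[(ModSite.ringSh O).obj.obj (op V)] ModSite.sect (D.obj i₁) V),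
      (∀ (V : Opens X) (hV : V ≤ 𝒱 j) (W : Opens X) (hW : W ≤ V) (t : ModSite.sect G V),
        res (D.obj i₁) hW (m V hV t) = m W (hW.trans hV) (res G hW t)) ∧
      (∀ (V : Opens X) (hV : V ≤ 𝒱 j) (t : ModSite.sect G V),
        (leg c i₁).val.app (op V) (m V hV t) = φ.val.app (op V) t) := by
    intro j
    letI := hι (xj j)
    letI := hκ (xj j)
    let gj : ι (xj j) → ModSite.sect G (𝒱 j) := fun a => res G (hxj j) (g (xj j) a)
    let ρj : κ (xj j) → ι (xj j) → (ModSite.ringSh O).obj.obj (op (𝒱 j)) :=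
      fun b a => rr O (hxj j) (ρ (xj j) b a)
    let sj : ι (xj j) → ModSite.sect (D.obj i₁) (𝒱 j) :=
      fun a => tr D (hi₁ j) (𝒱 j) (res (D.obj (i₀ (xj j))) (hxj j) (s (xj j) a))
    have hgj : LocGen G (𝒱 j) gj := (hgen (xj j)).res (hxj j)
    have hρj : LocRel G (𝒱 j) gj ρj := (hrel (xj j)).res (hxj j)
    have hsj : ∀ b, ∑ a, ρj b a • sj a = 0 := by
      intro b
      have h2 : tr D (hi₁ j) (𝒱 j) (res (D.obj (i₀ (xj j))) (hxj j)
          (∑ a, ρ (xj j) b a • s (xj j) a)) = 0 := by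
        rw [hrels (xj j) b, res_zero, map_zero]
      rw [res_sum, map_sum] at h2
      refine Eq.trans (Finset.sum_congr rfl fun a _ => ?_) h2
      rw [res_smul, map_smul]
    have hlg : ∀ a, (leg c i₁).val.app (op (𝒱 j)) (sj a) = φ.val.app (op (𝒱 j)) (gj a) := by
      intro a
      show (leg c i₁).val.app (op (𝒱 j))
          (tr D (hi₁ j) (𝒱 j) (res (D.obj (i₀ (xj j))) (hxj j) (s (xj j) a))) =
        φ.val.app (op (𝒱 j)) (res G (hxj j) (g (xj j) a))
      rw [leg_tr, app_res, app_res, hlift (xj j) a]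
    obtain ⟨m, hmnat, hmgen⟩ :=
      exists_locHom_of_relations G (D.obj i₁) (𝒱 j) gj ρj hgj hρj sj hsj
    refine ⟨m, hmnat, ?_⟩
    intro V hV t
    apply eq_of_locally c.pt V
    intro y hy
    obtain ⟨W, hW, hyW, r, hr⟩ := hgj V hV t y hy
    refine ⟨W, hW, hyW, ?_⟩
    rw [← app_res, hmnat V hV W hW t, ← app_res, hr, map_sum, map_sum, map_sum]
    refine Finset.sum_congr rfl fun a _ => ?_
    rw [map_smul, map_smul, map_smul, hmgen W (hW.trans hV) a, app_res, app_res, hlg a]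
  choose m hmnat hmlift using hloc
  have hagree : ∀ (p : Σ (jj : J × J), ι (xj jj.1)), ∃ (k : I) (hk : i₁ ≤ k),
      tr D hk (𝒱 p.1.1 ⊓ 𝒱 p.1.2) (m p.1.1 (𝒱 p.1.1 ⊓ 𝒱 p.1.2) inf_le_left
        (res G inf_le_left (res G (hxj p.1.1) (g (xj p.1.1) p.2)))) =
      tr D hk (𝒱 p.1.1 ⊓ 𝒱 p.1.2) (m p.1.2 (𝒱 p.1.1 ⊓ 𝒱 p.1.2) inf_le_right
        (res G inf_le_left (res G (hxj p.1.1) (g (xj p.1.1) p.2)))) := by
    intro p
    apply exists_eq_of_isCompact D c hc i₁ _ (hcomp p.1.1 p.1.2)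
    rw [hmlift, hmlift]
  choose k hk hk0 using hagree
  haveI : ∀ jj : J × J, Finite (ι (xj jj.1)) := fun jj => @Finite.of_fintype _ (hι (xj jj.1))
  obtain ⟨k₀, hk₀⟩ := Finite.exists_le k
  obtain ⟨k₁, hik₁, hk₀₁⟩ := exists_ge_ge i₁ k₀
  have hagree' : ∀ (j j' : J) (V : Opens X) (hV : V ≤ 𝒱 j) (hV' : V ≤ 𝒱 j')
      (t : ModSite.sect G V), tr D hik₁ V (m j V hV t) = tr D hik₁ V (m j' V hV' t) := by
    intro j j' V hV hV' t
    apply eq_of_locally (D.obj k₁) V
    intro y hy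
    letI := hι (xj j)
    obtain ⟨W, hW, hyW, r, hr⟩ := (hgen (xj j)).res (hxj j) V hV t y hy
    refine ⟨W, hW, hyW, ?_⟩
    rw [← tr_res, ← tr_res, hmnat j V hV W hW t, hmnat j' V hV' W hW t, hr, map_sum, map_sum,
      map_sum, map_sum]
    refine Finset.sum_congr rfl fun a _ => ?_
    rw [map_smul, map_smul, map_smul, map_smul]
    refine congrArg (fun z => r a • z) ?_
    have hWo : W ≤ 𝒱 j ⊓ 𝒱 j' := le_inf (hW.trans hV) (hW.trans hV')
    have e' : tr D hik₁ (𝒱 j ⊓ 𝒱 j') (m j (𝒱 j ⊓ 𝒱 j') inf_le_left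
          (res G inf_le_left (res G (hxj j) (g (xj j) a)))) =
        tr D hik₁ (𝒱 j ⊓ 𝒱 j') (m j' (𝒱 j ⊓ 𝒱 j') inf_le_right
          (res G inf_le_left (res G (hxj j) (g (xj j) a)))) := by
      have e2 := congrArg (tr D ((hk₀ ⟨(j, j'), a⟩).trans hk₀₁) (𝒱 j ⊓ 𝒱 j')) (hk0 ⟨(j, j'), a⟩)
      rw [tr_tr, tr_tr] at e2
      exact e2
    have e3 := congrArg (res (D.obj k₁) hWo) e'
    rw [← tr_res, ← tr_res, hmnat, hmnat] at e3
    simp only [res_res] at e3 ⊢
    exact e3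
  let Small : Opens X → Prop := fun V => ∃ j, V ≤ 𝒱 j
  have hdown : ∀ {V W : Opens X}, W ≤ V → Small V → Small W :=
    fun h hV => ⟨hV.choose, h.trans hV.choose_spec⟩
  have hcov : ∀ y : X, ∃ V : Opens X, Small V ∧ y ∈ V := by
    intro y
    have h1 : y ∈ iSup 𝒱 := by
      rw [h𝒱sup]
      trivial
    obtain ⟨j, hj⟩ := Opens.mem_iSup.mp h1
    exact ⟨𝒱 j, ⟨j, le_rfl⟩, hj⟩
  obtain ⟨ψ, hψ⟩ := exists_hom_of_small G (D.obj k₁) Small hdown hcov
    (fun V hV t => tr D hik₁ V (m hV.choose V hV.choose_spec t))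
    (fun V hV t t' => by
      show tr D hik₁ V (m hV.choose V hV.choose_spec (t + t')) = _
      rw [map_add, map_add])
    (fun V hV a t => by
      show tr D hik₁ V (m hV.choose V hV.choose_spec (a • t)) = _
      rw [map_smul, map_smul])
    (fun V hV W hW t => by
      show res (D.obj k₁) hW (tr D hik₁ V (m hV.choose V hV.choose_spec t)) =
        tr D hik₁ W (m (hdown hW hV).choose W (hdown hW hV).choose_spec (res G hW t))
      rw [← tr_res, hmnat]
      exact hagree' _ _ W _ _ _)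
  refine ⟨k₁, ψ, ?_⟩
  apply SheafOfModules.hom_ext
  apply PresheafOfModules.hom_ext
  intro Y'
  obtain ⟨V⟩ := Y'
  apply ModuleCat.hom_ext
  apply LinearMap.ext
  intro t
  have key : (leg c k₁).val.app (op V) (ψ.val.app (op V) t) = φ.val.app (op V) t := by
    apply eq_of_locally c.pt V
    intro y hy
    obtain ⟨S, hS, hyS⟩ := hcov y
    have hS' : Small (S ⊓ V) := hdown inf_le_left hS
    refine ⟨S ⊓ V, inf_le_right, ⟨hyS, hy⟩, ?_⟩
    rw [← app_res, ← app_res, ← app_res, hψ (S ⊓ V) hS', leg_tr, hmlift]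
  exact key

/-- on a ringed space whose open coverings are refined by finite coverings with quasi-compact
pairwise intersections, morphisms out of a module of finite presentation commute with directed
colimits. -/
theorem preservesColimit_coyoneda_of_fp
    (hX : ∀ (ι : Type u) (V : ι → Opens X), iSup V = ⊤ →
      ∃ (J : Type u) (_ : Finite J) (U : J → Opens X), iSup U = ⊤ ∧ (∀ j, ∃ i, U j ≤ V i) ∧
        ∀ j j', IsCompact ((U j ⊓ U j' : Opens X) : Set X))
    (D : I ⥤ ModSite.Mod O) (G : ModSite.Mod O)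
    [SheafOfModules.IsFinitePresentation (R := ModSite.ringSh O) G] :
    PreservesColimit D (coyoneda.obj (op G)) := by
  apply preservesColimit_of_preserves_colimit_cocone (colimit.isColimit D)
  apply Types.FilteredColimit.isColimitOf'
  · intro φ
    obtain ⟨i, ψ, hψ⟩ :=
      exists_factor_stage D (colimit.cocone D) (colimit.isColimit D) hX G φ
    exact ⟨i, ψ, hψ.symm⟩
  · intro i α β h
    let α' : G ⟶ D.obj i := α
    let β' : G ⟶ D.obj i := β
    have h' : α' ≫ leg (colimit.cocone D) i = β' ≫ leg (colimit.cocone D) i := h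
    have h0 : (α' - β') ≫ leg (colimit.cocone D) i = 0 := by
      rw [Preadditive.sub_comp, h', sub_self]
    obtain ⟨k, hk, e⟩ := comp_map_eq_zero_at_stage D (colimit.cocone D) (colimit.isColimit D)
      hX G (α' - β') h0
    refine ⟨k, homOfLE hk, ?_⟩
    rw [Preadditive.sub_comp, sub_eq_zero] at e
    exact e

end Directed

end Groth.Agent.LD.RSp
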