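import Groth.Agent.Lib.Lead.RSp.Free

/-! # Finite presentations of sheaves of modules on a small site with a terminal object, in
terms of generators and relations over the terminal object. -/

universe u
open CategoryTheory Limits Opposite

namespace Groth.Agent.LD.RSp

section Pres
variable {C : Type u} [SmallCategory C] {J : GrothendieckTopology C} {R : Sheaf J RingCat.{u}}
variable {T : C} (hT : IsTerminal T)

lemma unitHomEquiv_symm_app (M : SheafOfModules.{u} R) (σ : M.sections) (Y : C) :
    (M.unitHomEquiv.symm σ).val.app (op Y) (1 : R.obj.obj (op Y)) =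
      PresheafOfModules.sections.eval σ (op Y) := by
  have h := congrArg (fun s => PresheafOfModules.sections.eval s (op Y))
    (M.unitHomEquiv.apply_symm_apply σ)
  exact h

include hT in
/-- a finite presentation gives relation coefficients over the terminal object which locally
generate all relations between the generators. -/
theorem exists_rel_of_presentation (N : SheafOfModules.{u} R) (P : N.Presentation)
    [Fintype P.generators.I] [DecidableEq P.generators.I] [Fintype P.relations.I] :
    ∃ ρ : P.relations.I → P.generators.I → R.obj.obj (op T),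
      (∀ j, ∑ i, ρ j i • PresheafOfModules.sections.eval (P.generators.s i) (op T) = 0) ∧
      ∀ (Y : C) (c : P.generators.I → R.obj.obj (op Y)),
        ∑ i, c i • PresheafOfModules.sections.eval (P.generators.s i) (op Y) = 0 →
        ∃ S ∈ J Y, ∀ ⦃W : C⦄ (g : W ⟶ Y), S g → ∃ d : P.relations.I → R.obj.obj (op W),
          ∀ i, R.obj.map g.op (c i) = ∑ j, d j * R.obj.map (hT.from W).op (ρ j i) := by
  classical
  let π := P.generators.π
  let zT : P.relations.I → (SheafOfModules.free (R := R) P.generators.I).val.obj (op T) :=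
    fun j => (kernel.ι π).val.app (op T)
      (PresheafOfModules.sections.eval (P.relations.s j) (op T))
  refine ⟨fun j i => coord R P.generators.I i T (zT j), ?_, ?_⟩
  · intro j
    have h1 := freeHom_sum_bas R P.generators.I N P.generators.s T
      (fun i => coord R P.generators.I i T (zT j))
    rw [← eq_sum_coord_bas] at h1
    rw [← h1]
    exact kernel_ι_app π T _
  · intro Y c hc
    let z : (SheafOfModules.free (R := R) P.generators.I).val.obj (op Y) :=
      ∑ i, c i • bas R P.generators.I i Y
    have hz : π.val.app (op Y) z = 0 :=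
      (freeHom_sum_bas R P.generators.I N P.generators.s Y c).trans hc
    obtain ⟨k, hk⟩ := exists_kernel_lift π Y z hz
    haveI : Epi ((kernel π).freeHomEquiv.symm P.relations.s) := P.relations.epi
    obtain ⟨S, hS, hS'⟩ := exists_sieve_of_epi ((kernel π).freeHomEquiv.symm P.relations.s) Y k
    refine ⟨S, hS, ?_⟩
    intro W g hg
    obtain ⟨m, hm⟩ := hS' g hg
    obtain ⟨d, hd⟩ := freeHom_apply_exists (kernel π) P.relations.s W m
    refine ⟨d, fun i => ?_⟩
    have e1 : R.obj.map g.op (c i) = coord R P.generators.I i W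
        (rs (SheafOfModules.free (R := R) P.generators.I) g z) := by
      rw [coord_rs, coord_sum_bas]
    have e2 : rs (SheafOfModules.free (R := R) P.generators.I) g z =
        (kernel.ι π).val.app (op W) (rs (kernel π) g k) := by
      rw [app_rs, hk]
    have e3 : rs (kernel π) g k =
        ∑ j, d j • PresheafOfModules.sections.eval (P.relations.s j) (op W) :=
      hm.symm.trans hd
    rw [e1, e2, e3, map_sum, map_sum]
    refine Finset.sum_congr rfl fun j _ => ?_
    rw [map_smul, map_smul, smul_eq_mul]
    congr 1
    rw [eval_eq_rs hT (kernel π) (P.relations.s j) W, app_rs]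
    exact coord_rs R P.generators.I i (hT.from W) (zT j)

include hT in
/-- conversely, generators and relation coefficients over the terminal object, locally
generating all relations, give a finite presentation. -/
theorem exists_presentation_of_rel (N : SheafOfModules.{u} R) {ι κ : Type u}
    [Fintype ι] [DecidableEq ι] [Fintype κ] [DecidableEq κ]
    (e : ι → N.val.obj (op T)) (ρ : κ → ι → R.obj.obj (op T))
    (hgen : Epi (N.freeHomEquiv.symm (fun i => secOfTerminal hT N (e i))))
    (h1 : ∀ j, ∑ i, ρ j i • e i = 0)
    (h2 : ∀ (Y : C) (c : ι → R.obj.obj (op Y)), ∑ i, c i • rs N (hT.from Y) (e i) = 0 →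
      ∃ S ∈ J Y, ∀ ⦃W : C⦄ (g : W ⟶ Y), S g → ∃ d : κ → R.obj.obj (op W),
        ∀ i, R.obj.map g.op (c i) = ∑ j, d j * R.obj.map (hT.from W).op (ρ j i)) :
    ∃ P : N.Presentation, P.IsFinite := by
  let G : N.GeneratingSections :=
    { I := ι, s := fun i => secOfTerminal hT N (e i), epi := hgen }
  let π : SheafOfModules.free (R := R) ι ⟶ N := G.π
  let zT : κ → (SheafOfModules.free (R := R) ι).val.obj (op T) :=
    fun j => ∑ i, ρ j i • bas R ι i T
  have hfromT : hT.from T = 𝟙 T := hT.hom_ext _ _
  have hzT : ∀ j, π.val.app (op T) (zT j) = 0 := by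
    intro j
    refine (freeHom_sum_bas R ι N G.s T (ρ j)).trans ?_
    rw [← h1 j]
    refine Finset.sum_congr rfl fun i _ => ?_
    congr 1
    change rs N (hT.from T) (e i) = e i
    rw [hfromT, rs_id]
  let w : κ → (SheafOfModules.unit R ⟶ SheafOfModules.free (R := R) ι) := fun j =>
    (SheafOfModules.free (R := R) ι).unitHomEquiv.symm
      (secOfTerminal hT (SheafOfModules.free (R := R) ι) (zT j))
  have hwapp : ∀ (j : κ) (Y : C), (w j).val.app (op Y) (1 : R.obj.obj (op Y)) =
      rs (SheafOfModules.free (R := R) ι) (hT.from Y) (zT j) := fun j Y =>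
    unitHomEquiv_symm_app _ _ Y
  have hw : ∀ j, w j ≫ π = 0 := by
    intro j
    apply N.unitHomEquiv.injective
    apply Subtype.ext
    funext Y
    change π.val.app (op Y.unop) ((w j).val.app (op Y.unop) (1 : R.obj.obj (op Y.unop))) = 0
    rw [hwapp, app_rs, hzT, rs_zero]
  let rel : κ → (kernel π).sections := fun j =>
    (kernel π).unitHomEquiv (kernel.lift π (w j) (hw j))
  have hrel : ∀ (j : κ) (Y : C), (kernel.ι π).val.app (op Y)
      (PresheafOfModules.sections.eval (rel j) (op Y)) =
      rs (SheafOfModules.free (R := R) ι) (hT.from Y) (zT j) := by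
    intro j Y
    rw [← hwapp]
    change (kernel.lift π (w j) (hw j) ≫ kernel.ι π).val.app (op Y) (1 : R.obj.obj (op Y)) = _
    rw [kernel.lift_ι]
  have hepi : Epi ((kernel π).freeHomEquiv.symm rel) := by
    apply epi_of_exists_sieve
    intro Y k
    let z := (kernel.ι π).val.app (op Y) k
    have hc : ∑ i, coord R ι i Y z • rs N (hT.from Y) (e i) = 0 := by
      have h3 := freeHom_sum_bas R ι N G.s Y (fun i => coord R ι i Y z)
      rw [← eq_sum_coord_bas] at h3
      exact h3.symm.trans (kernel_ι_app π Y k)
    obtain ⟨S, hS, hS'⟩ := h2 Y (fun i => coord R ι i Y z) hc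
    refine ⟨S, hS, ?_⟩
    intro W g hg
    obtain ⟨d, hd⟩ := hS' g hg
    refine ⟨∑ j, d j • bas R κ j W, ?_⟩
    apply injective_of_mono (kernel.ι π) W
    have e1 : ((kernel π).freeHomEquiv.symm rel).val.app (op W) (∑ j, d j • bas R κ j W) =
        ∑ j, d j • PresheafOfModules.sections.eval (rel j) (op W) :=
      freeHom_sum_bas R κ (kernel π) rel W d
    rw [e1, app_rs, map_sum]
    apply ext_coord R ι W
    intro i
    rw [coord_rs, hd i, map_sum]
    refine Finset.sum_congr rfl fun j _ => ?_
    rw [map_smul, map_smul, smul_eq_mul, hrel, coord_rs]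
    congr 2
    exact (coord_sum_bas R ι T (ρ j) i)
  refine ⟨{ generators := G, relations := { I := κ, s := rel, epi := hepi } }, ?_⟩
  exact { isFiniteType_generators := { finite := (Finite.of_fintype ι : Finite ι) }
          isFiniteType_relations := { finite := (Finite.of_fintype κ : Finite κ) } }

/-- the sieve of arrows over which the coefficient family `c` becomes a combination of the
relation coefficients `ρ`. -/
def relSieve {ι κ : Type u} [Fintype κ] (ρ : κ → ι → R.obj.obj (op T)) {Y : C}
    (c : ι → R.obj.obj (op Y)) : Sieve Y where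
  arrows W g := ∃ d : κ → R.obj.obj (op W),
    ∀ i, R.obj.map g.op (c i) = ∑ j, d j * R.obj.map (hT.from W).op (ρ j i)
  downward_closed := by
    rintro W Z g ⟨d, hd⟩ h
    refine ⟨fun j => R.obj.map h.op (d j), fun i => ?_⟩
    have e1 : R.obj.map (h ≫ g).op (c i) = R.obj.map h.op (R.obj.map g.op (c i)) := by
      rw [op_comp, Functor.map_comp]
      rfl
    rw [e1, hd i, map_sum]
    refine Finset.sum_congr rfl fun j _ => ?_
    rw [map_mul]
    congr 1
    have e2 : hT.from Z = h ≫ hT.from W := hT.hom_ext _ _
    rw [e2, op_comp, Functor.map_comp]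
    rfl

include hT in
theorem relSieve_mem_of_presentation (N : SheafOfModules.{u} R) (P : N.Presentation)
    [Fintype P.generators.I] [DecidableEq P.generators.I] [Fintype P.relations.I] :
    ∃ ρ : P.relations.I → P.generators.I → R.obj.obj (op T),
      (∀ j, ∑ i, ρ j i • PresheafOfModules.sections.eval (P.generators.s i) (op T) = 0) ∧
      ∀ (Y : C) (c : P.generators.I → R.obj.obj (op Y)),
        ∑ i, c i • PresheafOfModules.sections.eval (P.generators.s i) (op Y) = 0 →
        relSieve hT ρ c ∈ J Y := by
  obtain ⟨ρ, h1, h2⟩ := exists_rel_of_presentation hT N P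
  refine ⟨ρ, h1, fun Y c hc => ?_⟩
  obtain ⟨S, hS, hS'⟩ := h2 Y c hc
  exact J.superset_covering (fun W g hg => hS' g hg) hS

include hT in
theorem exists_presentation_of_relSieve (N : SheafOfModules.{u} R) {ι κ : Type u}
    [Fintype ι] [DecidableEq ι] [Fintype κ] [DecidableEq κ]
    (e : ι → N.val.obj (op T)) (ρ : κ → ι → R.obj.obj (op T))
    (hgen : Epi (N.freeHomEquiv.symm (fun i => secOfTerminal hT N (e i))))
    (h1 : ∀ j, ∑ i, ρ j i • e i = 0)
    (h2 : ∀ (Y : C) (c : ι → R.obj.obj (op Y)), ∑ i, c i • rs N (hT.from Y) (e i) = 0 →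
      relSieve hT ρ c ∈ J Y) :
    ∃ P : N.Presentation, P.IsFinite :=
  exists_presentation_of_rel hT N e ρ hgen h1
    (fun Y c hc => ⟨relSieve hT ρ c, h2 Y c hc, fun _ _ hg => hg⟩)

end Pres

end Groth.Agent.LD.RSp
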