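import Groth.Agent.Lib.Lead.RSp.LocBasis

/-! # Pushforward of modules along a morphism of ringed spaces: sections; finite type along a
closed embedding with surjective comorphism. -/

universe u
open CategoryTheory Limits Opposite TopologicalSpace

namespace Groth.Agent.LD.RSp

section Push
variable {Z X : TopCat.{u}} (i : Z ⟶ X) {O_Z : TopCat.Sheaf CommRingCat.{u} Z}
  {O_X : TopCat.Sheaf CommRingCat.{u} X}
  (c : O_X ⟶ ((Opens.map i).sheafPushforwardContinuous CommRingCat.{u}
    (Opens.grothendieckTopology X) (Opens.grothendieckTopology Z)).obj O_Z)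

/-- the morphism of ringed spaces. -/
noncomputable abbrev rm : ModSite.RMor O_Z O_X := ModSite.RMor.ofFlat (Opens.map i) c

/-- the comorphism on sections. -/
noncomputable def sh (V : Opens X) : (ModSite.ringSh O_X).obj.obj (op V) →+*
    (ModSite.ringSh O_Z).obj.obj (op ((Opens.map i).obj V)) :=
  ((rm i c).sharpR.hom.app (op V)).hom

/-- sections of the pushforward, read on the source. -/
def ofP (F : ModSite.Mod O_Z) (V : Opens X) :
    ModSite.sect ((rm i c).push.obj F) V ≃+ ModSite.sect F ((Opens.map i).obj V) where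
  toFun t := t
  invFun t := t
  left_inv _ := rfl
  right_inv _ := rfl
  map_add' _ _ := rfl

lemma ofP_smul (F : ModSite.Mod O_Z) (V : Opens X) (a : (ModSite.ringSh O_X).obj.obj (op V))
    (t : ModSite.sect ((rm i c).push.obj F) V) :
    ofP i c F V (a • t) = sh i c V a • ofP i c F V t := rfl

lemma preim_le {V V' : Opens X} (h : V' ≤ V) : (Opens.map i).obj V' ≤ (Opens.map i).obj V :=
  fun _ hz => h hz

lemma ofP_res (F : ModSite.Mod O_Z) {V V' : Opens X} (h : V' ≤ V)
    (t : ModSite.sect ((rm i c).push.obj F) V) :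
    ofP i c F V' (res ((rm i c).push.obj F) h t) = res F (preim_le i h) (ofP i c F V t) := rfl

lemma sh_rr {V V' : Opens X} (h : V' ≤ V) (a : (ModSite.ringSh O_X).obj.obj (op V)) :
    sh i c V' (rr O_X h a) = rr O_Z (preim_le i h) (sh i c V a) := by
  have := congrArg (fun φ => φ.hom a) ((rm i c).sharpR.hom.naturality (homOfLE h).op)
  exact this

omit c in
lemma exists_opens_preimage_eq (hi : Topology.IsInducing i) (W : Opens Z) :
    ∃ V : Opens X, (Opens.map i).obj V = W := by
  obtain ⟨t, ht, htW⟩ := hi.isOpen_iff.mp W.isOpen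
  exact ⟨⟨t, ht⟩, Opens.ext htW⟩

omit i c in
lemma eq_zero_of_isEmpty (F : ModSite.Mod O_Z) (W : Opens Z) (hW : ∀ z, z ∉ W)
    (t : ModSite.sect F W) : t = 0 :=
  eq_of_locally F W t 0 (fun z hz => absurd hz (hW z))

/-- finitely many functions on the source lift, near a point of the target, along a
surjective comorphism. -/
lemma exists_lift_coeff (hc : Sheaf.IsLocallySurjective c) (V : Opens X) {ι : Type*} [Finite ι]
    (r : ι → (ModSite.ringSh O_Z).obj.obj (op ((Opens.map i).obj V))) (y : X) (hy : y ∈ V) :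
    ∃ (V' : Opens X) (hV' : V' ≤ V), y ∈ V' ∧
      ∃ a : ι → (ModSite.ringSh O_X).obj.obj (op V'),
        ∀ j, sh i c V' (a j) = rr O_Z (preim_le i hV') (r j) := by
  obtain ⟨V', hV', hyV', h⟩ := exists_common_nbhd y V hy
    (fun j V' => ∃ (hV' : V' ≤ V) (a : (ModSite.ringSh O_X).obj.obj (op V')),
      sh i c V' a = rr O_Z (preim_le i hV') (r j))
    (by
      rintro j V' V'' h'' ⟨hV', a, ha⟩
      refine ⟨h''.trans hV', rr O_X h'' a, ?_⟩
      rw [sh_rr, ha, rr_rr])
    (by
      intro j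
      haveI : Presheaf.IsLocallySurjective (Opens.grothendieckTopology X) c.hom := hc
      have h1 := Presheaf.imageSieve_mem (Opens.grothendieckTopology X) c.hom (r j)
      obtain ⟨V', f, ⟨a, ha⟩, hyV'⟩ := h1 y hy
      exact ⟨V', leOfHom f, hyV', leOfHom f, a, ha⟩)
  choose _ a ha using h
  exact ⟨V', hV', hyV', a, ha⟩

/-- if the pushforward is of finite type, so is the module (for an inducing map). -/
theorem isFiniteType_of_push (F : ModSite.Mod O_Z)
    (h : SheafOfModules.IsFiniteType (R := ModSite.ringSh O_X) ((rm i c).push.obj F))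
    (hi : Topology.IsInducing i) :
    SheafOfModules.IsFiniteType (R := ModSite.ringSh O_Z) F := by
  rw [isFiniteType_iff] at h ⊢
  intro z
  obtain ⟨U, hxU, ι, _, s, hs⟩ := h (i z)
  refine ⟨(Opens.map i).obj U, hxU, ι, inferInstance, fun j => ofP i c F U (s j), ?_⟩
  intro W hW t z' hz'
  obtain ⟨V₀, hV₀⟩ := exists_opens_preimage_eq i hi W
  have hVW : (Opens.map i).obj (V₀ ⊓ U) ≤ W := by
    intro a ha
    rw [← hV₀]
    exact ha.1
  have hz'V : i z' ∈ V₀ ⊓ U := by
    refine ⟨?_, hW hz'⟩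
    have h1 : z' ∈ (Opens.map i).obj V₀ := by
      rw [hV₀]
      exact hz'
    exact h1
  obtain ⟨V', hV', hzV', a, ha⟩ := hs (V₀ ⊓ U) inf_le_right
    ((ofP i c F (V₀ ⊓ U)).symm (res F hVW t)) (i z') hz'V
  refine ⟨(Opens.map i).obj V', (preim_le i hV').trans hVW, hzV',
    fun j => sh i c V' (a j), ?_⟩
  have h1 := congrArg (ofP i c F V') ha
  rw [ofP_res, AddEquiv.apply_symm_apply, res_res, map_sum] at h1
  rw [h1]
  refine Finset.sum_congr rfl fun j _ => ?_
  rw [ofP_smul, ofP_res]

/-- generators of `F` over the preimage of `U₀` generate the pushforward over `U₀`. -/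
theorem locGen_push (hi : Topology.IsClosedEmbedding i) (hc : Sheaf.IsLocallySurjective c)
    (F : ModSite.Mod O_Z) (U₀ : Opens X) {ι : Type u} [Fintype ι]
    (s' : ι → ModSite.sect F ((Opens.map i).obj U₀)) (hs' : LocGen F ((Opens.map i).obj U₀) s') :
    LocGen ((rm i c).push.obj F) U₀ (fun j => (ofP i c F U₀).symm (s' j)) := by
  intro V hV t y hy
  by_cases hyr : y ∈ Set.range i
  · obtain ⟨z', rfl⟩ := hyr
    obtain ⟨W₁, hW₁, hz'W₁, r, hr⟩ :=
      hs' ((Opens.map i).obj V) (preim_le i hV) (ofP i c F V t) z' hy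
    obtain ⟨V₁, hV₁⟩ := exists_opens_preimage_eq i hi.toIsEmbedding.toIsInducing W₁
    have hW₂ : (Opens.map i).obj (V₁ ⊓ V) ≤ W₁ := by
      intro a ha
      rw [← hV₁]
      exact ha.1
    have hyV₂ : i z' ∈ V₁ ⊓ V := by
      refine ⟨?_, hy⟩
      have h1 : z' ∈ (Opens.map i).obj V₁ := by
        rw [hV₁]
        exact hz'W₁
      exact h1
    obtain ⟨V₃, hV₃, hyV₃, a, ha⟩ := exists_lift_coeff i c hc (V₁ ⊓ V)
      (fun j => rr O_Z hW₂ (r j)) (i z') hyV₂
    refine ⟨V₃, hV₃.trans inf_le_right, hyV₃, a, ?_⟩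
    apply (ofP i c F V₃).injective
    rw [ofP_res, map_sum]
    have h2 : res F (preim_le i (hV₃.trans inf_le_right)) (ofP i c F V t) =
        res F ((preim_le i hV₃).trans hW₂) (res F hW₁ (ofP i c F V t)) := by
      rw [res_res]
    rw [h2, hr, res_sum]
    refine Finset.sum_congr rfl fun j _ => ?_
    rw [res_smul, res_res, ofP_smul, ofP_res, ha j, rr_rr, AddEquiv.apply_symm_apply]
  · let U : Opens X := ⟨(Set.range i)ᶜ, hi.isClosed_range.isOpen_compl⟩
    refine ⟨V ⊓ U, inf_le_left, ⟨hy, hyr⟩, fun _ => 0, ?_⟩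
    simp only [zero_smul, Finset.sum_const_zero]
    apply (ofP i c F (V ⊓ U)).injective
    rw [map_zero]
    apply eq_zero_of_isEmpty
    intro z hz
    exact hz.2 ⟨z, rfl⟩

/-- the pushforward of a module of finite type along a closed embedding with surjective
comorphism is of finite type. -/
theorem isFiniteType_push (F : ModSite.Mod O_Z)
    (hF : SheafOfModules.IsFiniteType (R := ModSite.ringSh O_Z) F)
    (hi : Topology.IsClosedEmbedding i) (hc : Sheaf.IsLocallySurjective c) :
    SheafOfModules.IsFiniteType (R := ModSite.ringSh O_X) ((rm i c).push.obj F) := by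
  classical
  rw [isFiniteType_iff] at hF ⊢
  intro x
  by_cases hx : x ∈ Set.range i
  · obtain ⟨z, rfl⟩ := hx
    obtain ⟨W, hzW, ι, _, s, hs⟩ := hF z
    obtain ⟨U₀, hU₀⟩ := exists_opens_preimage_eq i hi.toIsEmbedding.toIsInducing W
    have hle : (Opens.map i).obj U₀ ≤ W := le_of_eq hU₀
    have hs' := hs.res hle
    refine ⟨U₀, ?_, ι, inferInstance, fun j => (ofP i c F U₀).symm (res F hle (s j)), ?_⟩
    · have h1 : z ∈ (Opens.map i).obj U₀ := by
        rw [hU₀]
        exact hzW
      exact h1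
    · exact locGen_push i c hi hc F U₀ _ hs'
  · let U : Opens X := ⟨(Set.range i)ᶜ, hi.isClosed_range.isOpen_compl⟩
    refine ⟨U, hx, PEmpty.{u + 1}, inferInstance, fun j => j.elim, ?_⟩
    intro V hV t y hy
    refine ⟨V, le_rfl, hy, fun j => j.elim, ?_⟩
    rw [Finset.univ_eq_empty, Finset.sum_empty, res_self]
    apply (ofP i c F V).injective
    rw [map_zero]
    apply eq_zero_of_isEmpty
    intro z hz
    exact hV hz ⟨z, rfl⟩

end Push

end Groth.Agent.LD.RSp
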