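import Groth.Agent.Lib.Lead.RSp.LocSpan
import Groth.Agent.Lib.Lead.RSp.Push

/-! # The pullback of a module locally generated by sections along a morphism of ringed spaces
is locally generated by sections. -/

universe u
open CategoryTheory Limits Opposite TopologicalSpace

namespace Groth.Agent.LD.RSp

section Pull
variable {X Y : TopCat.{u}} (f : X ⟶ Y) {O_X : TopCat.Sheaf CommRingCat.{u} X}
  {O_Y : TopCat.Sheaf CommRingCat.{u} Y}
  (c : O_Y ⟶ ((Opens.map f).sheafPushforwardContinuous CommRingCat.{u}
    (Opens.grothendieckTopology Y) (Opens.grothendieckTopology X)).obj O_X)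
  (G : ModSite.Mod O_Y)

/-- the pullback module. -/
noncomputable abbrev pl : ModSite.Mod O_X := (rm f c).pull.obj G

/-- the section of the pullback attached to a section of `G` (through the unit). -/
noncomputable def un (V : Opens Y) (g : ModSite.sect G V) :
    ModSite.sect (pl f c G) ((Opens.map f).obj V) :=
  ofP f c (pl f c G) V (((rm f c).adj.unit.app G).val.app (op V) g)

lemma un_add (V : Opens Y) (g g' : ModSite.sect G V) :
    un f c G V (g + g') = un f c G V g + un f c G V g' := by
  unfold un
  rw [map_add, map_add]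

lemma un_zero (V : Opens Y) : un f c G V 0 = 0 := by
  unfold un
  rw [map_zero, map_zero]

lemma un_smul (V : Opens Y) (b : (ModSite.ringSh O_Y).obj.obj (op V)) (g : ModSite.sect G V) :
    un f c G V (b • g) = sh f c V b • un f c G V g := by
  unfold un
  rw [map_smul, ofP_smul]

lemma un_res {V V' : Opens Y} (h : V' ≤ V) (g : ModSite.sect G V) :
    un f c G V' (res G h g) = res (pl f c G) (preim_le f h) (un f c G V g) := by
  unfold un
  have h1 := app_res (F := G) ((rm f c).adj.unit.app G) h g
  rw [h1]
  exact ofP_res f c (pl f c G) h _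

/-- the span of the sections of the pullback coming from sections of `G`. -/
noncomputable def unitSpan (W : Opens X) :
    Submodule ((ModSite.ringSh O_X).obj.obj (op W)) (ModSite.sect (pl f c G) W) :=
  Submodule.span _ {t | ∃ (V : Opens Y) (h : W ≤ (Opens.map f).obj V) (g : ModSite.sect G V),
    t = res (pl f c G) h (un f c G V g)}

lemma unitSpan_res {W W' : Opens X} (h : W' ≤ W) (t : ModSite.sect (pl f c G) W)
    (ht : t ∈ unitSpan f c G W) : res (pl f c G) h t ∈ unitSpan f c G W' := by
  unfold unitSpan at ht ⊢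
  induction ht using Submodule.span_induction with
  | mem x hx =>
    obtain ⟨V, hV, g, rfl⟩ := hx
    rw [res_res]
    exact Submodule.subset_span ⟨V, h.trans hV, g, rfl⟩
  | zero =>
    rw [res_zero]
    exact Submodule.zero_mem _
  | add x y _ _ hx hy =>
    rw [res_add]
    exact Submodule.add_mem _ hx hy
  | smul a x _ hx =>
    rw [res_smul]
    exact Submodule.smul_mem _ _ hx

/-- the subsheaf of the pullback locally generated by the sections coming from `G`. -/
noncomputable def unitSub : SubSh (pl f c G) :=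
  SubSh.ofLocal (pl f c G) (unitSpan f c G) (fun h t ht => unitSpan_res f c G h t ht)

/-- every section of the pullback is locally a combination of sections coming from `G`. -/
theorem mem_unitSub (W : Opens X) (t : ModSite.sect (pl f c G) W) :
    t ∈ (unitSub f c G).N W := by
  apply SubSh.mem_of_π_eq_zero'
  have h1 : (rm f c).adj.homEquiv G _ (cokernel.π (unitSub f c G).ι) = 0 := by
    rw [Adjunction.homEquiv_unit]
    apply SheafOfModules.hom_ext
    apply PresheafOfModules.hom_ext
    intro V'
    obtain ⟨V⟩ := V'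
    apply ModuleCat.hom_ext
    apply LinearMap.ext
    intro g
    have h2 : un f c G V g ∈ (unitSub f c G).N ((Opens.map f).obj V) := by
      intro x hx
      refine ⟨_, le_rfl, hx, ?_⟩
      rw [res_self]
      exact Submodule.subset_span ⟨V, le_rfl, g, (res_self _ _ _).symm⟩
    obtain ⟨a, ha⟩ := ((unitSub f c G).mem_iff _ _).mp h2
    have h3 : (cokernel.π (unitSub f c G).ι).val.app (op ((Opens.map f).obj V))
        (un f c G V g) = 0 := by
      rw [← ha]
      change ((unitSub f c G).ι ≫ cokernel.π (unitSub f c G).ι).val.app _ a = 0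
      rw [cokernel.condition]
      rfl
    exact h3
  have h4 : (rm f c).adj.homEquiv G _ (cokernel.π (unitSub f c G).ι) =
      (rm f c).adj.homEquiv G _ 0 := by
    rw [h1, Adjunction.homEquiv_unit, Functor.map_zero, comp_zero]
  exact ((rm f c).adj.homEquiv G _).injective h4

/-- the unit maps spans to spans. -/
lemma un_mem_span {V V'' : Opens Y} (hV'' : V'' ≤ V) {ι : Type u} (s : ι → ModSite.sect G V)
    (m : ModSite.sect G V'')
    (hm : m ∈ Submodule.span ((ModSite.ringSh O_Y).obj.obj (op V''))
      (Set.range fun j => res G hV'' (s j))) :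
    un f c G V'' m ∈ Submodule.span ((ModSite.ringSh O_X).obj.obj (op ((Opens.map f).obj V'')))
      (Set.range fun j => res (pl f c G) (preim_le f hV'') (un f c G V (s j))) := by
  induction hm using Submodule.span_induction with
  | mem x hx =>
    obtain ⟨j, rfl⟩ := hx
    change un f c G V'' (res G hV'' (s j)) ∈ _
    rw [un_res]
    exact Submodule.subset_span ⟨j, rfl⟩
  | zero =>
    rw [un_zero]
    exact Submodule.zero_mem _
  | add x y _ _ hx hy =>
    rw [un_add]
    exact Submodule.add_mem _ hx hy
  | smul a x _ hx =>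
    rw [un_smul]
    exact Submodule.smul_mem _ _ hx

/-- a combination of sections coming from `G` is, near a point over `V`, a combination of the
images of generators of `G` over `V`. -/
lemma exists_nbhd_mem_span (V : Opens Y) {ι : Type u} (s : ι → ModSite.sect G V)
    (hs : LocSpan G V s) (W₁ : Opens X) (hW₁ : W₁ ≤ (Opens.map f).obj V) (x : X) (hx : x ∈ W₁)
    (t' : ModSite.sect (pl f c G) W₁) (ht' : t' ∈ unitSpan f c G W₁) :
    ∃ (W₂ : Opens X) (h₂ : W₂ ≤ W₁), x ∈ W₂ ∧
      res (pl f c G) h₂ t' ∈ Submodule.span ((ModSite.ringSh O_X).obj.obj (op W₂))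
        (Set.range fun j => res (pl f c G) (h₂.trans hW₁) (un f c G V (s j))) := by
  unfold unitSpan at ht'
  induction ht' using Submodule.span_induction with
  | mem y hy =>
    obtain ⟨V', hV', g, rfl⟩ := hy
    have hfx : f x ∈ V' ⊓ V := ⟨hV' hx, hW₁ hx⟩
    obtain ⟨V'', hV'', hfxV'', hmem⟩ :=
      hs (V' ⊓ V) inf_le_right (res G inf_le_left g) (f x) hfx
    have h1 := un_mem_span f c G (hV''.trans inf_le_right) s _ hmem
    rw [res_res, un_res] at h1
    have hW₂ : W₁ ⊓ (Opens.map f).obj V'' ≤ (Opens.map f).obj V'' := inf_le_right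
    have h2 := res_mem_span (pl f c G) (preim_le f (hV''.trans inf_le_right)) hW₂
      (fun j => un f c G V (s j)) _ h1
    rw [res_res] at h2
    refine ⟨W₁ ⊓ (Opens.map f).obj V'', inf_le_left, ⟨hx, hfxV''⟩, ?_⟩
    rw [res_res]
    exact h2
  | zero =>
    refine ⟨W₁, le_rfl, hx, ?_⟩
    rw [res_zero]
    exact Submodule.zero_mem _
  | add a b _ _ ha hb =>
    obtain ⟨Wa, hWa, hxa, ma⟩ := ha
    obtain ⟨Wb, hWb, hxb, mb⟩ := hb
    have ha' := res_mem_span (pl f c G) (hWa.trans hW₁) (inf_le_left : Wa ⊓ Wb ≤ Wa)
      (fun j => un f c G V (s j)) _ ma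
    have hb' := res_mem_span (pl f c G) (hWb.trans hW₁) (inf_le_right : Wa ⊓ Wb ≤ Wb)
      (fun j => un f c G V (s j)) _ mb
    rw [res_res] at ha' hb'
    refine ⟨Wa ⊓ Wb, inf_le_left.trans hWa, ⟨hxa, hxb⟩, ?_⟩
    rw [res_add]
    exact Submodule.add_mem _ ha' hb'
  | smul r a _ ha =>
    obtain ⟨Wa, hWa, hxa, ma⟩ := ha
    refine ⟨Wa, hWa, hxa, ?_⟩
    rw [res_smul]
    exact Submodule.smul_mem _ _ ma

/-- generators of `G` over `V` give generators of the pullback over the preimage of `V`. -/
theorem locSpan_pull (V : Opens Y) {ι : Type u} (s : ι → ModSite.sect G V)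
    (hs : LocSpan G V s) :
    LocSpan (pl f c G) ((Opens.map f).obj V) (fun j => un f c G V (s j)) := by
  intro W hW t x hx
  obtain ⟨W₁, hW₁, hxW₁, hmem⟩ := mem_unitSub f c G W t x hx
  obtain ⟨W₂, h₂, hxW₂, h3⟩ :=
    exists_nbhd_mem_span f c G V s hs W₁ (hW₁.trans hW) x hxW₁ _ hmem
  refine ⟨W₂, h₂.trans hW₁, hxW₂, ?_⟩
  rw [res_res] at h3
  exact h3

/-- the pullback of a module locally generated by sections is locally generated by
sections. -/
theorem exists_localGeneratorsData_pull
    (σ : SheafOfModules.LocalGeneratorsData.{u} (R := ModSite.ringSh O_Y) G) :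
    Nonempty (SheafOfModules.LocalGeneratorsData.{u} (R := ModSite.ringSh O_X) (pl f c G)) := by
  have hcov : (Opens.grothendieckTopology X).CoversTop
      (fun i : σ.I => (Opens.map f).obj (σ.X i)) := by
    intro W x hx
    obtain ⟨V, g, ⟨i, ⟨h⟩⟩, hfxV⟩ := σ.coversTop ⊤ (f x) trivial
    exact ⟨W ⊓ (Opens.map f).obj (σ.X i), homOfLE inf_le_left,
      ⟨i, ⟨homOfLE inf_le_right⟩⟩, ⟨hx, leOfHom h hfxV⟩⟩
  exact ⟨{ I := σ.I
           X := fun i => (Opens.map f).obj (σ.X i)
           coversTop := hcov
           generators := fun i =>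
            { I := (σ.generators i).I
              s := fun j => secOver (pl f c G) ((Opens.map f).obj (σ.X i))
                (un f c G (σ.X i) (evalId G (σ.X i) ((σ.generators i).s j)))
              epi := epi_of_locSpan (pl f c G) ((Opens.map f).obj (σ.X i)) _
                (locSpan_pull f c G (σ.X i) _
                  (locSpan_of_epi G (σ.X i) (σ.generators i).s (σ.generators i).epi)) } }⟩

end Pull

end Groth.Agent.LD.RSp
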