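import Groth.Agent.Lib.Lead.RSp.LocBasis
import Mathlib.Algebra.Category.ModuleCat.Presheaf.Submodule

/-! # Subsheaves of a sheaf of modules on a general (small) site, given by families of submodules
of sections which are stable under restriction and local for the topology. -/

universe u
open CategoryTheory Limits Opposite

namespace Groth.Agent.LD.RSp

variable {C : Type u} [SmallCategory C] {J : GrothendieckTopology C} {R : Sheaf J RingCat.{u}}

/-- a subsheaf of `F`, as a family of submodules of sections, stable under restriction and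
local. -/
structure SiteSub (F : SheafOfModules.{u} R) where
  N : ∀ W : C, Submodule (R.obj.obj (op W)) (F.val.obj (op W))
  res_mem : ∀ {W W' : C} (h : W' ⟶ W) (s : F.val.obj (op W)), s ∈ N W → rs F h s ∈ N W'
  loc_mem : ∀ (W : C) (s : F.val.obj (op W)) (T : Sieve W), T ∈ J W →
    (∀ ⦃V : C⦄ (g : V ⟶ W), T g → rs F g s ∈ N V) → s ∈ N W

namespace SiteSub
variable {F : SheafOfModules.{u} R} (S : SiteSub F)

/-- the associated Mathlib submodule of the presheaf of modules. -/
def toSub : PresheafOfModules.Submodule F.val where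
  obj W := S.N W.unop
  map {W W'} f := fun s hs => S.res_mem f.unop s hs

lemma isSheaf_forget (F : SheafOfModules.{u} R) :
    Presieve.IsSheaf J (F.val.presheaf ⋙ forget AddCommGrpCat.{u}) := by
  rw [← isSheaf_iff_isSheaf_of_type,
    ← Presheaf.isSheaf_iff_isSheaf_forget J _ (forget AddCommGrpCat.{u})]
  exact F.isSheaf

theorem isSheaf_toSub : Presheaf.IsSheaf J S.toSub.toPresheafOfModules.presheaf := by
  rw [Presheaf.isSheaf_iff_isSheaf_forget J _ (forget AddCommGrpCat.{u}),
    isSheaf_iff_isSheaf_of_type]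
  have hF := isSheaf_forget F
  intro W T hT x hx
  let y : Presieve.FamilyOfElements (F.val.presheaf ⋙ forget AddCommGrpCat.{u}) T.arrows :=
    fun V f hf => ((show S.N V from x f hf) : F.val.obj (op V))
  have hy : y.Compatible := by
    intro V₁ V₂ Z g₁ g₂ f₁ f₂ h₁ h₂ e
    have h := hx g₁ g₂ h₁ h₂ e
    exact congrArg (fun t : S.N Z => (t : F.val.obj (op Z))) h
  obtain ⟨s, hs, hsu⟩ := hF T hT y hy
  have hs' : ∀ ⦃V : C⦄ (g : V ⟶ W) (hg : T g), rs F g s = y g hg := fun V g hg => hs g hg
  have hsN : (show F.val.obj (op W) from s) ∈ S.N W := by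
    apply S.loc_mem W _ T hT
    intro V g hg
    rw [hs' g hg]
    exact (show S.N V from x g hg).2
  refine ⟨(show S.N W from ⟨s, hsN⟩), ?_, ?_⟩
  · intro V g hg
    apply Subtype.ext
    exact hs g hg
  · intro t ht
    apply Subtype.ext
    apply hsu
    intro V g hg
    exact congrArg (fun t : S.N V => (t : F.val.obj (op V))) (ht g hg)

/-- the associated module. -/
noncomputable def toModules : SheafOfModules.{u} R where
  val := S.toSub.toPresheafOfModules
  isSheaf := S.isSheaf_toSub

/-- the inclusion. -/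
noncomputable def ι : S.toModules ⟶ F := ⟨S.toSub.ι⟩

instance : Mono S.ι := by
  apply mono_of_injective
  intro W a b hab
  exact Subtype.ext hab

lemma mem_iff (W : C) (s : F.val.obj (op W)) :
    s ∈ S.N W ↔ ∃ t : S.toModules.val.obj (op W), (S.ι).val.app (op W) t = s := by
  constructor
  · intro hs
    exact ⟨(show S.toModules.val.obj (op W) from (⟨s, hs⟩ : S.N W)), rfl⟩
  · rintro ⟨t, rfl⟩
    exact (show S.N W from t).2

end SiteSub

/-- the subsheaf of sections lying locally in a family of submodules stable under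
restriction. -/
def SiteSub.ofLocal (F : SheafOfModules.{u} R)
    (N₀ : ∀ W : C, Submodule (R.obj.obj (op W)) (F.val.obj (op W)))
    (h₀ : ∀ {W W' : C} (h : W' ⟶ W) (s : F.val.obj (op W)), s ∈ N₀ W → rs F h s ∈ N₀ W') :
    SiteSub F where
  N W :=
    { carrier := {s | ∃ T ∈ J W, ∀ ⦃V : C⦄ (g : V ⟶ W), T g → rs F g s ∈ N₀ V}
      zero_mem' := by
        refine ⟨⊤, J.top_mem W, fun V g _ => ?_⟩
        rw [rs_zero]
        exact (N₀ V).zero_mem
      add_mem' := by
        rintro s₁ s₂ ⟨T₁, hT₁, h₁⟩ ⟨T₂, hT₂, h₂⟩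
        refine ⟨T₁ ⊓ T₂, J.intersection_covering hT₁ hT₂, fun V g hg => ?_⟩
        rw [rs_add]
        exact (N₀ V).add_mem (h₁ g hg.1) (h₂ g hg.2)
      smul_mem' := by
        rintro r s ⟨T, hT, h⟩
        refine ⟨T, hT, fun V g hg => ?_⟩
        rw [rs_smul]
        exact (N₀ V).smul_mem _ (h g hg) }
  res_mem {W W'} h s := by
    rintro ⟨T, hT, hs⟩
    refine ⟨T.pullback h, J.pullback_stable h hT, fun V g hg => ?_⟩
    rw [rs_rs]
    exact hs (g ≫ h) hg
  loc_mem W s T hT hs := by
    have hs' : ∀ ⦃V : C⦄ (g : V ⟶ W), T g → ∃ T' : Sieve V, T' ∈ J V ∧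
        ∀ ⦃Z : C⦄ (k : Z ⟶ V), T' k → rs F k (rs F g s) ∈ N₀ Z := fun V g hg => by
      obtain ⟨T', hT', h'⟩ := hs g hg
      exact ⟨T', hT', h'⟩
    choose T' hT' h' using hs'
    refine ⟨Sieve.bind T.arrows (fun V g hg => T' g hg),
      J.bind_covering hT (fun V g hg => hT' g hg), ?_⟩
    rintro Z k ⟨V, a, g, hg, ha, rfl⟩
    have := h' g hg a ha
    rw [rs_rs] at this
    exact this

lemma SiteSub.mem_ofLocal (F : SheafOfModules.{u} R)
    (N₀ : ∀ W : C, Submodule (R.obj.obj (op W)) (F.val.obj (op W)))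
    (h₀ : ∀ {W W' : C} (h : W' ⟶ W) (s : F.val.obj (op W)), s ∈ N₀ W → rs F h s ∈ N₀ W')
    (W : C) (s : F.val.obj (op W)) :
    s ∈ (SiteSub.ofLocal F N₀ h₀).N W ↔
      ∃ T ∈ J W, ∀ ⦃V : C⦄ (g : V ⟶ W), T g → rs F g s ∈ N₀ V := Iff.rfl

/-- a subsheaf of a colimit containing the images of all the legs is everything. -/
theorem SiteSub.mem_of_isColimit {K : Type*} [Category K] {D : K ⥤ SheafOfModules.{u} R}
    (c : Cocone D) (hc : IsColimit c) (S : SiteSub c.pt)
    (h : ∀ (j : K) (W : C) (t : (D.obj j).val.obj (op W)),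
      (c.ι.app j).val.app (op W) t ∈ S.N W)
    (W : C) (s : c.pt.val.obj (op W)) : s ∈ S.N W := by
  let q := cokernel.π S.ι
  have h0 : ∀ j, c.ι.app j ≫ q = 0 := by
    intro j
    apply SheafOfModules.hom_ext
    apply PresheafOfModules.hom_ext
    intro Y
    obtain ⟨V⟩ := Y
    apply ModuleCat.hom_ext
    apply LinearMap.ext
    intro t
    obtain ⟨t', ht'⟩ := (S.mem_iff V _).mp (h j V t)
    have h1 : q.val.app (op V) (S.ι.val.app (op V) t') = 0 := by
      change (S.ι ≫ q).val.app (op V) t' = 0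
      rw [cokernel.condition]
      rfl
    rw [ht'] at h1
    exact h1
  have hq : q = 0 := hc.hom_ext (fun j => by
    rw [comp_zero]
    exact h0 j)
  haveI : Epi S.ι := Preadditive.epi_of_cokernel_zero hq
  haveI : IsIso S.ι := isIso_of_mono_of_epi S.ι
  exact (S.mem_iff W s).mpr
    ⟨evAt _ _ W (asIso S.ι).inv s, evAt_inv_hom (asIso S.ι) W s⟩

end Groth.Agent.LD.RSp
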