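import Groth.Agent.Lib.Lead.RSp.Sky

/-! # Skyscraper modules on a ringed space: morphisms into them, injectivity, cogeneration,
pushforward; pullback along a morphism with flat stalk maps is exact. -/

universe u
open CategoryTheory Limits Opposite TopologicalSpace

noncomputable section

namespace Groth.Agent.LD.RSp.Sky

section Maps
variable {X : TopCat.{u}} {O : TopCat.Sheaf CommRingCat.{u} X} {x : X} {E : Type u}
  [AddCommGroup E] [Module (Ox O x) E]

/-- a linear map out of the stalk defines a morphism into the skyscraper module. -/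
theorem exists_toSky (F : ModSite.Mod O) (ℓ : St F x →ₗ[Ox O x] E) :
    ∃ g : F ⟶ sky O x E, ∀ (U : Opens X) (s : ModSite.sect F U) (hx : x ∈ U),
      toE O x E (g.val.app (op U) s) hx = ℓ (gM F x U hx s) := by
  obtain ⟨g, hg⟩ := exists_hom_of_small F (sky O x E) (fun _ => True) (fun _ _ => trivial)
    (fun y => ⟨⊤, trivial, Opens.mem_top y⟩)
    (fun V _ t => mkS O x E (fun hx => ℓ (gM F x V hx t)))
    (fun V _ t t' => by
      apply toE_ext
      intro hx
      rw [toE_add, toE_mkS, toE_mkS, toE_mkS, map_add, map_add])
    (fun V _ a t => by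
      apply toE_ext
      intro hx
      rw [toE_smul, toE_mkS, toE_mkS, gM_smul, map_smul])
    (fun V _ W hW t => by
      apply toE_ext
      intro hx
      rw [toE_res, toE_mkS, toE_mkS]
      exact congrArg ℓ (gM_res x F hW hx (hW hx) t).symm)
  exact ⟨g, fun U s hx => by rw [hg U trivial s, toE_mkS]⟩

/-- the cocone computing the linear map attached to a morphism into the skyscraper module. -/
def cocone (F : ModSite.Mod O) (g : F ⟶ sky O x E) :
    Cocone ((OpenNhds.inclusion x).op ⋙ (pm F).presheaf) where
  pt := AddCommGrpCat.of E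
  ι :=
    { app := fun U => AddCommGrpCat.ofHom
        { toFun := fun s => toE O x E (g.val.app (op U.unop.1) s) U.unop.2
          map_zero' :=
            congrArg (fun t => toE O x E t U.unop.2) (map_zero (g.val.app (op U.unop.1)).hom)
          map_add' := fun s t =>
            congrArg (fun t => toE O x E t U.unop.2) (map_add (g.val.app (op U.unop.1)).hom s t) }
      naturality := fun U V j => by
        refine AddCommGrpCat.hom_ext (AddMonoidHom.ext fun s => ?_)
        show toE O x E (g.val.app (op V.unop.1) (res F (leOfHom j.unop) s)) V.unop.2 =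
          toE O x E (g.val.app (op U.unop.1) s) U.unop.2
        rw [app_res, toE_res] }

/-- the additive map out of the stalk attached to a morphism into the skyscraper module. -/
def ofSkyAdd (F : ModSite.Mod O) (g : F ⟶ sky O x E) : St F x →+ E :=
  (colimit.desc ((OpenNhds.inclusion x).op ⋙ (pm F).presheaf) (cocone F g)).hom

lemma ofSkyAdd_gM (F : ModSite.Mod O) (g : F ⟶ sky O x E) (U : Opens X) (hx : x ∈ U)
    (s : ModSite.sect F U) :
    ofSkyAdd F g (gM F x U hx s) = toE O x E (g.val.app (op U) s) hx := by
  have h := colimit.ι_desc (cocone F g) (op (⟨U, hx⟩ : OpenNhds x))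
  exact congrArg (fun k => k.hom s) h

/-- the linear map out of the stalk attached to a morphism into the skyscraper module. -/
def ofSky (F : ModSite.Mod O) (g : F ⟶ sky O x E) : St F x →ₗ[Ox O x] E where
  toFun := ofSkyAdd F g
  map_add' := map_add _
  map_smul' := by
    intro r m
    obtain ⟨W, hW, b, s, rfl, rfl⟩ := exists_common x F r m
    show ofSkyAdd F g (gR O x W hW b • gM F x W hW s) =
      gR O x W hW b • ofSkyAdd F g (gM F x W hW s)
    rw [← gM_smul, ofSkyAdd_gM, ofSkyAdd_gM, map_smul, toE_smul]

lemma ofSky_gM (F : ModSite.Mod O) (g : F ⟶ sky O x E) (U : Opens X) (hx : x ∈ U)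
    (s : ModSite.sect F U) :
    ofSky F g (gM F x U hx s) = toE O x E (g.val.app (op U) s) hx := ofSkyAdd_gM F g U hx s

variable (O x E) in
/-- the skyscraper module of an injective module is an injective object. -/
theorem injective_sky [Module.Injective (Ox O x) E] : Injective (sky O x E) := by
  constructor
  intro F' F g' a _
  obtain ⟨ℓ, hℓ⟩ := Module.Injective.out (R := Ox O x) (Q := E) (stLin a x)
    (stLin_injective x a) (ofSky F' g')
  obtain ⟨g, hg⟩ := exists_toSky F ℓ
  refine ⟨g, ?_⟩
  apply hom_ext'
  intro W s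
  apply toE_ext
  intro hx
  show toE O x E (g.val.app (op W) (a.val.app (op W) s)) hx = toE O x E (g'.val.app (op W) s) hx
  rw [hg W _ hx, ← stLin_gM x a W hx s, hℓ, ofSky_gM]

end Maps

section Cogen
variable {X : TopCat.{u}} {O : TopCat.Sheaf CommRingCat.{u} X}

/-- a non-zero morphism stays non-zero after composition with a morphism to the skyscraper
module of an injective module. -/
theorem exists_sky_ne_zero {K N : ModSite.Mod O} (k : K ⟶ N) (hk : k ≠ 0) :
    ∃ (x : X) (E : Type u) (_ : AddCommGroup E) (_ : Module (Ox O x) E)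
      (_ : Module.Injective (Ox O x) E) (g : N ⟶ sky O x E), k ≫ g ≠ 0 := by
  have h1 : ∃ (U : Opens X) (s : ModSite.sect K U), k.val.app (op U) s ≠ 0 := by
    by_contra hcon
    push Not at hcon
    apply hk
    apply hom_ext'
    intro W s
    exact hcon W s
  obtain ⟨U, s, hs⟩ := h1
  have h2 : ∃ (x : X) (hx : x ∈ U), gM N x U hx (k.val.app (op U) s) ≠ 0 := by
    by_contra hcon
    push Not at hcon
    apply hs
    apply eq_of_locally N U _ 0
    intro y hy
    have h3 : gM N y U hy (k.val.app (op U) s) = gM N y U hy 0 := by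
      rw [hcon y hy, map_zero]
    obtain ⟨W, hW, hWU, _, e⟩ := gM_eq y N hy hy _ _ h3
    exact ⟨W, hWU, hW, e⟩
  obtain ⟨x, hx, hne⟩ := h2
  let M₀ : ModuleCat.{u} (Ox O x) := ModuleCat.of (Ox O x) (St N x)
  have hinj : Function.Injective (Injective.ι M₀).hom :=
    (ModuleCat.mono_iff_injective (Injective.ι M₀)).mp inferInstance
  haveI hI : Module.Injective (Ox O x) ↑(Injective.under M₀) :=
    @Module.injective_module_of_injective_object (Ox O x) ↑(Injective.under M₀) _ _ _
      (show Injective (ModuleCat.of (Ox O x) ↑(Injective.under M₀)) from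
        (inferInstance : Injective (Injective.under M₀)))
  obtain ⟨g, hg⟩ := exists_toSky (E := ↑(Injective.under M₀)) N (Injective.ι M₀).hom
  refine ⟨x, ↑(Injective.under M₀), inferInstance, inferInstance, hI, g, ?_⟩
  intro h0
  apply hne
  apply hinj
  rw [map_zero]
  have h5 : (k ≫ g).val.app (op U) s = 0 := by
    rw [h0]
    rfl
  rw [← hg U _ hx]
  exact congrArg (fun t => toE O x ↑(Injective.under M₀) t hx) h5

end Cogen

end Groth.Agent.LD.RSp.Sky
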