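import Groth.Agent.Lib.Lead.RSp.SkyInj
import Groth.Prelude.Def_ModSite2

/-! # Pullback of modules along a morphism of ringed spaces with flat stalk maps is exact. -/

universe u
open CategoryTheory Limits Opposite TopologicalSpace

noncomputable section

namespace Groth.Agent.LD.RSp.Sky

section Push
variable {X Y : TopCat.{u}} (f : X ⟶ Y) {O_X : TopCat.Sheaf CommRingCat.{u} X}
  {O_Y : TopCat.Sheaf CommRingCat.{u} Y}
  (c : O_Y ⟶ ((Opens.map f).sheafPushforwardContinuous CommRingCat.{u}
    (Opens.grothendieckTopology Y) (Opens.grothendieckTopology X)).obj O_X)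

/-- the map on stalks of the structure sheaves. -/
def stalkHom (x : X) : Ox O_Y (f x) →+* Ox O_X x :=
  ((TopCat.Presheaf.stalkFunctor CommRingCat.{u} (f x)).map
        (show O_Y.presheaf ⟶ (TopCat.Presheaf.pushforward CommRingCat.{u} f).obj O_X.presheaf
          from c.hom) ≫
      TopCat.Presheaf.stalkPushforward CommRingCat.{u} f O_X.presheaf x).hom

lemma stalkHom_gR (x : X) (V : Opens Y) (h : f x ∈ V)
    (r : (ModSite.ringSh O_Y).obj.obj (op V)) :
    stalkHom f c x (gR O_Y (f x) V h r) = gR O_X x ((Opens.map f).obj V) h (sh f c V r) := by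
  have h1 := TopCat.Presheaf.stalkFunctor_map_germ_apply V (f x) h
    (show O_Y.presheaf ⟶ (TopCat.Presheaf.pushforward CommRingCat.{u} f).obj O_X.presheaf
      from c.hom) r
  have h2 := TopCat.Presheaf.stalkPushforward_germ CommRingCat.{u} f O_X.presheaf V x h
  have h3 := congrArg (fun k => k.hom (sh f c V r)) h2
  exact (congrArg
    (fun z => (TopCat.Presheaf.stalkPushforward CommRingCat.{u} f O_X.presheaf x).hom z) h1).trans
    h3

/-- the pushforward of the skyscraper module of an injective module has the extension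
property, when the stalk maps are flat. -/
theorem push_sky_injective (hflat : ∀ x : X, (stalkHom f c x).Flat) (x : X) (E : Type u)
    [AddCommGroup E] [Module (Ox O_X x) E] [Module.Injective (Ox O_X x) E]
    {M' M : ModSite.Mod O_Y} (a : M' ⟶ M) [Mono a]
    (g : M' ⟶ (rm f c).push.obj (sky O_X x E)) :
    ∃ e : M ⟶ (rm f c).push.obj (sky O_X x E), a ≫ e = g := by
  letI : Module (Ox O_Y (f x)) E := Module.compHom E (stalkHom f c x)
  haveI : Module.Injective (Ox O_Y (f x)) E :=
    SkyAbs.injective_of_flat (stalkHom f c x) (hflat x) E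
  haveI : Injective (sky O_Y (f x) E) := injective_sky O_Y (f x) E
  obtain ⟨α, hα⟩ := exists_hom_of_small ((rm f c).push.obj (sky O_X x E)) (sky O_Y (f x) E)
    (fun _ => True) (fun _ _ => trivial) (fun y => ⟨⊤, trivial, Opens.mem_top y⟩)
    (fun V _ t => mkS O_Y (f x) E
      (fun h => toE O_X x E (ofP f c (sky O_X x E) V t) h))
    (fun V _ t t' => by
      apply toE_ext
      intro h
      rw [toE_add, toE_mkS, toE_mkS, toE_mkS, map_add, toE_add])
    (fun V _ b t => by
      apply toE_ext
      intro h
      rw [toE_smul, toE_mkS, toE_mkS, ofP_smul, toE_smul, ← stalkHom_gR]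
      rfl)
    (fun V _ W hW t => by
      apply toE_ext
      intro h
      rw [toE_res, toE_mkS, toE_mkS, ofP_res, toE_res])
  obtain ⟨β, hβ⟩ := exists_hom_of_small (sky O_Y (f x) E) ((rm f c).push.obj (sky O_X x E))
    (fun _ => True) (fun _ _ => trivial) (fun y => ⟨⊤, trivial, Opens.mem_top y⟩)
    (fun V _ t => (ofP f c (sky O_X x E) V).symm
      (mkS O_X x E (fun h => toE O_Y (f x) E t h)))
    (fun V _ t t' => by
      apply (ofP f c (sky O_X x E) V).injective
      rw [map_add, AddEquiv.apply_symm_apply, AddEquiv.apply_symm_apply,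
        AddEquiv.apply_symm_apply]
      apply toE_ext
      intro h
      rw [toE_add, toE_mkS, toE_mkS, toE_mkS, toE_add])
    (fun V _ b t => by
      apply (ofP f c (sky O_X x E) V).injective
      rw [ofP_smul, AddEquiv.apply_symm_apply, AddEquiv.apply_symm_apply]
      apply toE_ext
      intro h
      rw [toE_smul, toE_mkS, toE_mkS, toE_smul, ← stalkHom_gR]
      rfl)
    (fun V _ W hW t => by
      apply (ofP f c (sky O_X x E) W).injective
      rw [ofP_res, AddEquiv.apply_symm_apply, AddEquiv.apply_symm_apply]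
      apply toE_ext
      intro h
      rw [toE_res, toE_mkS, toE_mkS, toE_res])
  have hαβ : α ≫ β = 𝟙 _ := by
    apply hom_ext'
    intro V t
    show β.val.app (op V) (α.val.app (op V) t) = t
    rw [hα V trivial, hβ V trivial]
    exact (ofP f c (sky O_X x E) V).symm_apply_apply t
  refine ⟨Injective.factorThru (g ≫ α) a ≫ β, ?_⟩
  rw [← Category.assoc, Injective.comp_factorThru, Category.assoc, hαβ, Category.comp_id]

/-- pullback of modules along a morphism of ringed spaces with flat stalk maps is exact. -/
theorem isFlat_of_stalk_flat (hflat : ∀ x : X, (stalkHom f c x).Flat) :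
    ModSite.RMor.IsFlat (rm f c) := by
  haveI : (rm f c).pull.Additive := (rm f c).adj.left_adjoint_additive
  show PreservesFiniteLimits (rm f c).pull
  exact SkyAbs.preservesFiniteLimits_of_cogen (rm f c).adj
    (fun T => ∃ (x : X) (E : Type u) (_ : AddCommGroup E) (_ : Module (Ox O_X x) E)
      (_ : Module.Injective (Ox O_X x) E), T = sky O_X x E)
    (by
      rintro T ⟨x, E, _, _, _, rfl⟩ M' M a _ g
      exact push_sky_injective f c hflat x E a g)
    (by
      intro K N k hk
      obtain ⟨x, E, i1, i2, i3, g, hg⟩ := exists_sky_ne_zero k hk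
      exact ⟨sky O_X x E, ⟨x, E, i1, i2, i3, rfl⟩, g, hg⟩)

end Push

end Groth.Agent.LD.RSp.Sky
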