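import Groth.Agent.Lib.Lead.RSp.LocBasis
import Groth.Prelude.Def_ModSite2

/-! # Modules on a ringed space: a map onto a module of finite type which is surjective on the
stalk at a point is surjective near the point. -/

universe u
open CategoryTheory Limits Opposite TopologicalSpace

namespace Groth.Agent.LD.RSp

section SliceEpi
variable {C : Type u} [SmallCategory C] {J : GrothendieckTopology C} {R : Sheaf J RingCat.{u}}

/-- a morphism which is locally surjective above `U` restricts to an epimorphism on the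
slice. -/
theorem epi_over_of_locSurj {M N : SheafOfModules.{u} R} (φ : M ⟶ N) (U : C)
    (h : ∀ {V : C} (_ : V ⟶ U) (t : N.val.obj (op V)), ∃ S ∈ J V, ∀ ⦃W : C⦄ (g : W ⟶ V),
      S g → ∃ m : M.val.obj (op W), φ.val.app (op W) m = rs N g t) :
    Epi ((SheafOfModules.overFunctor R U).map φ) := by
  apply epi_of_exists_sieve (J := J.over U) (R := R.over U)
  intro Y t
  obtain ⟨S, hS, hS'⟩ := h Y.hom t
  refine ⟨(Sieve.overEquiv Y).symm S, J.overEquiv_symm_mem_over Y S hS, ?_⟩
  intro Z g hg
  have hg' : S g.left := hg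
  obtain ⟨m, hm⟩ := hS' g.left hg'
  exact ⟨m, hm⟩

end SliceEpi

section TopStalk
variable {X : TopCat.{u}} {O : TopCat.Sheaf CommRingCat.{u} X}

/-- a morphism which is locally surjective over `U` restricts to an epimorphism over `U`. -/
theorem epi_restr_of_locSurj {G F : ModSite.Mod O} (φ : G ⟶ F) (U : Opens X)
    (h : ∀ (V : Opens X) (_ : V ≤ U) (t : ModSite.sect F V) (y : X), y ∈ V →
      ∃ (W : Opens X) (hW : W ≤ V), y ∈ W ∧
        ∃ m : ModSite.sect G W, φ.val.app (op W) m = res F hW t) :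
    Epi ((ModSite.restr O U).map φ) := by
  have h1 : Epi ((SheafOfModules.overFunctor (ModSite.ringSh O) U).map φ) := by
    apply epi_over_of_locSurj φ U
    intro V f t
    refine ⟨Presheaf.imageSieve
      ((PresheafOfModules.toPresheaf (ModSite.ringSh O).obj).map φ.val) t, ?_, ?_⟩
    · intro y hy
      obtain ⟨W, hW, hyW, m, hm⟩ := h V (leOfHom f) t y hy
      exact ⟨W, homOfLE hW, ⟨m, hm⟩, hyW⟩
    · rintro W g ⟨m, hm⟩
      exact ⟨m, hm⟩
  exact h1

lemma germ_res' (F : ModSite.Mod O) (x : X) {U W : Opens X} (h : W ≤ U)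
    (w : (Opens.pointGrothendieckTopology x).fiber.obj W)
    (y : (Opens.pointGrothendieckTopology x).fiber.obj U) (s : ModSite.sect F U) :
    ModSite.germ (Opens.pointGrothendieckTopology x) F W w (res F h s) =
      ModSite.germ (Opens.pointGrothendieckTopology x) F U y s := by
  have h1 := (Opens.pointGrothendieckTopology x).toPresheafFiber_w_apply (homOfLE h) w
    (ModSite.toAb F).obj s
  have h2 : (Opens.pointGrothendieckTopology x).fiber.map (homOfLE h) w = y :=
    Subsingleton.elim _ _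
  rw [h2] at h1
  exact h1

/-- sections with the same germ at `x` agree near `x`. -/
lemma exists_eq_of_germ_eq (F : ModSite.Mod O) (x : X) {U₁ U₂ : Opens X}
    (y₁ : (Opens.pointGrothendieckTopology x).fiber.obj U₁)
    (y₂ : (Opens.pointGrothendieckTopology x).fiber.obj U₂)
    (s₁ : ModSite.sect F U₁) (s₂ : ModSite.sect F U₂)
    (h : ModSite.germ (Opens.pointGrothendieckTopology x) F U₁ y₁ s₁ =
      ModSite.germ (Opens.pointGrothendieckTopology x) F U₂ y₂ s₂) :
    ∃ (W : Opens X) (hW₁ : W ≤ U₁) (hW₂ : W ≤ U₂), x ∈ W ∧ res F hW₁ s₁ = res F hW₂ s₂ := by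
  have hx₁ : x ∈ U₁ := PLift.down (ULift.down y₁)
  have hx₂ : x ∈ U₂ := PLift.down (ULift.down y₂)
  let w : (Opens.pointGrothendieckTopology x).fiber.obj (U₁ ⊓ U₂) := ⟨⟨⟨hx₁, hx₂⟩⟩⟩
  have e : ModSite.germ (Opens.pointGrothendieckTopology x) F (U₁ ⊓ U₂) w
      (res F inf_le_left s₁) =
      ModSite.germ (Opens.pointGrothendieckTopology x) F (U₁ ⊓ U₂) w
        (res F inf_le_right s₂) := by
    rw [germ_res' F x inf_le_left w y₁ s₁, germ_res' F x inf_le_right w y₂ s₂]
    exact h
  obtain ⟨Y, f, y, _, hf⟩ := ((Opens.pointGrothendieckTopology x).toPresheafFiber_eq_iff'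
    (P := (ModSite.toAb F).obj) (U₁ ⊓ U₂) w _ _).mp e
  refine ⟨Y, (leOfHom f).trans inf_le_left, (leOfHom f).trans inf_le_right,
    PLift.down (ULift.down y), ?_⟩
  rw [← res_res F inf_le_left (leOfHom f), ← res_res F inf_le_right (leOfHom f)]
  exact hf

/-- if `φ` is surjective on stalks at `x`, sections of the target lift near `x`. -/
theorem exists_local_lift_of_stalk_surj {G F : ModSite.Mod O} (φ : G ⟶ F) (x : X)
    (hx : Function.Surjective (ModSite.stalkMap (Opens.pointGrothendieckTopology x) φ).hom)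
    (U : Opens X) (hxU : x ∈ U) (s : ModSite.sect F U) :
    ∃ (W : Opens X) (hW : W ≤ U), x ∈ W ∧
      ∃ g : ModSite.sect G W, φ.val.app (op W) g = res F hW s := by
  let y₀ : (Opens.pointGrothendieckTopology x).fiber.obj U := ⟨⟨hxU⟩⟩
  obtain ⟨γ, hγ⟩ := hx (ModSite.germ (Opens.pointGrothendieckTopology x) F U y₀ s)
  obtain ⟨Y, y, g, hg⟩ := (Opens.pointGrothendieckTopology x).toPresheafFiber_jointly_surjective
    (P := (ModSite.toAb G).obj) γ
  have hnat : (ModSite.stalkMap (Opens.pointGrothendieckTopology x) φ).hom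
      (ModSite.germ (Opens.pointGrothendieckTopology x) G Y y g) =
      ModSite.germ (Opens.pointGrothendieckTopology x) F Y y (φ.val.app (op Y) g) :=
    (Opens.pointGrothendieckTopology x).toPresheafFiber_naturality_apply
      ((SheafOfModules.toSheaf (ModSite.ringSh O)).map φ).hom Y y g
  have hg' : ModSite.germ (Opens.pointGrothendieckTopology x) G Y y g = γ := hg
  have h3 : ModSite.germ (Opens.pointGrothendieckTopology x) F U y₀ s =
      ModSite.germ (Opens.pointGrothendieckTopology x) F Y y (φ.val.app (op Y) g) :=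
    hγ.symm.trans ((congrArg
      (fun z => (ModSite.stalkMap (Opens.pointGrothendieckTopology x) φ).hom z) hg').symm.trans
      hnat)
  obtain ⟨W, hW₁, hW₂, hxW, hW⟩ := exists_eq_of_germ_eq F x y₀ y s (φ.val.app (op Y) g) h3
  refine ⟨W, hW₁, hxW, res G hW₂ g, ?_⟩
  rw [app_res, hW]

/-- a map onto a module of finite type which is surjective on the stalk at `x` is surjective
over a neighbourhood of `x`. -/
theorem exists_epi_restr_of_stalk_surj {G F : ModSite.Mod O} (φ : G ⟶ F)
    [SheafOfModules.IsFiniteType (R := ModSite.ringSh O) F] (x : X)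
    (hx : Function.Surjective (ModSite.stalkMap (Opens.pointGrothendieckTopology x) φ).hom) :
    ∃ U : Opens X, x ∈ U ∧ Epi ((ModSite.restr O U).map φ) := by
  obtain ⟨U₀, hxU₀, ι, _, s, hs⟩ := (isFiniteType_iff F).mp inferInstance x
  obtain ⟨W, hWU, hxW, hW⟩ := exists_common_nbhd x U₀ hxU₀
    (fun i W => ∃ (hW : W ≤ U₀) (g : ModSite.sect G W),
      φ.val.app (op W) g = res F hW (s i))
    (by
      rintro i W W' hW' ⟨hW, g, hg⟩
      exact ⟨hW'.trans hW, res G hW' g, by rw [app_res, hg, res_res]⟩)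
    (by
      intro i
      obtain ⟨W, hW, hxW, g, hg⟩ := exists_local_lift_of_stalk_surj φ x hx U₀ hxU₀ (s i)
      exact ⟨W, hW, hxW, hW, g, hg⟩)
  choose hWU' g hg using hW
  refine ⟨W, hxW, epi_restr_of_locSurj φ W ?_⟩
  intro V hV t y hy
  obtain ⟨V', hV', hyV', r, hr⟩ := hs V (hV.trans hWU) t y hy
  refine ⟨V', hV', hyV', ∑ i, r i • res G (hV'.trans hV) (g i), ?_⟩
  rw [hr, map_sum]
  refine Finset.sum_congr rfl fun i _ => ?_
  rw [map_smul, app_res, hg i, res_res]

end TopStalk

end Groth.Agent.LD.RSp
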