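import Groth.Agent.Lib.Lead.RSp.Frame
import Groth.Agent.Lib.Lead.RSp.Stalk

/-! # A module of finite presentation on a ringed space whose stalk at a point is free of finite
rank is free of that rank near the point. -/

universe u
open CategoryTheory Limits Opposite TopologicalSpace

namespace Groth.Agent.LD.RSp

section Algebra

/-- if `v` expands in `v'` through `B` and `v'` in `v` through `A`, then `B * A - 1` kills
`v`. -/
lemma expansions_combo {S : Type*} [Ring S] {M : Type*} [AddCommGroup M] [Module S M]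
    {I I' : Type*} [Fintype I] [Fintype I'] [DecidableEq I]
    (v : I → M) (v' : I' → M) (B : I → I' → S) (A : I' → I → S)
    (hB : ∀ j, ∑ k, B j k • v' k = v j) (hA : ∀ k, ∑ l, A k l • v l = v' k) (j : I) :
    ∑ l, ((∑ k, B j k * A k l) - (if j = l then 1 else 0)) • v l = 0 := by
  have h1 : ∑ l, (∑ k, B j k * A k l) • v l = v j := by
    calc ∑ l, (∑ k, B j k * A k l) • v l = ∑ l, ∑ k, (B j k * A k l) • v l := by
          simp only [Finset.sum_smul]
      _ = ∑ k, ∑ l, (B j k * A k l) • v l := Finset.sum_comm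
      _ = ∑ k, B j k • ∑ l, A k l • v l := by
          simp only [Finset.smul_sum, smul_smul]
      _ = ∑ k, B j k • v' k := by simp only [hA]
      _ = v j := hB j
  simp only [sub_smul, Finset.sum_sub_distrib, h1, ite_smul, one_smul, zero_smul,
    Finset.sum_ite_eq, Finset.mem_univ, if_true, sub_self]

/-- a relation between the `v'`, which expand in `v` through `A`, gives a relation between
the `v`. -/
lemma relation_combo {S : Type*} [Ring S] {M : Type*} [AddCommGroup M] [Module S M]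
    {I I' : Type*} [Fintype I] [Fintype I']
    (v : I → M) (v' : I' → M) (A : I' → I → S) (hA : ∀ k, ∑ l, A k l • v l = v' k)
    (ρ : I' → S) (hρ : ∑ k, ρ k • v' k = 0) :
    ∑ l, (∑ k, ρ k * A k l) • v l = 0 := by
  calc ∑ l, (∑ k, ρ k * A k l) • v l = ∑ l, ∑ k, (ρ k * A k l) • v l := by
        simp only [Finset.sum_smul]
    _ = ∑ k, ∑ l, (ρ k * A k l) • v l := Finset.sum_comm
    _ = ∑ k, ρ k • ∑ l, A k l • v l := by
        simp only [Finset.smul_sum, smul_smul]
    _ = ∑ k, ρ k • v' k := by simp only [hA]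
    _ = 0 := hρ

/-- if `b * a = 1`, `ρ * a = 0` and `c * b` is a combination of the rows of `ρ`, then
`c = 0`. -/
lemma coeff_eq_zero_of_relations {S : Type*} [Ring S] {ι μ κ : Type*} [Fintype ι] [Fintype μ]
    [Fintype κ] [DecidableEq μ] (c : μ → S) (b : μ → ι → S) (a : ι → μ → S) (ρ : κ → ι → S)
    (d : κ → S) (hba : ∀ m m', ∑ i, b m i * a i m' = if m = m' then 1 else 0)
    (hρa : ∀ k m, ∑ i, ρ k i * a i m = 0)
    (hd : ∀ i, ∑ m, c m * b m i = ∑ k, d k * ρ k i) (m' : μ) : c m' = 0 := by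
  calc c m' = ∑ m, c m * (if m = m' then 1 else 0) := by
        simp only [mul_ite, mul_one, mul_zero, Finset.sum_ite_eq', Finset.mem_univ, if_true]
    _ = ∑ m, c m * ∑ i, b m i * a i m' := by
        refine Finset.sum_congr rfl fun m _ => ?_
        rw [hba m m']
    _ = ∑ i, (∑ m, c m * b m i) * a i m' := by
        simp only [Finset.mul_sum, Finset.sum_mul, mul_assoc]
        rw [Finset.sum_comm]
    _ = ∑ i, (∑ k, d k * ρ k i) * a i m' := by
        refine Finset.sum_congr rfl fun i _ => ?_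
        rw [hd i]
    _ = ∑ k, d k * ∑ i, ρ k i * a i m' := by
        simp only [Finset.mul_sum, Finset.sum_mul, mul_assoc]
        rw [Finset.sum_comm]
    _ = 0 := by
        simp only [hρa, mul_zero, Finset.sum_const_zero]

end Algebra

section TopFrame2
variable {X : TopCat.{u}} {O : TopCat.Sheaf CommRingCat.{u} X}

lemma rr_sum_mul (O : TopCat.Sheaf CommRingCat.{u} X) {V W : Opens X} (h : W ≤ V) {ι : Type*}
    [Fintype ι] (f g : ι → (ModSite.ringSh O).obj.obj (op V)) :
    rr O h (∑ i, f i * g i) = ∑ i, rr O h (f i) * rr O h (g i) := by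
  rw [map_sum]
  exact Finset.sum_congr rfl fun i _ => map_mul _ _ _

lemma rr_ite (O : TopCat.Sheaf CommRingCat.{u} X) {V W : Opens X} (h : W ≤ V) (p : Prop)
    [Decidable p] :
    rr O h (if p then (1 : (ModSite.ringSh O).obj.obj (op V)) else 0) = if p then 1 else 0 := by
  split_ifs
  · exact map_one _
  · exact map_zero _

lemma res_expansion (F : ModSite.Mod O) {U U' : Opens X} (h : U' ≤ U) {ι : Type*} [Fintype ι]
    (t : ModSite.sect F U) (c : ι → (ModSite.ringSh O).obj.obj (op U))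
    (s : ι → ModSite.sect F U) (ht : t = ∑ i, c i • s i) :
    res F h t = ∑ i, rr O h (c i) • res F h (s i) := by
  rw [ht, res_sum]
  exact Finset.sum_congr rfl fun i _ => res_smul F h _ _

/-- functions agreeing locally are equal. -/
theorem ring_eq_of_locally (O : TopCat.Sheaf CommRingCat.{u} X) (V : Opens X)
    (a a' : (ModSite.ringSh O).obj.obj (op V))
    (h : ∀ x : X, x ∈ V → ∃ (W : Opens X) (hW : W ≤ V), x ∈ W ∧ rr O hW a = rr O hW a') :
    a = a' := by
  have h' : ∀ x : X, x ∈ V → ∃ (W : Opens X) (hW : W ≤ V), x ∈ W ∧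
      res (ModSite.unit O) hW (show ModSite.sect (ModSite.unit O) V from a) =
        res (ModSite.unit O) hW (show ModSite.sect (ModSite.unit O) V from a') := h
  exact eq_of_locally (ModSite.unit O) V a a' h'

theorem LocGen.locSpan {F : ModSite.Mod O} {U : Opens X} {ι : Type u} [Fintype ι]
    {s : ι → ModSite.sect F U} (h : LocGen F U s) : LocSpan F U s := by
  intro V hV t x hx
  obtain ⟨W, hW, hxW, r, hr⟩ := h V hV t x hx
  refine ⟨W, hW, hxW, ?_⟩
  rw [hr]
  exact Submodule.sum_mem _ fun i _ =>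
    Submodule.smul_mem _ _ (Submodule.subset_span ⟨i, rfl⟩)

/-- a finite local frame of `F` over `U` trivialises `F` over `U`. -/
theorem iso_of_isLocFrame (F : ModSite.Mod O) (U : Opens X) {ι : Type u} [Fintype ι]
    [DecidableEq ι] (e : ι → ModSite.sect F U) (he : IsLocFrame F U e) :
    Nonempty ((ModSite.restr O U).obj F ≅ SheafOfModules.free ι) := by
  have hepi : Epi ((SheafOfModules.over F U).freeHomEquiv.symm (fun j => secOver F U (e j))) :=
    epi_of_locSpan F U e he.1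
  have hker : ∀ (Y : Over U)
      (z : (SheafOfModules.free (R := (ModSite.ringSh O).over U) ι).val.obj (op Y)),
      evAt _ _ Y ((SheafOfModules.over F U).freeHomEquiv.symm (fun j => secOver F U (e j))) z = 0 →
        z = 0 := by
    intro Y z hz
    have hz0 := eq_sum_coord_bas ((ModSite.ringSh O).over U) ι Y z
    have h2 := freeHom_sum_bas ((ModSite.ringSh O).over U) ι (SheafOfModules.over F U)
      (fun j => secOver F U (e j)) Y (fun i => coord ((ModSite.ringSh O).over U) ι i Y z)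
    rw [← hz0] at h2
    let c : ι → (ModSite.ringSh O).obj.obj (op Y.left) :=
      fun i => coord ((ModSite.ringSh O).over U) ι i Y z
    have h3 : ∑ j ∈ Finset.univ, c j • res F (leOfHom Y.hom) (e j) = 0 := h2.symm.trans hz
    have h0 := he.2 Y.left (leOfHom Y.hom) Finset.univ c h3
    rw [hz0]
    refine Finset.sum_eq_zero fun i _ => ?_
    have h4 : coord ((ModSite.ringSh O).over U) ι i Y z = 0 := h0 i (Finset.mem_univ i)
    rw [h4, zero_smul]
  have hmono : Mono ((SheafOfModules.over F U).freeHomEquiv.symm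
      (fun j => secOver F U (e j))) := by
    apply mono_of_injective
    intro Y z z' hzz'
    have h1 : evAt _ _ Y ((SheafOfModules.over F U).freeHomEquiv.symm
        (fun j => secOver F U (e j))) (z - z') = 0 := by
      rw [map_sub]
      exact sub_eq_zero.mpr hzz'
    exact sub_eq_zero.mp (hker Y _ h1)
  haveI := hepi
  haveI := hmono
  haveI : IsIso ((SheafOfModules.over F U).freeHomEquiv.symm (fun j => secOver F U (e j))) :=
    isIso_of_mono_of_epi _
  have α : SheafOfModules.over F U ≅ SheafOfModules.free (R := (ModSite.ringSh O).over U) ι :=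
    (asIso ((SheafOfModules.over F U).freeHomEquiv.symm (fun j => secOver F U (e j)))).symm
  exact ⟨α⟩

/-- sections over `U₁`, mutually expressible with local generators of `F` through matrices `a`,
`b` with `b * a = 1` and `ρ * a = 0` for generating relations `ρ`, form a local frame. -/
theorem isLocFrame_of_relations (F : ModSite.Mod O) {U₀ U₁ : Opens X} (h₁ : U₁ ≤ U₀)
    {ι κ μ : Type u} [Fintype ι] [Fintype κ] [Fintype μ] [DecidableEq μ]
    (g : ι → ModSite.sect F U₀) (ρ : κ → ι → (ModSite.ringSh O).obj.obj (op U₀))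
    (hgen : LocGen F U₀ g) (hrel : LocRel F U₀ g ρ)
    (e : μ → ModSite.sect F U₁)
    (a : ι → μ → (ModSite.ringSh O).obj.obj (op U₁))
    (b : μ → ι → (ModSite.ringSh O).obj.obj (op U₁))
    (hga : ∀ i, res F h₁ (g i) = ∑ m, a i m • e m)
    (heb : ∀ m, e m = ∑ i, b m i • res F h₁ (g i))
    (hba : ∀ m m', ∑ i, b m i * a i m' = if m = m' then 1 else 0)
    (hρa : ∀ k m, ∑ i, rr O h₁ (ρ k i) * a i m = 0) :
    IsLocFrame F U₁ e := by
  classical
  constructor
  · intro V hV t x hx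
    obtain ⟨W, hW, hxW, r, hr⟩ := hgen V (hV.trans h₁) t x hx
    refine ⟨W, hW, hxW, ?_⟩
    rw [hr]
    refine Submodule.sum_mem _ fun i _ => Submodule.smul_mem _ _ ?_
    have h2 : res F (hW.trans (hV.trans h₁)) (g i) =
        ∑ m, rr O (hW.trans hV) (a i m) • res F (hW.trans hV) (e m) := by
      rw [← res_res F h₁ (hW.trans hV) (g i)]
      exact res_expansion F (hW.trans hV) _ _ _ (hga i)
    rw [h2]
    exact Submodule.sum_mem _ fun m _ =>
      Submodule.smul_mem _ _ (Submodule.subset_span ⟨m, rfl⟩)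
  · intro W hW S c hc
    let c' : μ → (ModSite.ringSh O).obj.obj (op W) := fun m => if m ∈ S then c m else 0
    have hc' : ∑ m, c' m • res F hW (e m) = 0 := by
      have h1 : ∑ m ∈ S, c m • res F hW (e m) = ∑ m ∈ S, c' m • res F hW (e m) :=
        Finset.sum_congr rfl fun m hm => by simp only [c', if_pos hm]
      have h2 : ∑ m ∈ S, c' m • res F hW (e m) = ∑ m, c' m • res F hW (e m) :=
        Finset.sum_subset (Finset.subset_univ S) fun m _ hm => by
          simp only [c', if_neg hm, zero_smul]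
      rw [← h2, ← h1]
      exact hc
    have hW₀ : W ≤ U₀ := hW.trans h₁
    have heb' : ∀ m, res F hW (e m) = ∑ i, rr O hW (b m i) • res F hW₀ (g i) := by
      intro m
      have h2 := res_expansion F hW _ _ _ (heb m)
      rw [h2]
      exact Finset.sum_congr rfl fun i _ => by rw [res_res]
    let γ : ι → (ModSite.ringSh O).obj.obj (op W) := fun i => ∑ m, c' m * rr O hW (b m i)
    have hγ : ∑ i, γ i • res F hW₀ (g i) = 0 :=
      relation_combo (fun i => res F hW₀ (g i)) (fun m => res F hW (e m))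
        (fun m i => rr O hW (b m i)) (fun m => (heb' m).symm) c' hc'
    have hzero : ∀ m', c' m' = 0 := by
      intro m'
      apply ring_eq_of_locally O W (c' m') 0
      intro x hx
      obtain ⟨W', hW', hxW', d, hd⟩ := hrel.2 W hW₀ γ hγ x hx
      refine ⟨W', hW', hxW', ?_⟩
      rw [map_zero]
      have hW'₁ : W' ≤ U₁ := hW'.trans hW
      refine coeff_eq_zero_of_relations (fun m => rr O hW' (c' m))
        (fun m i => rr O hW'₁ (b m i)) (fun i m => rr O hW'₁ (a i m))
        (fun k i => rr O (hW'.trans hW₀) (ρ k i)) d ?_ ?_ ?_ m'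
      · intro m m''
        have h3 := congrArg (rr O hW'₁) (hba m m'')
        rw [rr_sum_mul, rr_ite] at h3
        exact h3
      · intro k m
        have h3 := congrArg (rr O hW'₁) (hρa k m)
        rw [rr_sum_mul, map_zero] at h3
        refine Eq.trans (Finset.sum_congr rfl fun i _ => ?_) h3
        rw [rr_rr]
      · intro i
        rw [← hd i]
        change _ = rr O hW' (∑ m, c' m * rr O hW (b m i))
        rw [rr_sum_mul]
        exact Finset.sum_congr rfl fun m _ => by rw [rr_rr]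
    intro j hj
    have h5 := hzero j
    simp only [c', if_pos hj] at h5
    exact h5

end TopFrame2

section Germs
variable {X : TopCat.{u}} {O : TopCat.Sheaf CommRingCat.{u} X}

/-- the canonical element of the fibre of the point `x` at an open containing `x`. -/
def pt (x : X) (U : Opens X) (hx : x ∈ U) :
    (Opens.pointGrothendieckTopology x).fiber.obj U := ⟨⟨hx⟩⟩

/-- the germ at `x` of a section over a neighbourhood of `x`. -/
noncomputable def gm (F : ModSite.Mod O) (x : X) (U : Opens X) (hx : x ∈ U) :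
    ModSite.sect F U →+ ModSite.stalkAb (Opens.pointGrothendieckTopology x) F :=
  ((Opens.pointGrothendieckTopology x).toPresheafFiber U (pt x U hx) (ModSite.toAb F).obj).hom

/-- the germ at `x` of a function over a neighbourhood of `x`. -/
noncomputable def gmR (O : TopCat.Sheaf CommRingCat.{u} X) (x : X) (U : Opens X) (hx : x ∈ U) :
    (ModSite.ringSh O).obj.obj (op U) →+* ModSite.stalkRing (Opens.pointGrothendieckTopology x) O :=
  ((Opens.pointGrothendieckTopology x).toPresheafFiber U (pt x U hx) O.obj).hom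

lemma gm_res (F : ModSite.Mod O) (x : X) {U W : Opens X} (h : W ≤ U) (hxW : x ∈ W) (hxU : x ∈ U)
    (s : ModSite.sect F U) : gm F x W hxW (res F h s) = gm F x U hxU s :=
  germ_res' F x h (pt x W hxW) (pt x U hxU) s

lemma gm_smul (F : ModSite.Mod O) (x : X) {U : Opens X} (hxU : x ∈ U)
    (a : (ModSite.ringSh O).obj.obj (op U)) (s : ModSite.sect F U) :
    gm F x U hxU (a • s) = gmR O x U hxU a • gm F x U hxU s :=
  ModSite.germ_smul (Opens.pointGrothendieckTopology x) F U (pt x U hxU) a s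

lemma gm_surj (F : ModSite.Mod O) (x : X)
    (γ : ModSite.stalkAb (Opens.pointGrothendieckTopology x) F) :
    ∃ (U : Opens X) (hxU : x ∈ U) (s : ModSite.sect F U), gm F x U hxU s = γ := by
  obtain ⟨Y, y, s, hs⟩ := (Opens.pointGrothendieckTopology x).toPresheafFiber_jointly_surjective
    (P := (ModSite.toAb F).obj) γ
  exact ⟨Y, PLift.down (ULift.down y), s, hs⟩

lemma gm_eq_same (F : ModSite.Mod O) (x : X) {U : Opens X} (hxU : x ∈ U)
    (s₁ s₂ : ModSite.sect F U) (h : gm F x U hxU s₁ = gm F x U hxU s₂) :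
    ∃ (W : Opens X) (hW : W ≤ U), x ∈ W ∧ res F hW s₁ = res F hW s₂ := by
  obtain ⟨W, hW₁, hW₂, hxW, h1⟩ :=
    exists_eq_of_germ_eq F x (pt x U hxU) (pt x U hxU) s₁ s₂ h
  exact ⟨W, hW₁, hxW, h1⟩

lemma gmR_rr (O : TopCat.Sheaf CommRingCat.{u} X) (x : X) {U W : Opens X} (h : W ≤ U)
    (hxW : x ∈ W) (hxU : x ∈ U) (a : (ModSite.ringSh O).obj.obj (op U)) :
    gmR O x W hxW (rr O h a) = gmR O x U hxU a := by
  have h1 := (Opens.pointGrothendieckTopology x).toPresheafFiber_w_apply (homOfLE h)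
    (pt x W hxW) O.obj a
  have h2 : (Opens.pointGrothendieckTopology x).fiber.map (homOfLE h) (pt x W hxW) =
      pt x U hxU := Subsingleton.elim _ _
  rw [h2] at h1
  exact h1

lemma gmR_surj (O : TopCat.Sheaf CommRingCat.{u} X) (x : X)
    (γ : ModSite.stalkRing (Opens.pointGrothendieckTopology x) O) :
    ∃ (U : Opens X) (hxU : x ∈ U) (a : (ModSite.ringSh O).obj.obj (op U)),
      gmR O x U hxU a = γ := by
  obtain ⟨Y, y, a, ha⟩ := (Opens.pointGrothendieckTopology x).toPresheafFiber_jointly_surjective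
    (P := O.obj) γ
  exact ⟨Y, PLift.down (ULift.down y), a, ha⟩

lemma gmR_eq_same (O : TopCat.Sheaf CommRingCat.{u} X) (x : X) {U : Opens X} (hxU : x ∈ U)
    (a₁ a₂ : (ModSite.ringSh O).obj.obj (op U)) (h : gmR O x U hxU a₁ = gmR O x U hxU a₂) :
    ∃ (W : Opens X) (hW : W ≤ U), x ∈ W ∧ rr O hW a₁ = rr O hW a₂ := by
  obtain ⟨Y, f, y, _, hf⟩ := ((Opens.pointGrothendieckTopology x).toPresheafFiber_eq_iff'
    (P := O.obj) U (pt x U hxU) a₁ a₂).mp h
  exact ⟨Y, leOfHom f, PLift.down (ULift.down y), hf⟩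

variable (F : ModSite.Mod O) (x : X) {μ : Type u} [Fintype μ]
  (B : μ → ModSite.stalkAb (Opens.pointGrothendieckTopology x) F)

/-- if the germs of the `e m` generate the stalk, every section near `x` is a combination of
the `e m` near `x`. -/
theorem exists_repr_near
    (hrep : ∀ γ : ModSite.stalkAb (Opens.pointGrothendieckTopology x) F,
      ∃ c : μ → ModSite.stalkRing (Opens.pointGrothendieckTopology x) O, γ = ∑ m, c m • B m)
    (W₁ : Opens X) (hxW₁ : x ∈ W₁) (e : μ → ModSite.sect F W₁)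
    (he : ∀ m, gm F x W₁ hxW₁ (e m) = B m)
    (V : Opens X) (hxV : x ∈ V) (t : ModSite.sect F V) :
    ∃ (W : Opens X) (hWV : W ≤ V) (hW₁ : W ≤ W₁), x ∈ W ∧
      ∃ α : μ → (ModSite.ringSh O).obj.obj (op W),
        res F hWV t = ∑ m, α m • res F hW₁ (e m) := by
  obtain ⟨c, hc⟩ := hrep (gm F x V hxV t)
  obtain ⟨W, hWle, hxW, hW⟩ := exists_common_nbhd x (V ⊓ W₁) ⟨hxV, hxW₁⟩
    (fun m W => ∀ hx : x ∈ W, ∃ α : (ModSite.ringSh O).obj.obj (op W), gmR O x W hx α = c m)
    (by
      intro m W W' hW' h hx'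
      obtain ⟨α, hα⟩ := h (hW' hx')
      exact ⟨rr O hW' α, (gmR_rr O x hW' hx' (hW' hx') α).trans hα⟩)
    (by
      intro m
      obtain ⟨Y, hxY, α, hα⟩ := gmR_surj O x (c m)
      refine ⟨Y ⊓ (V ⊓ W₁), inf_le_right, ⟨hxY, hxV, hxW₁⟩, ?_⟩
      intro hx
      exact ⟨rr O inf_le_left α, (gmR_rr O x inf_le_left hx hxY α).trans hα⟩)
  choose α hα using fun m => hW m hxW
  have hWV : W ≤ V := hWle.trans inf_le_left
  have hWW₁ : W ≤ W₁ := hWle.trans inf_le_right
  have h1 : gm F x W hxW (res F hWV t) = gm F x W hxW (∑ m, α m • res F hWW₁ (e m)) := by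
    rw [gm_res F x hWV hxW hxV, map_sum, hc]
    refine Finset.sum_congr rfl fun m _ => ?_
    rw [gm_smul, gm_res F x hWW₁ hxW hxW₁, he m, hα m]
  obtain ⟨W', hW', hxW', h2⟩ := gm_eq_same F x hxW _ _ h1
  refine ⟨W', hW'.trans hWV, hW'.trans hWW₁, hxW', fun m => rr O hW' (α m), ?_⟩
  rw [← res_res F hWV hW' t, h2, res_sum]
  refine Finset.sum_congr rfl fun m _ => ?_
  rw [res_smul, res_res]

/-- if the germs of the `e m` are independent in the stalk, the coefficients of a vanishing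
combination of the `e m` near `x` vanish near `x`. -/
theorem exists_coeff_zero_near
    (hind : ∀ c : μ → ModSite.stalkRing (Opens.pointGrothendieckTopology x) O,
      ∑ m, c m • B m = 0 → ∀ m, c m = 0)
    (W₁ : Opens X) (hxW₁ : x ∈ W₁) (e : μ → ModSite.sect F W₁)
    (he : ∀ m, gm F x W₁ hxW₁ (e m) = B m)
    (V : Opens X) (hV : V ≤ W₁) (hxV : x ∈ V) (c : μ → (ModSite.ringSh O).obj.obj (op V))
    (hc : ∑ m, c m • res F hV (e m) = 0) :
    ∃ (W : Opens X) (hW : W ≤ V), x ∈ W ∧ ∀ m, rr O hW (c m) = 0 := by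
  have h1 : ∑ m, gmR O x V hxV (c m) • B m = 0 := by
    have h2 := congrArg (gm F x V hxV) hc
    rw [map_sum, map_zero] at h2
    refine Eq.trans (Finset.sum_congr rfl fun m _ => ?_) h2
    rw [gm_smul, gm_res F x hV hxV hxW₁, he m]
  have h3 := hind _ h1
  obtain ⟨W, hWV, hxW, hW⟩ := exists_common_nbhd x V hxV
    (fun m W => ∃ hW : W ≤ V, rr O hW (c m) = 0)
    (by
      rintro m W W' hW' ⟨hW, h⟩
      refine ⟨hW'.trans hW, ?_⟩
      rw [← rr_rr O hW hW', h, map_zero])
    (by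
      intro m
      have h4 : gmR O x V hxV (c m) = gmR O x V hxV 0 := by rw [h3 m, map_zero]
      obtain ⟨W, hW, hxW, h5⟩ := gmR_eq_same O x hxV _ _ h4
      refine ⟨W, hW, hxW, hW, ?_⟩
      rw [h5, map_zero])
  choose hW' hW'' using hW
  exact ⟨W, hWV, hxW, fun m => hW'' m⟩

/-- version of `exists_coeff_zero_near` for finitely many vanishing combinations. -/
theorem exists_coeff_zero_near'
    (hind : ∀ c : μ → ModSite.stalkRing (Opens.pointGrothendieckTopology x) O,
      ∑ m, c m • B m = 0 → ∀ m, c m = 0)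
    (W₁ : Opens X) (hxW₁ : x ∈ W₁) (e : μ → ModSite.sect F W₁)
    (he : ∀ m, gm F x W₁ hxW₁ (e m) = B m)
    {κ' : Type*} [Finite κ'] (V : Opens X) (hV : V ≤ W₁) (hxV : x ∈ V)
    (c : κ' → μ → (ModSite.ringSh O).obj.obj (op V))
    (hc : ∀ k, ∑ m, c k m • res F hV (e m) = 0) :
    ∃ (W : Opens X) (hW : W ≤ V), x ∈ W ∧ ∀ k m, rr O hW (c k m) = 0 := by
  obtain ⟨W, hWV, hxW, hW⟩ := exists_common_nbhd x V hxV
    (fun k W => ∃ hW : W ≤ V, ∀ m, rr O hW (c k m) = 0)
    (by
      rintro k W W' hW' ⟨hW, h⟩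
      refine ⟨hW'.trans hW, fun m => ?_⟩
      rw [← rr_rr O hW hW', h m, map_zero])
    (by
      intro k
      obtain ⟨W, hW, hxW, h⟩ :=
        exists_coeff_zero_near F x B hind W₁ hxW₁ e he V hV hxV (c k) (hc k)
      exact ⟨W, hW, hxW, hW, h⟩)
  choose hW' hW'' using hW
  exact ⟨W, hWV, hxW, fun k m => hW'' k m⟩

/-- a module of finite presentation whose stalk at `x` has a finite basis has a local frame of
the same cardinality near `x`. -/
theorem exists_isLocFrame_of_stalk_basis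
    [SheafOfModules.IsFinitePresentation (R := ModSite.ringSh O) F] [DecidableEq μ]
    (hrep : ∀ γ : ModSite.stalkAb (Opens.pointGrothendieckTopology x) F,
      ∃ c : μ → ModSite.stalkRing (Opens.pointGrothendieckTopology x) O, γ = ∑ m, c m • B m)
    (hind : ∀ c : μ → ModSite.stalkRing (Opens.pointGrothendieckTopology x) O,
      ∑ m, c m • B m = 0 → ∀ m, c m = 0) :
    ∃ U : Opens X, x ∈ U ∧ ∃ e : μ → ModSite.sect F U, IsLocFrame F U e := by
  classical
  obtain ⟨U₀, hxU₀, ι, κ, _, _, g, ρ, hgen, hrel⟩ :=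
    (isFinitePresentation_iff F).mp inferInstance x
  -- representatives of the basis germs
  obtain ⟨W₁, h₁₀, hxW₁, hW₁⟩ := exists_common_nbhd x U₀ hxU₀
    (fun m W => ∀ hx : x ∈ W, ∃ s : ModSite.sect F W, gm F x W hx s = B m)
    (by
      intro m W W' hW' h hx'
      obtain ⟨s, hs⟩ := h (hW' hx')
      exact ⟨res F hW' s, (gm_res F x hW' hx' (hW' hx') s).trans hs⟩)
    (by
      intro m
      obtain ⟨Y, hxY, s, hs⟩ := gm_surj F x (B m)
      refine ⟨Y ⊓ U₀, inf_le_right, ⟨hxY, hxU₀⟩, ?_⟩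
      intro hx
      exact ⟨res F inf_le_left s, (gm_res F x inf_le_left hx hxY s).trans hs⟩)
  choose e he using fun m => hW₁ m hxW₁
  -- the generators in terms of the `e m`
  obtain ⟨W₂, h₂₁, hxW₂, hW₂⟩ := exists_common_nbhd x W₁ hxW₁
    (fun i W => ∃ (hW : W ≤ W₁) (α : μ → (ModSite.ringSh O).obj.obj (op W)),
      res F (hW.trans h₁₀) (g i) = ∑ m, α m • res F hW (e m))
    (by
      rintro i W W' hW' ⟨hW, α, hα⟩
      refine ⟨hW'.trans hW, fun m => rr O hW' (α m), ?_⟩
      rw [← res_res F (hW.trans h₁₀) hW' (g i), hα, res_sum]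
      refine Finset.sum_congr rfl fun m _ => ?_
      rw [res_smul, res_res])
    (by
      intro i
      obtain ⟨W, hWV, hWW₁, hxW, α, hα⟩ :=
        exists_repr_near F x B hrep W₁ hxW₁ e he U₀ hxU₀ (g i)
      exact ⟨W, hWW₁, hxW, hWW₁, α, hα⟩)
  choose hW₂' a₂ ha₂ using hW₂
  -- the `e m` in terms of the generators
  obtain ⟨W₃, h₃₂, hxW₃, hW₃⟩ := exists_common_nbhd x W₂ hxW₂
    (fun m W => ∃ (hW : W ≤ W₂) (β : ι → (ModSite.ringSh O).obj.obj (op W)),
      res F (hW.trans h₂₁) (e m) = ∑ i, β i • res F ((hW.trans h₂₁).trans h₁₀) (g i))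
    (by
      rintro m W W' hW' ⟨hW, β, hβ⟩
      refine ⟨hW'.trans hW, fun i => rr O hW' (β i), ?_⟩
      rw [← res_res F (hW.trans h₂₁) hW' (e m), hβ, res_sum]
      refine Finset.sum_congr rfl fun i _ => ?_
      rw [res_smul, res_res])
    (by
      intro m
      obtain ⟨W, hW, hxW, β, hβ⟩ :=
        hgen W₂ (h₂₁.trans h₁₀) (res F h₂₁ (e m)) x hxW₂
      exact ⟨W, hW, hxW, hW, β, (res_res F h₂₁ hW (e m)).symm.trans hβ⟩)
  choose hW₃' b₃ hb₃ using hW₃
  have h₃₁ : W₃ ≤ W₁ := h₃₂.trans h₂₁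
  have h₃₀ : W₃ ≤ U₀ := h₃₁.trans h₁₀
  let e₃ : μ → ModSite.sect F W₃ := fun m => res F h₃₁ (e m)
  let a₃ : ι → μ → (ModSite.ringSh O).obj.obj (op W₃) := fun i m => rr O h₃₂ (a₂ i m)
  have hga₃ : ∀ i, ∑ m, a₃ i m • e₃ m = res F h₃₀ (g i) := by
    intro i
    rw [← res_res F ((hW₂' i).trans h₁₀) h₃₂ (g i), ha₂ i, res_sum]
    refine Finset.sum_congr rfl fun m _ => ?_
    show rr O h₃₂ (a₂ i m) • res F h₃₁ (e m) = _
    rw [res_smul, res_res]
  have heb₃ : ∀ m, ∑ i, b₃ m i • res F h₃₀ (g i) = e₃ m := fun m => (hb₃ m).symm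
  have hIII : ∀ m, ∑ m', ((∑ i, b₃ m i * a₃ i m') - (if m = m' then 1 else 0)) •
      res F h₃₁ (e m') = 0 :=
    fun m => expansions_combo e₃ (fun i => res F h₃₀ (g i)) b₃ a₃ heb₃ hga₃ m
  have hIV : ∀ k, ∑ m, (∑ i, rr O h₃₀ (ρ k i) * a₃ i m) • res F h₃₁ (e m) = 0 := by
    intro k
    refine relation_combo e₃ (fun i => res F h₃₀ (g i)) a₃ hga₃
      (fun i => rr O h₃₀ (ρ k i)) ?_
    have h2 := congrArg (res F h₃₀) (hrel.1 k)
    rw [res_sum, res_zero] at h2
    refine Eq.trans (Finset.sum_congr rfl fun i _ => ?_) h2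
    exact (res_smul F h₃₀ _ _).symm
  obtain ⟨W₄, h₄₃, hxW₄, hz₄⟩ := exists_coeff_zero_near' F x B hind W₁ hxW₁ e he W₃ h₃₁ hxW₃
    (fun m m' => (∑ i, b₃ m i * a₃ i m') - (if m = m' then 1 else 0)) hIII
  obtain ⟨W₅, h₅₃, hxW₅, hz₅⟩ := exists_coeff_zero_near' F x B hind W₁ hxW₁ e he W₃ h₃₁ hxW₃
    (fun k m => ∑ i, rr O h₃₀ (ρ k i) * a₃ i m) hIV
  have hz₄' : ∀ m m', rr O h₄₃ ((∑ i, b₃ m i * a₃ i m') - (if m = m' then 1 else 0)) = 0 := hz₄
  have hz₅' : ∀ k m, rr O h₅₃ (∑ i, rr O h₃₀ (ρ k i) * a₃ i m) = 0 := hz₅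
  have h₆₃ : W₄ ⊓ W₅ ≤ W₃ := inf_le_left.trans h₄₃
  have h₆₀ : W₄ ⊓ W₅ ≤ U₀ := h₆₃.trans h₃₀
  refine ⟨W₄ ⊓ W₅, ⟨hxW₄, hxW₅⟩, fun m => res F h₆₃ (e₃ m), ?_⟩
  refine isLocFrame_of_relations F h₆₀ g ρ hgen hrel _ (fun i m => rr O h₆₃ (a₃ i m))
    (fun m i => rr O h₆₃ (b₃ m i)) ?_ ?_ ?_ ?_
  · intro i
    show res F h₆₀ (g i) = ∑ m, rr O h₆₃ (a₃ i m) • res F h₆₃ (e₃ m)
    rw [← res_res F h₃₀ h₆₃ (g i), ← hga₃ i, res_sum]
    exact Finset.sum_congr rfl fun m _ => res_smul F h₆₃ _ _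
  · intro m
    show res F h₆₃ (e₃ m) = ∑ i, rr O h₆₃ (b₃ m i) • res F h₆₀ (g i)
    rw [← heb₃ m, res_sum]
    refine Finset.sum_congr rfl fun i _ => ?_
    rw [res_smul, res_res]
  · intro m m'
    show ∑ i, rr O h₆₃ (b₃ m i) * rr O h₆₃ (a₃ i m') = if m = m' then 1 else 0
    have h5 : rr O h₆₃ ((∑ i, b₃ m i * a₃ i m') - (if m = m' then 1 else 0)) = 0 := by
      rw [← rr_rr O h₄₃ (inf_le_left : W₄ ⊓ W₅ ≤ W₄), hz₄' m m', map_zero]
    rw [map_sub, rr_sum_mul, rr_ite] at h5
    exact sub_eq_zero.mp h5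
  · intro k m
    show ∑ i, rr O h₆₀ (ρ k i) * rr O h₆₃ (a₃ i m) = 0
    have h5 : rr O h₆₃ (∑ i, rr O h₃₀ (ρ k i) * a₃ i m) = 0 := by
      rw [← rr_rr O h₅₃ (inf_le_right : W₄ ⊓ W₅ ≤ W₅), hz₅' k m, map_zero]
    rw [rr_sum_mul] at h5
    refine Eq.trans (Finset.sum_congr rfl fun i _ => ?_) h5
    rw [rr_rr O h₃₀ h₆₃ (ρ k i)]

end Germs

end Groth.Agent.LD.RSp
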