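import Groth.Agent.Lib.Lead.RSp.LocBasis

/-! # Subsheaves of a module on a ringed space given by families of submodules of sections. -/

universe u
open CategoryTheory Limits Opposite TopologicalSpace

namespace Groth.Agent.LD.RSp

variable {X : TopCat.{u}} {O : TopCat.Sheaf CommRingCat.{u} X}

/-- a subsheaf of `F`, as a family of submodules of sections, stable under restriction and
local. -/
structure SubSh (F : ModSite.Mod O) where
  N : ∀ W : Opens X, Submodule ((ModSite.ringSh O).obj.obj (op W)) (ModSite.sect F W)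
  res_mem : ∀ {W W' : Opens X} (h : W' ≤ W) (s : ModSite.sect F W), s ∈ N W →
    Groth.Agent.LD.RSp.res F h s ∈ N W'
  loc_mem : ∀ (W : Opens X) (s : ModSite.sect F W),
    (∀ x ∈ W, ∃ (W' : Opens X) (h : W' ≤ W), x ∈ W' ∧ Groth.Agent.LD.RSp.res F h s ∈ N W') →
      s ∈ N W

namespace SubSh
variable {F : ModSite.Mod O} (S : SubSh F)

/-- the associated Mathlib submodule of the presheaf of modules. -/
def toSub : PresheafOfModules.Submodule F.val where
  obj W := S.N W.unop
  map {W W'} f := fun s hs => S.res_mem (leOfHom f.unop) s hs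

theorem isSheaf_toSub :
    Presheaf.IsSheaf (Opens.grothendieckTopology X) S.toSub.toPresheafOfModules.presheaf := by
  change TopCat.Presheaf.IsSheaf _
  rw [TopCat.Presheaf.isSheaf_iff_isSheafUniqueGluing]
  intro ι U sf hsf
  let sf' : ∀ i, ModSite.sect F (U i) := fun i => (sf i : S.N (U i)).1
  have hsf' : TopCat.Presheaf.IsCompatible F.val.presheaf U sf' := by
    intro i j
    have := congrArg (fun t : S.N (U i ⊓ U j) => t.1) (hsf i j)
    exact this
  obtain ⟨s, hs, hsu⟩ := TopCat.Sheaf.existsUnique_gluing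
    (⟨F.val.presheaf, F.isSheaf⟩ : TopCat.Sheaf Ab X) U sf' hsf'
  have hsN : s ∈ S.N (iSup U) := by
    apply S.loc_mem
    intro x hx
    obtain ⟨i, hi⟩ := Opens.mem_iSup.mp hx
    refine ⟨U i, le_iSup U i, hi, ?_⟩
    have h1 : Groth.Agent.LD.RSp.res F (le_iSup U i) s = sf' i := hs i
    rw [h1]
    exact (sf i : S.N (U i)).2
  refine ⟨(⟨s, hsN⟩ : S.N (iSup U)), ?_, ?_⟩
  · intro i
    apply Subtype.ext
    exact hs i
  · intro t ht
    apply Subtype.ext
    apply hsu
    intro i
    have := congrArg (fun t : S.N (U i) => t.1) (ht i)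
    exact this

/-- the associated module. -/
noncomputable def toModules : ModSite.Mod O where
  val := S.toSub.toPresheafOfModules
  isSheaf := S.isSheaf_toSub

/-- the inclusion. -/
noncomputable def ι : S.toModules ⟶ F := ⟨S.toSub.ι⟩

lemma ι_app (W : Opens X) (t : S.N W) :
    (S.ι).val.app (op W) (show ModSite.sect S.toModules W from t) = t.1 := rfl

instance : Mono S.ι := by
  apply mono_of_injective
  intro W a b hab
  exact Subtype.ext hab

lemma mem_iff (W : Opens X) (s : ModSite.sect F W) :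
    s ∈ S.N W ↔ ∃ t : ModSite.sect S.toModules W, (S.ι).val.app (op W) t = s := by
  constructor
  · intro hs
    exact ⟨(show ModSite.sect S.toModules W from (⟨s, hs⟩ : S.N W)), rfl⟩
  · rintro ⟨t, rfl⟩
    exact (show S.N W from t).2

end SubSh

/-- the subsheaf of sections lying locally in a family of submodules stable under
restriction. -/
def SubSh.ofLocal (F : ModSite.Mod O)
    (N₀ : ∀ W : Opens X, Submodule ((ModSite.ringSh O).obj.obj (op W)) (ModSite.sect F W))
    (h₀ : ∀ {W W' : Opens X} (h : W' ≤ W) (s : ModSite.sect F W), s ∈ N₀ W →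
      res F h s ∈ N₀ W') : SubSh F where
  N W :=
    { carrier := {s | ∀ x ∈ W, ∃ (W' : Opens X) (h : W' ≤ W), x ∈ W' ∧ res F h s ∈ N₀ W'}
      zero_mem' := by
        intro x hx
        refine ⟨W, le_rfl, hx, ?_⟩
        rw [res_zero]
        exact (N₀ W).zero_mem
      add_mem' := by
        intro s₁ s₂ h₁ h₂ x hx
        obtain ⟨W₁, hW₁, hx₁, e₁⟩ := h₁ x hx
        obtain ⟨W₂, hW₂, hx₂, e₂⟩ := h₂ x hx
        refine ⟨W₁ ⊓ W₂, inf_le_left.trans hW₁, ⟨hx₁, hx₂⟩, ?_⟩
        rw [res_add]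
        apply (N₀ _).add_mem
        · have := h₀ (inf_le_left : W₁ ⊓ W₂ ≤ W₁) _ e₁
          rw [res_res] at this
          exact this
        · have := h₀ (inf_le_right : W₁ ⊓ W₂ ≤ W₂) _ e₂
          rw [res_res] at this
          exact this
      smul_mem' := by
        intro r s h x hx
        obtain ⟨W₁, hW₁, hx₁, e₁⟩ := h x hx
        refine ⟨W₁, hW₁, hx₁, ?_⟩
        rw [res_smul]
        exact (N₀ W₁).smul_mem _ e₁ }
  res_mem {W W'} h s hs := by
    intro x hx
    obtain ⟨W₁, hW₁, hx₁, e₁⟩ := hs x (h hx)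
    refine ⟨W₁ ⊓ W', inf_le_right, ⟨hx₁, hx⟩, ?_⟩
    rw [res_res]
    have := h₀ (inf_le_left : W₁ ⊓ W' ≤ W₁) _ e₁
    rw [res_res] at this
    exact this
  loc_mem W s hs := by
    intro x hx
    obtain ⟨W', hW', hxW', hmem⟩ := hs x hx
    obtain ⟨W₁, hW₁, hx₁, e₁⟩ := hmem x hxW'
    refine ⟨W₁, hW₁.trans hW', hx₁, ?_⟩
    rw [res_res] at e₁
    exact e₁

lemma SubSh.mem_ofLocal (F : ModSite.Mod O)
    (N₀ : ∀ W : Opens X, Submodule ((ModSite.ringSh O).obj.obj (op W)) (ModSite.sect F W))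
    (h₀ : ∀ {W W' : Opens X} (h : W' ≤ W) (s : ModSite.sect F W), s ∈ N₀ W →
      res F h s ∈ N₀ W') (W : Opens X) (s : ModSite.sect F W) :
    s ∈ (SubSh.ofLocal F N₀ h₀).N W ↔
      ∀ x ∈ W, ∃ (W' : Opens X) (h : W' ≤ W), x ∈ W' ∧ res F h s ∈ N₀ W' := Iff.rfl

/-- the leg of a cocone, with codomain the point. -/
noncomputable abbrev leg {K : Type*} [Category K] {D : K ⥤ ModSite.Mod O} (c : Cocone D) (j : K) :
    D.obj j ⟶ c.pt := c.ι.app j

/-- a subsheaf of a colimit containing the images of all the legs is everything. -/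
theorem SubSh.mem_of_isColimit {K : Type*} [Category K] {D : K ⥤ ModSite.Mod O} (c : Cocone D)
    (hc : IsColimit c) (S : SubSh c.pt)
    (h : ∀ (j : K) (W : Opens X) (t : ModSite.sect (D.obj j) W),
      (leg c j).val.app (op W) t ∈ S.N W)
    (W : Opens X) (s : ModSite.sect c.pt W) : s ∈ S.N W := by
  let q := cokernel.π S.ι
  have h0 : ∀ j, leg c j ≫ q = 0 := by
    intro j
    apply SheafOfModules.hom_ext
    apply PresheafOfModules.hom_ext
    intro Y
    obtain ⟨V⟩ := Y
    apply ModuleCat.hom_ext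
    apply LinearMap.ext
    intro t
    obtain ⟨t', ht'⟩ := (S.mem_iff V _).mp (h j V t)
    have h1 : q.val.app (op V) (S.ι.val.app (op V) t') = 0 := by
      change (S.ι ≫ q).val.app (op V) t' = 0
      rw [cokernel.condition]
      rfl
    rw [ht'] at h1
    exact h1
  have hq : q = 0 := hc.hom_ext (fun j => by
    rw [comp_zero]
    exact h0 j)
  haveI : Epi S.ι := Preadditive.epi_of_cokernel_zero hq
  haveI : IsIso S.ι := isIso_of_mono_of_epi S.ι
  exact (S.mem_iff W s).mpr
    ⟨evAt _ _ W (asIso S.ι).inv s, evAt_inv_hom (asIso S.ι) W s⟩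

end Groth.Agent.LD.RSp
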