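import Mathlib
import Groth.Prelude.Def_ModSite
import Groth.Agent.Lib.Lead.MS.TensPres
import Groth.Agent.Lib.Lead.EZ.RestrShf

/-! # Local properties of tensor products of modules on a ringed space (S6850). -/

set_option autoImplicit false
universe u
open CategoryTheory Opposite Limits TopologicalSpace

namespace Groth.Agent.LD.RSp.TL

open Groth.Agent.LD.MS

section Site

variable {C : Type u} [SmallCategory C] [HasPullbacks C] [HasBinaryProducts C]
  {J : GrothendieckTopology C} (O : Sheaf J CommRingCat.{u})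

lemma genBy_restrict {U' U : C} (f : U' ⟶ U) (F : ModSite.Mod O) {I : Type u}
    (h : GenBy I (SheafOfModules.over F U)) : GenBy I (SheafOfModules.over F U') :=
  (h.map (SheafOfModules.overMap (ModSite.ringSh O) f)
    (SheafOfModules.overMapUnitIso f).symm).ofIso
      ((SheafOfModules.overFunctorMap (ModSite.ringSh O) f).app F)

lemma freeBy_restrict {U' U : C} (f : U' ⟶ U) (F : ModSite.Mod O) {I : Type u}
    (h : FreeBy I (SheafOfModules.over F U)) : FreeBy I (SheafOfModules.over F U') :=
  (h.map (SheafOfModules.overMap (ModSite.ringSh O) f)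
    (SheafOfModules.overMapUnitIso f).symm).ofIso
      ((SheafOfModules.overFunctorMap (ModSite.ringSh O) f).app F)

lemma presBy_restrict {U' U : C} (f : U' ⟶ U) (F : ModSite.Mod O) {I' I : Type u}
    (h : PresBy I' I (SheafOfModules.over F U)) : PresBy I' I (SheafOfModules.over F U') :=
  (h.map (SheafOfModules.overMap (ModSite.ringSh O) f)
    (SheafOfModules.overMapUnitIso f).symm).ofIso
      ((SheafOfModules.overFunctorMap (ModSite.ringSh O) f).app F)

end Site

section Over

variable {C : Type u} [SmallCategory C] {J : GrothendieckTopology C} (O : Sheaf J CommRingCat.{u})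

lemma genBy_tensorOver (U : C) (F G : ModSite.Mod O) {I K : Type u}
    (hF : GenBy I (SheafOfModules.over F U)) (hG : GenBy K (SheafOfModules.over G U)) :
    GenBy (I × K) (SheafOfModules.over (tn O F G) U) := by
  have h1 : GenBy (R := ModSite.ringSh (O.over U)) I ((ModSite.restr O U).obj F) := hF
  have h2 : GenBy (R := ModSite.ringSh (O.over U)) K ((ModSite.restr O U).obj G) := hG
  have h3 := GenBy.tensor h1 h2
  exact h3.ofIso (EZ.restrTensorIso O U F G).symm

lemma freeBy_tensorOver (U : C) (F G : ModSite.Mod O) {I K : Type u}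
    (hF : FreeBy I (SheafOfModules.over F U)) (hG : FreeBy K (SheafOfModules.over G U)) :
    FreeBy (I × K) (SheafOfModules.over (tn O F G) U) := by
  have h1 : FreeBy (R := ModSite.ringSh (O.over U)) I ((ModSite.restr O U).obj F) := hF
  have h2 : FreeBy (R := ModSite.ringSh (O.over U)) K ((ModSite.restr O U).obj G) := hG
  have h3 := FreeBy.tensor h1 h2
  exact h3.ofIso (EZ.restrTensorIso O U F G).symm

lemma presBy_tensorOver (U : C) (F G : ModSite.Mod O) {I' I K' K : Type u}
    (hF : PresBy I' I (SheafOfModules.over F U)) (hG : PresBy K' K (SheafOfModules.over G U)) :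
    PresBy ((I' × K) ⊕ (I × K')) (I × K) (SheafOfModules.over (tn O F G) U) := by
  have h1 : PresBy (R := ModSite.ringSh (O.over U)) I' I ((ModSite.restr O U).obj F) := hF
  have h2 : PresBy (R := ModSite.ringSh (O.over U)) K' K ((ModSite.restr O U).obj G) := hG
  have h3 := PresBy.tensor h1 h2
  exact h3.ofIso (EZ.restrTensorIso O U F G).symm

end Over

section Space

variable {X : TopCat.{u}} (O : TopCat.Sheaf CommRingCat.{u} X)

lemma coversTop_inf {IF IG : Type u} (XF : IF → Opens X) (XG : IG → Opens X)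
    (hF : (Opens.grothendieckTopology X).CoversTop XF)
    (hG : (Opens.grothendieckTopology X).CoversTop XG) :
    (Opens.grothendieckTopology X).CoversTop (fun ij : IF × IG => XF ij.1 ⊓ XG ij.2) := by
  intro W y hy
  obtain ⟨V, f, ⟨i, ⟨g⟩⟩, hyV⟩ := hF W y hy
  obtain ⟨V', f', ⟨j, ⟨g'⟩⟩, hyV'⟩ := hG V y hyV
  exact ⟨V', f' ≫ f, ⟨(i, j), ⟨homOfLE (le_inf ((leOfHom f').trans (leOfHom g)) (leOfHom g'))⟩⟩,
    hyV'⟩

variable (F G : ModSite.Mod O)

/-- local generators of the tensor product on the intersections of two coverings. -/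
noncomputable def lgdInf (σF : SheafOfModules.LocalGeneratorsData.{u} (R := ModSite.ringSh O) F)
    (σG : SheafOfModules.LocalGeneratorsData.{u} (R := ModSite.ringSh O) G)
    (gen : ∀ ij : σF.I × σG.I,
      (SheafOfModules.over (tn O F G) (σF.X ij.1 ⊓ σG.X ij.2)).GeneratingSections) :
    SheafOfModules.LocalGeneratorsData.{u} (R := ModSite.ringSh O) (tn O F G) where
  I := σF.I × σG.I
  X := fun ij => σF.X ij.1 ⊓ σG.X ij.2
  coversTop := coversTop_inf σF.X σG.X σF.coversTop σG.coversTop
  generators := gen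

lemma lgdInf_isFiniteType
    (σF : SheafOfModules.LocalGeneratorsData.{u} (R := ModSite.ringSh O) F)
    (σG : SheafOfModules.LocalGeneratorsData.{u} (R := ModSite.ringSh O) G)
    (gen : ∀ ij : σF.I × σG.I,
      (SheafOfModules.over (tn O F G) (σF.X ij.1 ⊓ σG.X ij.2)).GeneratingSections)
    (h : ∀ ij, ∃ n : ℕ, Nonempty ((gen ij).I ≃ Fin n)) :
    (lgdInf O F G σF σG gen).IsFiniteType :=
  { isFiniteType := fun ij => { finite := finite_iff_exists_equiv_fin.mpr (h ij) } }

lemma lgdInf_isLocallyFreeData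
    (σF : SheafOfModules.LocalGeneratorsData.{u} (R := ModSite.ringSh O) F)
    (σG : SheafOfModules.LocalGeneratorsData.{u} (R := ModSite.ringSh O) G)
    (gen : ∀ ij : σF.I × σG.I,
      (SheafOfModules.over (tn O F G) (σF.X ij.1 ⊓ σG.X ij.2)).GeneratingSections)
    (h : ∀ ij, ∃ inv, (gen ij).π ≫ inv = 𝟙 _ ∧ inv ≫ (gen ij).π = 𝟙 _) :
    (lgdInf O F G σF σG gen).IsLocallyFreeData :=
  { isIso := fun ij => ⟨h ij⟩ }

lemma genBy_inf (σF : SheafOfModules.LocalGeneratorsData.{u} (R := ModSite.ringSh O) F)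
    (σG : SheafOfModules.LocalGeneratorsData.{u} (R := ModSite.ringSh O) G)
    (ij : σF.I × σG.I) :
    GenBy ((σF.generators ij.1).I × (σG.generators ij.2).I)
      (SheafOfModules.over (tn O F G) (σF.X ij.1 ⊓ σG.X ij.2)) :=
  genBy_tensorOver O _ F G
    (genBy_restrict O (homOfLE inf_le_left) F (GenBy.of_generatingSections (σF.generators ij.1)))
    (genBy_restrict O (homOfLE inf_le_right) G (GenBy.of_generatingSections (σG.generators ij.2)))

theorem nonempty_localGeneratorsData_tensor
    (hF : Nonempty (SheafOfModules.LocalGeneratorsData.{u} (R := ModSite.ringSh O) F))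
    (hG : Nonempty (SheafOfModules.LocalGeneratorsData.{u} (R := ModSite.ringSh O) G)) :
    Nonempty (SheafOfModules.LocalGeneratorsData.{u} (R := ModSite.ringSh O) (tn O F G)) := by
  obtain ⟨σF⟩ := hF
  obtain ⟨σG⟩ := hG
  exact ⟨lgdInf O F G σF σG (fun ij => (genBy_inf O F G σF σG ij).toGen)⟩

lemma exists_equiv_fin_prod {A B : Type u} (hA : ∃ n : ℕ, Nonempty (A ≃ Fin n))
    (hB : ∃ n : ℕ, Nonempty (B ≃ Fin n)) : ∃ n : ℕ, Nonempty (A × B ≃ Fin n) := by
  obtain ⟨n, ⟨e⟩⟩ := hA
  obtain ⟨m, ⟨e'⟩⟩ := hB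
  exact ⟨n * m, ⟨(Equiv.prodCongr e e').trans finProdFinEquiv⟩⟩

lemma exists_equiv_fin_sum {A B : Type u} (hA : ∃ n : ℕ, Nonempty (A ≃ Fin n))
    (hB : ∃ n : ℕ, Nonempty (B ≃ Fin n)) : ∃ n : ℕ, Nonempty (A ⊕ B ≃ Fin n) := by
  obtain ⟨n, ⟨e⟩⟩ := hA
  obtain ⟨m, ⟨e'⟩⟩ := hB
  exact ⟨n + m, ⟨(Equiv.sumCongr e e').trans finSumFinEquiv⟩⟩

theorem isFiniteType_tensor (hF : SheafOfModules.IsFiniteType (R := ModSite.ringSh O) F)
    (hG : SheafOfModules.IsFiniteType (R := ModSite.ringSh O) G) :
    SheafOfModules.IsFiniteType (R := ModSite.ringSh O) (tn O F G) := by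
  obtain ⟨σF, hσF⟩ := SheafOfModules.IsFiniteType.exists_localGeneratorsData F
  obtain ⟨σG, hσG⟩ := SheafOfModules.IsFiniteType.exists_localGeneratorsData G
  have hfF : ∀ i, ∃ n : ℕ, Nonempty ((σF.generators i).I ≃ Fin n) := fun i =>
    finite_iff_exists_equiv_fin.mp (hσF.isFiniteType i).finite
  have hfG : ∀ i, ∃ n : ℕ, Nonempty ((σG.generators i).I ≃ Fin n) := fun i =>
    finite_iff_exists_equiv_fin.mp (hσG.isFiniteType i).finite
  clear hσF hσG hF hG
  exact { exists_localGeneratorsData :=
    ⟨lgdInf O F G σF σG (fun ij => (genBy_inf O F G σF σG ij).toGen),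
      lgdInf_isFiniteType O F G σF σG _ (fun ij => exists_equiv_fin_prod (hfF ij.1) (hfG ij.2))⟩ }

theorem isLocallyFree_tensor (hF : SheafOfModules.IsLocallyFree (R := ModSite.ringSh O) F)
    (hG : SheafOfModules.IsLocallyFree (R := ModSite.ringSh O) G) :
    SheafOfModules.IsLocallyFree (R := ModSite.ringSh O) (tn O F G) := by
  obtain ⟨σF, hσF⟩ := hF.exists_isLocallyFreeData
  obtain ⟨σG, hσG⟩ := hG.exists_isLocallyFreeData
  have hfF : ∀ i, FreeBy (σF.generators i).I (SheafOfModules.over F (σF.X i)) := fun i =>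
    FreeBy.of_generatingSections (σF.generators i)
  have hfG : ∀ i, FreeBy (σG.generators i).I (SheafOfModules.over G (σG.X i)) := fun i =>
    FreeBy.of_generatingSections (σG.generators i)
  clear hσF hσG hF hG
  have key : ∀ ij : σF.I × σG.I,
      FreeBy ((σF.generators ij.1).I × (σG.generators ij.2).I)
        (SheafOfModules.over (tn O F G) (σF.X ij.1 ⊓ σG.X ij.2)) := fun ij =>
    freeBy_tensorOver O _ F G
      (freeBy_restrict O (homOfLE inf_le_left) F (hfF ij.1))
      (freeBy_restrict O (homOfLE inf_le_right) G (hfG ij.2))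
  exact { exists_isLocallyFreeData :=
    ⟨lgdInf O F G σF σG (fun ij => (key ij).toGen),
      lgdInf_isLocallyFreeData O F G σF σG _ (fun ij => (key ij).isIso_toGen_π.out)⟩ }

/-- quasi-coherent data of the tensor product on the intersections of two coverings. -/
noncomputable def qcdInf (qF : SheafOfModules.QuasicoherentData.{u} (R := ModSite.ringSh O) F)
    (qG : SheafOfModules.QuasicoherentData.{u} (R := ModSite.ringSh O) G)
    (pres : ∀ ij : qF.I × qG.I,
      (SheafOfModules.over (tn O F G) (qF.X ij.1 ⊓ qG.X ij.2)).Presentation) :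
    SheafOfModules.QuasicoherentData.{u} (R := ModSite.ringSh O) (tn O F G) where
  I := qF.I × qG.I
  X := fun ij => qF.X ij.1 ⊓ qG.X ij.2
  coversTop := coversTop_inf qF.X qG.X qF.coversTop qG.coversTop
  presentation := pres

lemma qcdInf_isFinitePresentation
    (qF : SheafOfModules.QuasicoherentData.{u} (R := ModSite.ringSh O) F)
    (qG : SheafOfModules.QuasicoherentData.{u} (R := ModSite.ringSh O) G)
    (pres : ∀ ij : qF.I × qG.I,
      (SheafOfModules.over (tn O F G) (qF.X ij.1 ⊓ qG.X ij.2)).Presentation)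
    (h1 : ∀ ij, ∃ n : ℕ, Nonempty ((pres ij).generators.I ≃ Fin n))
    (h2 : ∀ ij, ∃ n : ℕ, Nonempty ((pres ij).relations.I ≃ Fin n)) :
    (qcdInf O F G qF qG pres).IsFinitePresentation :=
  { isFinite_presentation := fun ij =>
      { isFiniteType_generators := { finite := finite_iff_exists_equiv_fin.mpr (h1 ij) }
        isFiniteType_relations := { finite := finite_iff_exists_equiv_fin.mpr (h2 ij) } } }

lemma presBy_inf (qF : SheafOfModules.QuasicoherentData.{u} (R := ModSite.ringSh O) F)
    (qG : SheafOfModules.QuasicoherentData.{u} (R := ModSite.ringSh O) G)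
    (ij : qF.I × qG.I) :
    PresBy (((qF.presentation ij.1).relations.I × (qG.presentation ij.2).generators.I) ⊕
        ((qF.presentation ij.1).generators.I × (qG.presentation ij.2).relations.I))
      ((qF.presentation ij.1).generators.I × (qG.presentation ij.2).generators.I)
      (SheafOfModules.over (tn O F G) (qF.X ij.1 ⊓ qG.X ij.2)) :=
  presBy_tensorOver O _ F G
    (presBy_restrict O (homOfLE inf_le_left) F (PresBy.of_presentation (qF.presentation ij.1)))
    (presBy_restrict O (homOfLE inf_le_right) G (PresBy.of_presentation (qG.presentation ij.2)))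

theorem isQuasicoherent_tensor (hF : SheafOfModules.IsQuasicoherent (R := ModSite.ringSh O) F)
    (hG : SheafOfModules.IsQuasicoherent (R := ModSite.ringSh O) G) :
    SheafOfModules.IsQuasicoherent (R := ModSite.ringSh O) (tn O F G) := by
  obtain ⟨qF⟩ := hF.nonempty_quasicoherentData
  obtain ⟨qG⟩ := hG.nonempty_quasicoherentData
  clear hF hG
  exact (qcdInf O F G qF qG (fun ij => (presBy_inf O F G qF qG ij).toPres)).isQuasicoherent

theorem isFinitePresentation_tensor
    (hF : SheafOfModules.IsFinitePresentation (R := ModSite.ringSh O) F)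
    (hG : SheafOfModules.IsFinitePresentation (R := ModSite.ringSh O) G) :
    SheafOfModules.IsFinitePresentation (R := ModSite.ringSh O) (tn O F G) := by
  obtain ⟨qF, hqF⟩ := SheafOfModules.IsFinitePresentation.exists_quasicoherentData F
  obtain ⟨qG, hqG⟩ := SheafOfModules.IsFinitePresentation.exists_quasicoherentData G
  have hgF : ∀ i, ∃ n : ℕ, Nonempty ((qF.presentation i).generators.I ≃ Fin n) := fun i =>
    finite_iff_exists_equiv_fin.mp (hqF.isFinite_presentation i).isFiniteType_generators.finite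
  have hrF : ∀ i, ∃ n : ℕ, Nonempty ((qF.presentation i).relations.I ≃ Fin n) := fun i =>
    finite_iff_exists_equiv_fin.mp (hqF.isFinite_presentation i).isFiniteType_relations.finite
  have hgG : ∀ i, ∃ n : ℕ, Nonempty ((qG.presentation i).generators.I ≃ Fin n) := fun i =>
    finite_iff_exists_equiv_fin.mp (hqG.isFinite_presentation i).isFiniteType_generators.finite
  have hrG : ∀ i, ∃ n : ℕ, Nonempty ((qG.presentation i).relations.I ≃ Fin n) := fun i =>
    finite_iff_exists_equiv_fin.mp (hqG.isFinite_presentation i).isFiniteType_relations.finite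
  clear hqF hqG hF hG
  exact { exists_quasicoherentData :=
    ⟨qcdInf O F G qF qG (fun ij => (presBy_inf O F G qF qG ij).toPres),
      qcdInf_isFinitePresentation O F G qF qG _
        (fun ij => exists_equiv_fin_prod (hgF ij.1) (hgG ij.2))
        (fun ij => exists_equiv_fin_sum (exists_equiv_fin_prod (hrF ij.1) (hgG ij.2))
          (exists_equiv_fin_prod (hgF ij.1) (hrG ij.2)))⟩ }

end Space

end Groth.Agent.LD.RSp.TL
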