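import Groth.Agent.Lib.Lead.RSp.SlicePres
import Groth.Agent.Lib.Lead.RSp.Top

/-! # Modules of finite presentation on a ringed space, in terms of local generators and
relations. -/

universe u
open CategoryTheory Limits Opposite TopologicalSpace

namespace Groth.Agent.LD.RSp

section TopFP
variable {X : TopCat.{u}} {O : TopCat.Sheaf CommRingCat.{u} X}

lemma map_eq_rr (O : TopCat.Sheaf CommRingCat.{u} X) {V W : Opens X} (g : W ⟶ V)
    (a : (ModSite.ringSh O).obj.obj (op V)) :
    (ModSite.ringSh O).obj.map g.op a = rr O (leOfHom g) a := rfl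

lemma rr_sum (O : TopCat.Sheaf CommRingCat.{u} X) {V W : Opens X} (h : W ≤ V) {ι : Type*}
    (s : Finset ι) (a : ι → (ModSite.ringSh O).obj.obj (op V)) :
    rr O h (∑ i ∈ s, a i) = ∑ i ∈ s, rr O h (a i) := map_sum (rr O h) a s

/-- the relation coefficients `ρ` locally generate all relations between the sections `e`. -/
def LocRel (F : ModSite.Mod O) (U : Opens X) {ι κ : Type u} [Fintype ι] [Fintype κ]
    (e : ι → ModSite.sect F U) (ρ : κ → ι → (ModSite.ringSh O).obj.obj (op U)) : Prop :=
  (∀ j, ∑ i, ρ j i • e i = 0) ∧
  ∀ (V : Opens X) (hV : V ≤ U) (c : ι → (ModSite.ringSh O).obj.obj (op V)),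
    ∑ i, c i • res F hV (e i) = 0 → ∀ x : X, x ∈ V →
      ∃ (W : Opens X) (hW : W ≤ V), x ∈ W ∧ ∃ d : κ → (ModSite.ringSh O).obj.obj (op W),
        ∀ i, rr O hW (c i) = ∑ j, d j * rr O (hW.trans hV) (ρ j i)

/-- generating sections of `F.over U` give a generating family in the sense of `LocGen`. -/
lemma locGen_of_generatingSections (F : ModSite.Mod O) (U : Opens X)
    (G : (SheafOfModules.over F U).GeneratingSections) [Fintype G.I] :
    LocGen F U (fun j => evalId F U (G.s j)) := by
  rw [locGen_iff_epi]
  have e : (fun j => secOver F U (evalId F U (G.s j))) = G.s :=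
    funext fun j => secOver_evalId F U _
  rw [e]
  exact G.epi

/-- a finite presentation of `F.over U` gives local generators and relations. -/
theorem exists_locRel_of_presentation (F : ModSite.Mod O) (U : Opens X)
    (P : (SheafOfModules.over F U).Presentation)
    [Fintype P.generators.I] [DecidableEq P.generators.I] [Fintype P.relations.I] :
    ∃ ρ : P.relations.I → P.generators.I → (ModSite.ringSh O).obj.obj (op U),
      LocRel F U (fun j => evalId F U (P.generators.s j)) ρ := by
  obtain ⟨ρ, h1, h2⟩ := relSieveOver_mem_of_presentation F U P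
  refine ⟨ρ, h1, ?_⟩
  intro V' hV' c hc y hy
  obtain ⟨W, g', ⟨d, hd⟩, hyW⟩ := h2 (homOfLE hV') c hc y hy
  exact ⟨W, leOfHom g', hyW, d, hd⟩

/-- local generators and relations give a finite presentation of `F.over U`. -/
theorem exists_presentation_of_locRel (F : ModSite.Mod O) (U : Opens X) {ι κ : Type u}
    [Fintype ι] [DecidableEq ι] [Fintype κ] [DecidableEq κ]
    (e : ι → ModSite.sect F U) (ρ : κ → ι → (ModSite.ringSh O).obj.obj (op U))
    (hgen : LocGen F U e) (hrel : LocRel F U e ρ) :
    ∃ P : (SheafOfModules.over F U).Presentation, P.IsFinite := by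
  refine exists_presentation_over F U e ρ ((locGen_iff_epi F U e).mp hgen) hrel.1 ?_
  intro V f c hc y hy
  obtain ⟨W, hW, hyW, d, hd⟩ := hrel.2 V (leOfHom f) c hc y hy
  exact ⟨W, homOfLE hW, ⟨d, hd⟩, hyW⟩

/-- finite presentation on a ringed space, in terms of local generators and relations. -/
theorem isFinitePresentation_iff (F : ModSite.Mod O) :
    SheafOfModules.IsFinitePresentation (R := ModSite.ringSh O) F ↔
      ∀ x : X, ∃ U : Opens X, x ∈ U ∧ ∃ (ι κ : Type u) (_ : Fintype ι) (_ : Fintype κ)
        (e : ι → ModSite.sect F U) (ρ : κ → ι → (ModSite.ringSh O).obj.obj (op U)),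
        LocGen F U e ∧ LocRel F U e ρ := by
  classical
  constructor
  · intro hF x
    obtain ⟨σ, hσ⟩ := SheafOfModules.IsFinitePresentation.exists_quasicoherentData F
    obtain ⟨V, f, ⟨i, ⟨g⟩⟩, hxV⟩ := σ.coversTop ⊤ x trivial
    have hfin := hσ.isFinite_presentation i
    haveI : Finite (σ.presentation i).generators.I := hfin.isFiniteType_generators.finite
    haveI : Finite (σ.presentation i).relations.I := hfin.isFiniteType_relations.finite
    letI := Fintype.ofFinite (σ.presentation i).generators.I
    letI := Fintype.ofFinite (σ.presentation i).relations.I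
    obtain ⟨ρ, hρ⟩ := exists_locRel_of_presentation F (σ.X i) (σ.presentation i)
    exact ⟨σ.X i, leOfHom g hxV, (σ.presentation i).generators.I,
      (σ.presentation i).relations.I, inferInstance, inferInstance,
      fun j => evalId F (σ.X i) ((σ.presentation i).generators.s j), ρ,
      locGen_of_generatingSections F (σ.X i) (σ.presentation i).generators, hρ⟩
  · intro h
    choose U hxU ι κ hι hκ e ρ hgen hrel using h
    have hcov : (Opens.grothendieckTopology X).CoversTop U := by
      intro W y hy
      exact ⟨W ⊓ U y, homOfLE inf_le_left, ⟨y, ⟨homOfLE inf_le_right⟩⟩, ⟨hy, hxU y⟩⟩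
    have hP : ∀ x : X, ∃ P : (SheafOfModules.over F (U x)).Presentation, P.IsFinite := by
      intro x
      letI := hι x
      letI := hκ x
      exact exists_presentation_of_locRel F (U x) (e x) (ρ x) (hgen x) (hrel x)
    choose P hPfin using hP
    let σ : @SheafOfModules.QuasicoherentData.{u, u, u, u} _ _ _ (ModSite.ringSh O) _ _ F :=
      { I := (↑X : Type u)
        X := U
        coversTop := hcov
        presentation := P }
    have hσ : σ.IsFinitePresentation := { isFinite_presentation := hPfin }
    exact { exists_quasicoherentData := ⟨σ, hσ⟩ }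

end TopFP

end Groth.Agent.LD.RSp
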