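import Mathlib
import Groth.Agent.Lib.Lead.MS.TensPres

/-! # Kernels of maps between finitely presented objects relative to a class of "free" objects with
the refinement property (abstract abelian-category part). -/

set_option autoImplicit false
universe u
open CategoryTheory Opposite Limits

namespace Groth.Agent.LD.RSp.TAK

open Groth.Agent.LD.MS

variable {𝒜 : Type*} [Category 𝒜] [Abelian 𝒜]

/-- exactness at the middle term, up to refinements. -/
def ExR {X Y Z : 𝒜} (f : X ⟶ Y) (g : Y ⟶ Z) : Prop :=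
  f ≫ g = 0 ∧ ∀ ⦃A : 𝒜⦄ (y : A ⟶ Y), y ≫ g = 0 →
    ∃ (A' : 𝒜) (p : A' ⟶ A) (_ : Epi p) (x : A' ⟶ X), p ≫ y = x ≫ f

section Basic
variable {X Y Z : 𝒜} {f : X ⟶ Y} {g : Y ⟶ Z}

lemma exR_of_isCok (h : IsCok f g) : ExR f g := by
  refine ⟨h.1, ?_⟩
  have hS : (ShortComplex.mk f g h.1).Exact :=
    ShortComplex.exact_of_g_is_cokernel _ h.isColimit
  intro A y hy
  exact hS.exact_up_to_refinements y hy

lemma isCok_of_exR (h : ExR f g) (hg : Epi g) : IsCok f g := by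
  have hS : (ShortComplex.mk f g h.1).Exact := by
    rw [ShortComplex.exact_iff_exact_up_to_refinements]
    intro A y hy
    exact h.2 y hy
  haveI : Epi (ShortComplex.mk f g h.1).g := hg
  exact IsCok.of_isColimit h.1 hS.gIsCokernel

lemma ExR.of_epi_comp {W : 𝒜} (e : W ⟶ X) [Epi e] (h : ExR f g) : ExR (e ≫ f) g := by
  refine ⟨by rw [Category.assoc, h.1, comp_zero], fun A y hy => ?_⟩
  obtain ⟨A1, p1, hp1, x, hx⟩ := h.2 y hy
  obtain ⟨A2, p2, hp2, x', hx'⟩ := surjective_up_to_refinements_of_epi e x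
  refine ⟨A2, p2 ≫ p1, epi_comp _ _, x', ?_⟩
  rw [Category.assoc, hx, ← Category.assoc, hx', Category.assoc]

/-- an epimorphism onto the kernel gives exactness. -/
lemma exR_kernel {P : 𝒜} (π : P ⟶ kernel g) [Epi π] : ExR (π ≫ kernel.ι g) g := by
  refine ⟨by rw [Category.assoc, kernel.condition, comp_zero], fun A y hy => ?_⟩
  obtain ⟨A1, p1, hp1, x, hx⟩ := surjective_up_to_refinements_of_epi π (kernel.lift g y hy)
  refine ⟨A1, p1, hp1, x, ?_⟩
  rw [← Category.assoc, ← hx, Category.assoc, kernel.lift_ι]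

lemma epi_kernel_lift (h : ExR f g) : Epi (kernel.lift g f h.1) := by
  rw [epi_iff_surjective_up_to_refinements]
  intro A y
  obtain ⟨A1, p1, hp1, x, hx⟩ := h.2 (y ≫ kernel.ι g)
    (by rw [Category.assoc, kernel.condition, comp_zero])
  refine ⟨A1, p1, hp1, x, ?_⟩
  rw [← cancel_mono (kernel.ι g), Category.assoc, hx, Category.assoc, kernel.lift_ι]

end Basic

section Main

variable {PL Q F PG' PG G P1 : 𝒜}
  (πF : PL ⟶ F) (ζ : Q ⟶ PL) (ψG : PG' ⟶ PG) (πG : PG ⟶ G)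
  (α : F ⟶ G) (β : PL ⟶ PG) (lam : Q ⟶ PG') (ε : P1 ⟶ PG')

/-- the map whose kernel presents `ker α`. -/
noncomputable abbrev del : PL ⊞ PG' ⟶ PG := biprod.desc β ψG

lemma ι_del (A : 𝒜) (y : A ⟶ kernel (del ψG β)) :
    (y ≫ kernel.ι (del ψG β) ≫ biprod.fst) ≫ β +
      (y ≫ kernel.ι (del ψG β) ≫ biprod.snd) ≫ ψG = 0 := by
  have h : y ≫ kernel.ι (del ψG β) ≫ (biprod.fst ≫ β + biprod.snd ≫ ψG) = 0 := by
    rw [← biprod.desc_eq, kernel.condition, comp_zero]
  rw [Preadditive.comp_add, Preadditive.comp_add] at h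
  simpa only [Category.assoc] using h

variable (hζ : ExR ζ πF) (hG : ExR ψG πG) (hβ : β ≫ πG = πF ≫ α) (hlam : lam ≫ ψG = ζ ≫ β)
  (hε : ExR ε ψG)

include hlam in
lemma th1_zero : biprod.lift ζ (-lam) ≫ del ψG β = 0 := by
  rw [biprod.lift_desc, Preadditive.neg_comp, hlam, add_neg_cancel]

include hε in
lemma th2_zero : biprod.lift (0 : P1 ⟶ PL) ε ≫ del ψG β = 0 := by
  rw [biprod.lift_desc, zero_comp, zero_add, hε.1]

include hG hβ in
lemma kap_zero : (kernel.ι (del ψG β) ≫ biprod.fst ≫ πF) ≫ α = 0 := by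
  have h := ι_del ψG β _ (𝟙 (kernel (del ψG β)))
  simp only [Category.id_comp] at h
  have h2 : (kernel.ι (del ψG β) ≫ biprod.fst) ≫ β =
      -((kernel.ι (del ψG β) ≫ biprod.snd) ≫ ψG) := eq_neg_of_add_eq_zero_left h
  calc (kernel.ι (del ψG β) ≫ biprod.fst ≫ πF) ≫ α
      = ((kernel.ι (del ψG β) ≫ biprod.fst) ≫ β) ≫ πG := by
        simp only [Category.assoc, hβ]
    _ = 0 := by
        rw [h2, Preadditive.neg_comp, Category.assoc, hG.1, comp_zero, neg_zero]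

/-- the first part of the relations. -/
noncomputable def th1 : Q ⟶ kernel (del ψG β) :=
  kernel.lift _ (biprod.lift ζ (-lam)) (th1_zero ζ ψG β lam hlam)

/-- the second part of the relations. -/
noncomputable def th2 : P1 ⟶ kernel (del ψG β) :=
  kernel.lift _ (biprod.lift (0 : P1 ⟶ PL) ε) (th2_zero ψG β ε hε)

/-- the map to the kernel. -/
noncomputable def kap : kernel (del ψG β) ⟶ kernel α :=
  kernel.lift α (kernel.ι (del ψG β) ≫ biprod.fst ≫ πF) (kap_zero πF ψG πG α β hG hβ)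

lemma th1_fst : th1 ζ ψG β lam hlam ≫ kernel.ι (del ψG β) ≫ biprod.fst = ζ := by
  rw [th1, ← Category.assoc, kernel.lift_ι, biprod.lift_fst]

lemma th1_snd : th1 ζ ψG β lam hlam ≫ kernel.ι (del ψG β) ≫ biprod.snd = -lam := by
  rw [th1, ← Category.assoc, kernel.lift_ι, biprod.lift_snd]

lemma th2_fst : th2 (PL := PL) ψG β ε hε ≫ kernel.ι (del ψG β) ≫ biprod.fst = 0 := by
  rw [th2, ← Category.assoc, kernel.lift_ι, biprod.lift_fst]

lemma th2_snd : th2 (PL := PL) ψG β ε hε ≫ kernel.ι (del ψG β) ≫ biprod.snd = ε := by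
  rw [th2, ← Category.assoc, kernel.lift_ι, biprod.lift_snd]

lemma kap_ι : kap πF ψG πG α β hG hβ ≫ kernel.ι α =
    kernel.ι (del ψG β) ≫ biprod.fst ≫ πF := by
  rw [kap, kernel.lift_ι]

include hG hβ in
lemma epi_kap [Epi πF] : Epi (kap πF ψG πG α β hG hβ) := by
  rw [epi_iff_surjective_up_to_refinements]
  intro A y
  obtain ⟨A1, p1, hp1, x, hx⟩ := surjective_up_to_refinements_of_epi πF (y ≫ kernel.ι α)
  have hx0 : (x ≫ β) ≫ πG = 0 := by
    rw [Category.assoc, hβ, ← Category.assoc, ← hx, Category.assoc, Category.assoc,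
      kernel.condition, comp_zero, comp_zero]
  obtain ⟨A2, p2, hp2, z, hz⟩ := hG.2 (x ≫ β) hx0
  have hw : biprod.lift (p2 ≫ x) (-z) ≫ del ψG β = 0 := by
    rw [biprod.lift_desc, Preadditive.neg_comp, Category.assoc, hz, add_neg_cancel]
  refine ⟨A2, p2 ≫ p1, epi_comp _ _, kernel.lift _ _ hw, ?_⟩
  rw [← cancel_mono (kernel.ι α)]
  simp only [Category.assoc, kap_ι, kernel.lift_ι_assoc, biprod.lift_fst_assoc]
  rw [hx]

include hζ hε in
lemma exR_th_kap :
    ExR (biprod.desc (th1 ζ ψG β lam hlam) (th2 ψG β ε hε)) (kap πF ψG πG α β hG hβ) := by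
  constructor
  · apply biprod.hom_ext'
    · rw [← Category.assoc, biprod.inl_desc, comp_zero, ← cancel_mono (kernel.ι α),
        Category.assoc, kap_ι, zero_comp]
      rw [← Category.assoc, ← Category.assoc, Category.assoc (th1 ζ ψG β lam hlam), th1_fst,
        hζ.1]
    · rw [← Category.assoc, biprod.inr_desc, comp_zero, ← cancel_mono (kernel.ι α),
        Category.assoc, kap_ι, zero_comp]
      rw [← Category.assoc, ← Category.assoc, Category.assoc (th2 ψG β ε hε), th2_fst,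
        zero_comp]
  · intro A y hy
    have hxy := ι_del ψG β A y
    have hxπ : (y ≫ kernel.ι (del ψG β) ≫ biprod.fst) ≫ πF = 0 := by
      have h1 : (y ≫ kap πF ψG πG α β hG hβ) ≫ kernel.ι α = 0 := by rw [hy, zero_comp]
      rw [Category.assoc, kap_ι] at h1
      simpa only [Category.assoc] using h1
    obtain ⟨A1, p1, hp1, q, hq⟩ := hζ.2 _ hxπ
    have hs : (p1 ≫ (y ≫ kernel.ι (del ψG β) ≫ biprod.snd) + q ≫ lam) ≫ ψG = 0 := by
      rw [Preadditive.add_comp, Category.assoc q, hlam, ← Category.assoc q, ← hq,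
        Category.assoc p1, Category.assoc p1, ← Preadditive.comp_add, add_comm, hxy, comp_zero]
    obtain ⟨A2, p2, hp2, r, hr⟩ := hε.2 _ hs
    refine ⟨A2, p2 ≫ p1, epi_comp _ _, biprod.lift (p2 ≫ q) r, ?_⟩
    rw [biprod.lift_desc, ← cancel_mono (kernel.ι (del ψG β))]
    apply biprod.hom_ext
    · simp only [Category.assoc, Preadditive.add_comp, th1_fst, th2_fst, comp_zero, add_zero]
      rw [← hq]
    · simp only [Category.assoc, Preadditive.add_comp, th1_snd, th2_snd]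
      rw [← hr]
      simp only [Preadditive.comp_add, Preadditive.comp_neg, Category.assoc]
      abel

include hζ hε in
/-- the presentation of the kernel. -/
theorem isCok_th_kap [Epi πF] :
    IsCok (biprod.desc (th1 ζ ψG β lam hlam) (th2 ψG β ε hε)) (kap πF ψG πG α β hG hβ) :=
  isCok_of_exR (exR_th_kap πF ζ ψG πG α β lam ε hζ hG hβ hlam hε)
    (epi_kap πF ψG πG α β hG hβ)

end Main

section Class

variable (Pr : 𝒜 → Prop)

/-- the refinement property of a class of objects. -/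
def Refines : Prop :=
  ∀ ⦃P N G : 𝒜⦄ (π : N ⟶ G) (_ : Epi π) (γ : P ⟶ G), Pr P →
    ∃ (P' : 𝒜) (ρ : P' ⟶ P) (β : P' ⟶ N), Pr P' ∧ Epi ρ ∧ β ≫ π = ρ ≫ γ

/-- cokernels of maps between members of the class. -/
def TA (M : 𝒜) : Prop :=
  ∃ (P' P : 𝒜) (ψ : P' ⟶ P) (π : P ⟶ M), Pr P' ∧ Pr P ∧ IsCok ψ π

variable {Pr}

lemma Refines.exact (hR : Refines Pr) {X Y Z P : 𝒜} {f : X ⟶ Y} {g : Y ⟶ Z} (h : ExR f g)
    (γ : P ⟶ Y) (hγ : γ ≫ g = 0) (hP : Pr P) :
    ∃ (P' : 𝒜) (ρ : P' ⟶ P) (β : P' ⟶ X), Pr P' ∧ Epi ρ ∧ β ≫ f = ρ ≫ γ := by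
  obtain ⟨P', ρ, β, hP', hρ, hβ⟩ := hR (kernel.lift g f h.1) (epi_kernel_lift h)
    (kernel.lift g γ hγ) hP
  refine ⟨P', ρ, β, hP', hρ, ?_⟩
  have h2 := congrArg (fun φ => φ ≫ kernel.ι g) hβ
  simpa only [Category.assoc, kernel.lift_ι] using h2

lemma TA.of_mem {P : 𝒜} (hP : Pr P) : TA Pr P := by
  refine ⟨P, P, 0, 𝟙 P, hP, hP, zero_comp, fun T k _ => ⟨k, Category.id_comp k, ?_⟩⟩
  intro y hy
  have hy' : 𝟙 P ≫ y = k := hy
  rw [← hy', Category.id_comp]

lemma TA.ofIso {M M' : 𝒜} (e : M ≅ M') (h : TA Pr M) : TA Pr M' := by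
  obtain ⟨P', P, ψ, π, hP', hP, hc⟩ := h
  exact ⟨P', P, ψ, π ≫ e.hom, hP', hP, hc.iso_tgt e⟩

/-- generators of a kernel which is a cokernel of a map in the class. -/
lemma TA.gen_kernel {X Y : 𝒜} {φ : X ⟶ Y} (h : TA Pr (kernel φ)) :
    ∃ (P1 : 𝒜) (e : P1 ⟶ X), Pr P1 ∧ ExR e φ := by
  obtain ⟨P', P, ψ, π, _, hP, hc⟩ := h
  haveI := hc.epi
  exact ⟨P, π ≫ kernel.ι φ, hP, exR_kernel π⟩

/-- **kernels**: if the class has the refinement property, is stable under binary sums, kernels of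
maps in the class are cokernels of maps in the class, and such cokernels are stable under
cokernels, then they are stable under kernels. -/
theorem TA.kernel (hR : Refines Pr) (hsum : ∀ P P' : 𝒜, Pr P → Pr P' → Pr (P ⊞ P'))
    (hK : ∀ ⦃P' P : 𝒜⦄ (φ : P' ⟶ P), Pr P' → Pr P → TA Pr (kernel φ))
    (hC : ∀ ⦃F G : 𝒜⦄ (α : F ⟶ G), TA Pr F → TA Pr G → TA Pr (cokernel α))
    {F G : 𝒜} (α : F ⟶ G) (hF : TA Pr F) (hG : TA Pr G) : TA Pr (Limits.kernel α) := by
  obtain ⟨PF', PF, ψF, πF, hPF', hPF, hcF⟩ := hF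
  obtain ⟨PG', PG, ψG, πG, hPG', hPG, hcG⟩ := hG
  haveI : Epi πF := hcF.epi
  -- step 1: lift `α` to the generators after refinement
  obtain ⟨PL, ρ, β, hPL, hρ, hβ⟩ := hR πG hcG.epi (πF ≫ α) hPF
  haveI := hρ
  -- step 2: relations for the new generators
  obtain ⟨P3, e3, hP3, he3⟩ := (hK ρ hPL hPF).gen_kernel
  obtain ⟨P2, ρ', β', hP2, hρ', hβ'⟩ := hR ρ hρ ψF hPF'
  haveI := hρ'
  have hζ0 : ExR (biprod.desc β' e3) (ρ ≫ πF) := by
    constructor
    · apply biprod.hom_ext'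
      · rw [biprod.inl_desc_assoc, comp_zero, ← Category.assoc, hβ', Category.assoc, hcF.1,
          comp_zero]
      · rw [biprod.inr_desc_assoc, comp_zero, ← Category.assoc, he3.1, zero_comp]
    · intro A x hx
      have hx' : (x ≫ ρ) ≫ πF = 0 := by rw [Category.assoc]; exact hx
      obtain ⟨A1, p1, hp1, w, hw⟩ := (exR_of_isCok hcF).2 (x ≫ ρ) hx'
      obtain ⟨A2, p2, hp2, v, hv⟩ := surjective_up_to_refinements_of_epi ρ' w
      have h0 : (p2 ≫ p1 ≫ x - v ≫ β') ≫ ρ = 0 := by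
        rw [Preadditive.sub_comp, Category.assoc, Category.assoc, hw, Category.assoc, hβ',
          ← Category.assoc v, ← hv, Category.assoc, sub_self]
      obtain ⟨A3, p3, hp3, t, ht⟩ := he3.2 _ h0
      refine ⟨A3, p3 ≫ p2 ≫ p1, epi_comp _ _, biprod.lift (p3 ≫ v) t, ?_⟩
      rw [biprod.lift_desc, ← ht, Preadditive.comp_sub]
      simp only [Category.assoc]
      abel
  -- step 3: lift the relations
  have hγ0 : (biprod.desc β' e3 ≫ β) ≫ πG = 0 := by
    rw [Category.assoc, hβ, ← Category.assoc, ← Category.assoc, Category.assoc _ ρ πF, hζ0.1,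
      zero_comp]
  obtain ⟨Q, ρ'', lam, hQ, hρ'', hlam⟩ :=
    hR.exact (exR_of_isCok hcG) (biprod.desc β' e3 ≫ β) hγ0 (hsum _ _ hP2 hP3)
  haveI := hρ''
  have hζ : ExR (ρ'' ≫ biprod.desc β' e3) (ρ ≫ πF) := hζ0.of_epi_comp ρ''
  have hlam' : lam ≫ ψG = (ρ'' ≫ biprod.desc β' e3) ≫ β := by
    rw [hlam, Category.assoc]
  -- step 4: generators of `ker ψG`
  obtain ⟨P1, ε, hP1, hε⟩ := (hK ψG hPG' hPG).gen_kernel
  -- step 5: the presentation of the kernel
  have hβ2 : β ≫ πG = (ρ ≫ πF) ≫ α := by rw [hβ, Category.assoc]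
  have hcok := isCok_th_kap (ρ ≫ πF) (ρ'' ≫ biprod.desc β' e3) ψG πG α β lam ε hζ
    (exR_of_isCok hcG) hβ2 hlam' hε
  have hKr : TA Pr (Limits.kernel (del ψG β)) := hK _ (hsum _ _ hPL hPG') hPG
  have hT := hC (biprod.desc (th1 (ρ'' ≫ biprod.desc β' e3) ψG β lam hlam') (th2 ψG β ε hε))
    (TA.of_mem (hsum _ _ hQ hP1)) hKr
  exact hT.ofIso ((hcok.isColimit.coconePointUniqueUpToIso (colimit.isColimit _)).symm)

end Class

end Groth.Agent.LD.RSp.TAK
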