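import Mathlib
import Groth.Agent.Lib.Lead.RSp.TypeA
import Groth.Agent.Lib.Lead.RSp.TypeAKer

/-! # Kernels of maps between modules of type A on a ringed site. -/

set_option autoImplicit false
universe u w w'
open CategoryTheory Opposite Limits

namespace Groth.Agent.LD.RSp.TA

open Groth.Agent.LD.RSp Groth.Agent.LD.MS Groth.Agent.LD.EZ Groth.Agent.LD.RSp.TAK

variable {C : Type u} [SmallCategory C] {J : GrothendieckTopology C}
  (O : Sheaf J CommRingCat.{u}) (B : Set C)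

/-- finite direct sums of modules `j_{U!}O_U` with `U ∈ B` (up to isomorphism). -/
def IsPB (P : ModSite.Mod O) : Prop :=
  ∃ (K : Type u) (_ : Finite K) (Y : K → C), (∀ k, Y k ∈ B) ∧ Nonempty (P ≅ PB O Y)

lemma isPB_PB {K : Type u} [Finite K] (Y : K → C) (hY : ∀ k, Y k ∈ B) : IsPB O B (PB O Y) :=
  ⟨K, inferInstance, Y, hY, ⟨Iso.refl _⟩⟩

lemma isPB_of_finite {K : Type w} [Finite K] (Y : K → C) (hY : ∀ k, Y k ∈ B) :
    IsPB O B (PB O Y) := by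
  let e : ULift.{u} (Fin (Nat.card K)) ≃ K := Equiv.ulift.trans (Finite.equivFin K).symm
  exact ⟨ULift.{u} (Fin (Nat.card K)), inferInstance, fun k => Y (e k), fun k => hY _,
    ⟨(Sigma.reindex e (fun k => ModSite.freeOn O (Y k))).symm⟩⟩

variable {O B} in
lemma IsPB.exists_fin {P : ModSite.Mod O} (h : IsPB O B P) :
    ∃ (n : ℕ) (Y : Fin n → C), (∀ k, Y k ∈ B) ∧ Nonempty (P ≅ PB O Y) := by
  obtain ⟨K, hK, Y, hY, ⟨e⟩⟩ := h
  haveI := hK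
  let ε : Fin (Nat.card K) ≃ K := (Finite.equivFin K).symm
  exact ⟨Nat.card K, fun i => Y (ε i), fun i => hY _,
    ⟨e ≪≫ (Sigma.reindex ε (fun k => ModSite.freeOn O (Y k))).symm⟩⟩

lemma nonempty_sumIso {L K' : Type u} [Finite L] [Finite K'] (Y : L → C) (V : K' → C) :
    Nonempty (PB O Y ⊞ PB O V ≅ PB O (Sum.elim Y V)) := by
  let f₁ : L → ModSite.Mod O := fun l => ModSite.freeOn O (Y l)
  let f₂ : K' → ModSite.Mod O := fun j => ModSite.freeOn O (V j)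
  have hc := Cofan.combPairIsColimit (coproductIsCoproduct f₁) (coproductIsCoproduct f₂)
    (BinaryBiproduct.isColimit (∐ f₁) (∐ f₂))
  let e1 : (∐ f₁) ⊞ (∐ f₂) ≅ ∐ (Sum.elim f₁ f₂) :=
    hc.coconePointUniqueUpToIso (coproductIsCoproduct _)
  let e2 : ∐ (Sum.elim f₁ f₂) ≅ ∐ (fun x => ModSite.freeOn O (Sum.elim Y V x)) :=
    Sigma.mapIso (fun x => match x with
      | Sum.inl l => Iso.refl _
      | Sum.inr j => Iso.refl _)
  exact ⟨e1 ≪≫ e2⟩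

lemma isPB_biprod (P P' : ModSite.Mod O) (hP : IsPB O B P) (hP' : IsPB O B P') :
    IsPB O B (P ⊞ P') := by
  obtain ⟨K, hK, Y, hY, ⟨e⟩⟩ := hP
  obtain ⟨K', hK', Y', hY', ⟨e'⟩⟩ := hP'
  haveI := hK
  haveI := hK'
  refine ⟨K ⊕ K', inferInstance, Sum.elim Y Y', ?_,
    ⟨biprod.mapIso e e' ≪≫ (nonempty_sumIso O Y Y').some⟩⟩
  rintro (k | k)
  exacts [hY k, hY' k]

lemma refines_isPB
    (hB₁ : ∀ X : C, ∃ (κ : Type u) (Y : κ → C) (g : ∀ k, Y k ⟶ X),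
      Sieve.ofArrows Y g ∈ J X ∧ ∀ k, Y k ∈ B)
    (hB₂ : ∀ U ∈ B, CohCx.IsQcObject ((presheafToSheaf J (Type u)).obj (yoneda.obj U))) :
    Refines (IsPB O B) := by
  intro P N G π hπ γ hP
  obtain ⟨K, hK, U, hU, ⟨e⟩⟩ := hP
  haveI := hK
  haveI := hπ
  obtain ⟨L, hL, Y, ρ, β, hY, hρ, hβ⟩ := exists_refinement O B hB₁ hB₂ U hU π (e.inv ≫ γ)
  haveI := hL
  haveI := hρ
  refine ⟨PB O Y, ρ ≫ e.inv, β, isPB_PB O B Y hY, epi_comp _ _, ?_⟩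
  rw [hβ, Category.assoc]

variable {O B} in
lemma ta_of_typeA {M : ModSite.Mod O} (h : TypeA O B M) : TA (IsPB O B) M := by
  obtain ⟨m', n', h'⟩ := h.toPresByB O
  obtain ⟨V, U, ψ, π, hV, hU, hc⟩ := h'
  exact ⟨PB O V, PB O U, ψ, π, isPB_of_finite O B V hV, isPB_of_finite O B U hU, hc⟩

variable {O B} in
lemma typeA_of_ta {M : ModSite.Mod O} (h : TA (IsPB O B) M) : TypeA O B M := by
  obtain ⟨P', P, ψ, π, hP', hP, hc⟩ := h
  obtain ⟨m, V, hV, ⟨e'⟩⟩ := hP'.exists_fin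
  obtain ⟨n, U, hU, ⟨e⟩⟩ := hP.exists_fin
  have hc' : IsCok (e'.inv ≫ ψ ≫ e.hom) (e.inv ≫ π) := (hc.iso_mid e).of_epi_comp e'.inv
  exact PresByB.toTypeA O ⟨V, U, e'.inv ≫ ψ ≫ e.hom, e.inv ≫ π, hV, hU, hc'⟩

lemma ta_kernel_of_hker
    (hker : ∀ (m n : ℕ) (V : Fin m → C) (U : Fin n → C)
      (φ : (∐ fun j => ModSite.freeOn O (V j)) ⟶ ∐ fun i => ModSite.freeOn O (U i)),
      (∀ j, V j ∈ B) → (∀ i, U i ∈ B) → TypeA O B (kernel φ)) :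
    ∀ ⦃P' P : ModSite.Mod O⦄ (φ : P' ⟶ P), IsPB O B P' → IsPB O B P →
      TA (IsPB O B) (kernel φ) := by
  intro P' P φ hP' hP
  obtain ⟨m, V, hV, ⟨e'⟩⟩ := hP'.exists_fin
  obtain ⟨n, U, hU, ⟨e⟩⟩ := hP.exists_fin
  have h := hker m n V U (e'.inv ≫ φ ≫ e.hom) hV hU
  refine (ta_of_typeA h).ofIso (kernel.mapIso _ _ e'.symm e.symm ?_)
  simp

lemma ta_cokernel
    (hB₁ : ∀ X : C, ∃ (κ : Type u) (Y : κ → C) (g : ∀ k, Y k ⟶ X),
      Sieve.ofArrows Y g ∈ J X ∧ ∀ k, Y k ∈ B)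
    (hB₂ : ∀ U ∈ B, CohCx.IsQcObject ((presheafToSheaf J (Type u)).obj (yoneda.obj U))) :
    ∀ ⦃F G : ModSite.Mod O⦄ (α : F ⟶ G), TA (IsPB O B) F → TA (IsPB O B) G →
      TA (IsPB O B) (cokernel α) :=
  fun _ _ α hF hG =>
    ta_of_typeA (typeA_cokernel O hB₁ hB₂ α (typeA_of_ta hF) (typeA_of_ta hG))

/-- **S9117**: kernels of maps between modules of type A are of type A, provided kernels of maps
between finite sums of `j_{U!}O_U` (`U ∈ B`) are. -/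
theorem typeA_kernel
    (hB₁ : ∀ X : C, ∃ (κ : Type u) (Y : κ → C) (g : ∀ k, Y k ⟶ X),
      Sieve.ofArrows Y g ∈ J X ∧ ∀ k, Y k ∈ B)
    (hB₂ : ∀ U ∈ B, CohCx.IsQcObject ((presheafToSheaf J (Type u)).obj (yoneda.obj U)))
    (hker : ∀ (m n : ℕ) (V : Fin m → C) (U : Fin n → C)
      (φ : (∐ fun j => ModSite.freeOn O (V j)) ⟶ ∐ fun i => ModSite.freeOn O (U i)),
      (∀ j, V j ∈ B) → (∀ i, U i ∈ B) → TypeA O B (kernel φ))
    {F G : ModSite.Mod O} (α : F ⟶ G) (hF : TypeA O B F) (hG : TypeA O B G) :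
    TypeA O B (kernel α) :=
  typeA_of_ta (TA.kernel (refines_isPB O B hB₁ hB₂) (isPB_biprod O B)
    (ta_kernel_of_hker O B hker) (ta_cokernel O B hB₁ hB₂) α (ta_of_typeA hF) (ta_of_typeA hG))

end Groth.Agent.LD.RSp.TA
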