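import Mathlib
import Groth.Agent.Lib.Lead.RSp.TypeAKer2

/-! # Every module on a ringed site with a basis of quasi-compact objects is a filtered colimit of
modules of type A. -/

set_option autoImplicit false
universe u w w'
open CategoryTheory Opposite Limits

namespace Groth.Agent.LD.RSp.TAK

open Groth.Agent.LD.MS

variable {𝒜 : Type*} [Category 𝒜] [Abelian 𝒜] {Pr : 𝒜 → Prop}

lemma isCok_biprod_map {P1' P1 M1 P2' P2 M2 : 𝒜} {ψ1 : P1' ⟶ P1} {π1 : P1 ⟶ M1}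
    {ψ2 : P2' ⟶ P2} {π2 : P2 ⟶ M2} (h1 : IsCok ψ1 π1) (h2 : IsCok ψ2 π2) :
    IsCok (biprod.map ψ1 ψ2) (biprod.map π1 π2) := by
  refine ⟨?_, fun T k hk => ?_⟩
  · apply biprod.hom_ext'
    · rw [biprod.inl_map_assoc, biprod.inl_map, ← Category.assoc, h1.1, zero_comp, comp_zero]
    · rw [biprod.inr_map_assoc, biprod.inr_map, ← Category.assoc, h2.1, zero_comp, comp_zero]
  · have hk1 : ψ1 ≫ (biprod.inl ≫ k) = 0 := by
      have e : (biprod.inl ≫ biprod.map ψ1 ψ2) ≫ k = 0 := by rw [Category.assoc, hk, comp_zero]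
      rw [biprod.inl_map, Category.assoc] at e
      exact e
    have hk2 : ψ2 ≫ (biprod.inr ≫ k) = 0 := by
      have e : (biprod.inr ≫ biprod.map ψ1 ψ2) ≫ k = 0 := by rw [Category.assoc, hk, comp_zero]
      rw [biprod.inr_map, Category.assoc] at e
      exact e
    obtain ⟨l1, hl1, u1⟩ := h1.2 _ hk1
    obtain ⟨l2, hl2, u2⟩ := h2.2 _ hk2
    have hl1' : π1 ≫ l1 = biprod.inl ≫ k := hl1
    have hl2' : π2 ≫ l2 = biprod.inr ≫ k := hl2
    refine ⟨biprod.desc l1 l2, ?_, ?_⟩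
    · show biprod.map π1 π2 ≫ biprod.desc l1 l2 = k
      apply biprod.hom_ext'
      · rw [biprod.inl_map_assoc, biprod.inl_desc, hl1']
      · rw [biprod.inr_map_assoc, biprod.inr_desc, hl2']
    · intro y hy
      have hy' : biprod.map π1 π2 ≫ y = k := hy
      apply biprod.hom_ext'
      · rw [biprod.inl_desc]
        apply u1
        show π1 ≫ biprod.inl ≫ y = biprod.inl ≫ k
        rw [← hy', biprod.inl_map_assoc]
      · rw [biprod.inr_desc]
        apply u2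
        show π2 ≫ biprod.inr ≫ y = biprod.inr ≫ k
        rw [← hy', biprod.inr_map_assoc]

lemma TA.biprod (hsum : ∀ P P' : 𝒜, Pr P → Pr P' → Pr (P ⊞ P')) {M M' : 𝒜} (h : TA Pr M)
    (h' : TA Pr M') : TA Pr (M ⊞ M') := by
  obtain ⟨P1', P1, ψ1, π1, hP1', hP1, hc1⟩ := h
  obtain ⟨P2', P2, ψ2, π2, hP2', hP2, hc2⟩ := h'
  exact ⟨P1' ⊞ P2', P1 ⊞ P2, biprod.map ψ1 ψ2, biprod.map π1 π2, hsum _ _ hP1' hP2',
    hsum _ _ hP1 hP2, isCok_biprod_map hc1 hc2⟩

end Groth.Agent.LD.RSp.TAK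

namespace Groth.Agent.LD.RSp.TA

open Groth.Agent.LD.RSp Groth.Agent.LD.MS Groth.Agent.LD.EZ Groth.Agent.LD.RSp.TAK

section General
variable {C : Type u} [SmallCategory C] {J : GrothendieckTopology C}

lemma hom_ext_sections {R : Sheaf J RingCat.{u}} {M N : SheafOfModules.{u} R} (f g : M ⟶ N)
    (h : ∀ (W : C) (x : M.val.obj (op W)), f.val.app (op W) x = g.val.app (op W) x) : f = g := by
  apply SheafOfModules.hom_ext
  apply PresheafOfModules.hom_ext
  intro Y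
  apply ModuleCat.hom_ext
  apply LinearMap.ext
  intro z
  exact h Y.unop z

variable (O : Sheaf J CommRingCat.{u})

lemma ofSec_zero {U : C} (M : ModSite.Mod O) : ofSec O M (0 : M.val.obj (op U)) = 0 := by
  apply (freeOnEquiv O U M).injective
  rw [ofSec, Equiv.apply_symm_apply]
  have h := freeOnEquiv_comp O U (𝟙 (ModSite.freeOn O U)) (0 : ModSite.freeOn O U ⟶ M)
  rw [comp_zero] at h
  exact (h.trans rfl).symm

lemma ofSec_app_uSec {U : C} (M : ModSite.Mod O) (s : M.val.obj (op U)) :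
    (ofSec O M s).val.app (op U) (uSec O U) = s := by
  rw [app_uSec]
  exact (freeOnEquiv O U M).apply_symm_apply s

variable (B : Set C)

variable {O B} in
lemma TypeA.ofIso {M M' : ModSite.Mod O} (e : M ≅ M') (h : TypeA O B M) : TypeA O B M' := by
  obtain ⟨m, n, V, U, ψ, hV, hU, ⟨e'⟩⟩ := h
  exact ⟨m, n, V, U, ψ, hV, hU, ⟨e.symm ≪≫ e'⟩⟩

variable {O B} in
lemma typeA_biprod {M M' : ModSite.Mod O} (h : TypeA O B M) (h' : TypeA O B M') :
    TypeA O B (M ⊞ M') :=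
  typeA_of_ta (TA.biprod (isPB_biprod O B) (ta_of_typeA h) (ta_of_typeA h'))

lemma typeA_PB {K : Type w} [Finite K] (Y : K → C) (hY : ∀ k, Y k ∈ B) : TypeA O B (PB O Y) :=
  typeA_of_ta (TA.of_mem (isPB_of_finite O B Y hY))

lemma typeA_freeOn {U : C} (hU : U ∈ B) : TypeA O B (ModSite.freeOn O U) :=
  (typeA_PB O B (fun _ : PUnit.{1} => U) (fun _ => hU)).ofIso
    (coproductUniqueIso (fun _ : PUnit.{1} => ModSite.freeOn O U))

end General

section Colim
variable {C : Type u} [SmallCategory C] {J : GrothendieckTopology C}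
  (O : Sheaf J CommRingCat.{u}) (B : Set C) (F : ModSite.Mod O)

/-- the index category: presentations of type A together with a map to `F`. -/
structure Idx : Type u where
  /-- number of relations -/
  m : ℕ
  /-- number of generators -/
  n : ℕ
  /-- objects for the relations -/
  V : Fin m → C
  /-- objects for the generators -/
  U : Fin n → C
  hV : ∀ j, V j ∈ B
  hU : ∀ i, U i ∈ B
  /-- the presentation -/
  ψ : (∐ fun j => ModSite.freeOn O (V j)) ⟶ ∐ fun i => ModSite.freeOn O (U i)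
  /-- the map to `F` -/
  φ : cokernel ψ ⟶ F

noncomputable instance : Category.{u} (Idx O B F) where
  Hom l l' := {h : cokernel l.ψ ⟶ cokernel l'.ψ // h ≫ l'.φ = l.φ}
  id l := ⟨𝟙 _, Category.id_comp _⟩
  comp f g := ⟨f.1 ≫ g.1, by rw [Category.assoc, g.2, f.2]⟩
  id_comp _ := Subtype.ext (Category.id_comp _)
  comp_id _ := Subtype.ext (Category.comp_id _)
  assoc _ _ _ := Subtype.ext (Category.assoc _ _ _)

/-- the tautological diagram. -/
noncomputable def Dfun : Idx O B F ⥤ ModSite.Mod O where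
  obj l := cokernel l.ψ
  map f := f.1
  map_id _ := rfl
  map_comp _ _ := rfl

/-- the tautological cocone. -/
noncomputable def ιfun : Dfun O B F ⟶ (Functor.const (Idx O B F)).obj F where
  app l := l.φ
  naturality l l' f := by
    show f.1 ≫ l'.φ = l.φ ≫ 𝟙 F
    rw [f.2, Category.comp_id]

lemma typeA_D (l : Idx O B F) : TypeA O B (cokernel l.ψ) :=
  ⟨l.m, l.n, l.V, l.U, l.ψ, l.hV, l.hU, ⟨Iso.refl _⟩⟩

/-- an index presenting a given module of type A over `F`. -/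
structure IdxFor {T : ModSite.Mod O} (φ : T ⟶ F) where
  /-- the index -/
  l : Idx O B F
  /-- the identification -/
  e : cokernel l.ψ ≅ T
  he : l.φ = e.hom ≫ φ

lemma nonempty_idxFor {T : ModSite.Mod O} (hT : TypeA O B T) (φ : T ⟶ F) :
    Nonempty (IdxFor O B F φ) := by
  obtain ⟨m, n, V, U, ψ, hV, hU, ⟨e⟩⟩ := hT
  exact ⟨⟨⟨m, n, V, U, hV, hU, ψ, e.inv ≫ φ⟩, e.symm, rfl⟩⟩

variable {O B F}

/-- the component of a cocone, with source written as a cokernel. -/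
noncomputable def sι (s : Cocone (Dfun O B F)) (l : Idx O B F) : cokernel l.ψ ⟶ s.pt :=
  s.ι.app l

lemma sι_w (s : Cocone (Dfun O B F)) {l l' : Idx O B F} (f : l ⟶ l') :
    f.1 ≫ sι s l' = sι s l := s.w f

lemma idxFor_eq (s : Cocone (Dfun O B F)) {T : ModSite.Mod O} {φ : T ⟶ F}
    (d d' : IdxFor O B F φ) : d.e.inv ≫ sι s d.l = d'.e.inv ≫ sι s d'.l := by
  have hk : (d.e.hom ≫ d'.e.inv) ≫ d'.l.φ = d.l.φ := by
    rw [d'.he, d.he, Category.assoc, Iso.inv_hom_id_assoc]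
  have hw := sι_w s (⟨d.e.hom ≫ d'.e.inv, hk⟩ : d.l ⟶ d'.l)
  have hw' : (d.e.hom ≫ d'.e.inv) ≫ sι s d'.l = sι s d.l := hw
  rw [← hw', Category.assoc, Iso.inv_hom_id_assoc]

/-- the cocone extended to all modules of type A over `F`. -/
noncomputable def cT (s : Cocone (Dfun O B F)) {T : ModSite.Mod O} (hT : TypeA O B T)
    (φ : T ⟶ F) : T ⟶ s.pt :=
  (nonempty_idxFor O B F hT φ).some.e.inv ≫ sι s (nonempty_idxFor O B F hT φ).some.l

lemma cT_eq (s : Cocone (Dfun O B F)) {T : ModSite.Mod O} (hT : TypeA O B T) (φ : T ⟶ F)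
    (d : IdxFor O B F φ) : cT s hT φ = d.e.inv ≫ sι s d.l :=
  idxFor_eq s _ d

lemma cT_nat (s : Cocone (Dfun O B F)) {T T' : ModSite.Mod O} (hT : TypeA O B T)
    (hT' : TypeA O B T') (φ : T ⟶ F) (φ' : T' ⟶ F) (h : T ⟶ T') (hh : h ≫ φ' = φ) :
    h ≫ cT s hT' φ' = cT s hT φ := by
  obtain ⟨d⟩ := nonempty_idxFor O B F hT φ
  obtain ⟨d'⟩ := nonempty_idxFor O B F hT' φ'
  rw [cT_eq s hT φ d, cT_eq s hT' φ' d']
  have hk : (d.e.hom ≫ h ≫ d'.e.inv) ≫ d'.l.φ = d.l.φ := by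
    rw [d'.he, d.he, Category.assoc, Category.assoc, Iso.inv_hom_id_assoc, hh]
  have hw : (d.e.hom ≫ h ≫ d'.e.inv) ≫ sι s d'.l = sι s d.l :=
    sι_w s (⟨d.e.hom ≫ h ≫ d'.e.inv, hk⟩ : d.l ⟶ d'.l)
  rw [← hw]
  simp only [Category.assoc, Iso.inv_hom_id_assoc]

variable (O B F)

/-- generators: sections of `F` over members of `B`. -/
abbrev Gen : Type u := Σ U : {U : C // U ∈ B}, F.val.obj (op U.1)

/-- the summand of a generator. -/
noncomputable abbrev genF (a : Gen O B F) : ModSite.Mod O := ModSite.freeOn O a.1.1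

/-- the sum over all generators. -/
noncomputable abbrev Sig0 : ModSite.Mod O := ∐ (genF O B F)

/-- the canonical epimorphism. -/
noncomputable def pmap : Sig0 O B F ⟶ F := Sigma.desc (fun a => ofSec O F a.2)

lemma ι_pmap (a : Gen O B F) : Sigma.ι (genF O B F) a ≫ pmap O B F = ofSec O F a.2 :=
  Sigma.ι_desc _ _

lemma epi_pmap
    (hB₁ : ∀ X : C, ∃ (κ : Type u) (Y : κ → C) (g : ∀ k, Y k ⟶ X),
      Sieve.ofArrows Y g ∈ J X ∧ ∀ k, Y k ∈ B) : Epi (pmap O B F) := by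
  apply epi_of_exists_sieve
  intro W t
  obtain ⟨κ, Y, g, hcov, hYB⟩ := hB₁ W
  refine ⟨Sieve.ofArrows Y g, hcov, ?_⟩
  intro V f hf
  have hf' : Sieve.ofArrows Y g f := hf
  rw [Sieve.mem_ofArrows_iff] at hf'
  obtain ⟨k, a, rfl⟩ := hf'
  refine ⟨rs (Sig0 O B F) a ((Sigma.ι (genF O B F)
    (⟨⟨Y k, hYB k⟩, rs F (g k) t⟩ : Gen O B F)).val.app (op (Y k)) (uSec O (Y k))), ?_⟩
  rw [app_rs, ← rs_rs]
  congr 1
  have h : (Sigma.ι (genF O B F) (⟨⟨Y k, hYB k⟩, rs F (g k) t⟩ : Gen O B F) ≫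
      pmap O B F).val.app (op (Y k)) (uSec O (Y k)) = rs F (g k) t := by
    rw [ι_pmap]
    exact ofSec_app_uSec O F _
  exact h

variable {O B F}

/-- the map induced by a cocone on the sum over all generators. -/
noncomputable def m0 (s : Cocone (Dfun O B F)) : Sig0 O B F ⟶ s.pt :=
  Sigma.desc (fun a => cT s (typeA_freeOn O B a.1.2) (ofSec O F a.2))

lemma ι_m0 (s : Cocone (Dfun O B F)) (a : Gen O B F) :
    Sigma.ι (genF O B F) a ≫ m0 s = cT s (typeA_freeOn O B a.1.2) (ofSec O F a.2) :=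
  Sigma.ι_desc _ _

section Kills
variable
    (hB₁ : ∀ X : C, ∃ (κ : Type u) (Y : κ → C) (g : ∀ k, Y k ⟶ X),
      Sieve.ofArrows Y g ∈ J X ∧ ∀ k, Y k ∈ B)
    (hB₂ : ∀ U ∈ B, CohCx.IsQcObject ((presheafToSheaf J (Type u)).obj (yoneda.obj U)))
    (s : Cocone (Dfun O B F))

include hB₁ hB₂ in
lemma m0_kills_aux {V : C} (hV : V ∈ B) {K : Type u} [Finite K] (Y : K → Gen O B F)
    (inclS : PB O (fun k => (Y k).1.1) ⟶ Sig0 O B F)
    (hincl : ∀ k : K, Sigma.ι (fun k => ModSite.freeOn O (Y k).1.1) k ≫ inclS =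
        Sigma.ι (genF O B F) (Y k))
    (rS : ModSite.freeOn O V ⟶ PB O (fun k => (Y k).1.1))
    (hφ : rS ≫ (inclS ≫ pmap O B F) = 0) : rS ≫ inclS ≫ m0 s = 0 := by
  have hPS : TypeA O B (PB O (fun k => (Y k).1.1)) := typeA_PB O B _ (fun k => (Y k).1.2)
  have hT' : TypeA O B (cokernel rS) :=
    typeA_cokernel O hB₁ hB₂ rS (typeA_freeOn O B hV) hPS
  have n1 := cT_nat s hPS hT' (inclS ≫ pmap O B F)
    (cokernel.desc rS (inclS ≫ pmap O B F) hφ) (cokernel.π rS) (cokernel.π_desc _ _ _)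
  have n2 : inclS ≫ m0 s = cT s hPS (inclS ≫ pmap O B F) := by
    apply Sigma.hom_ext
    intro k
    rw [← Category.assoc, hincl, ι_m0,
      cT_nat s (typeA_freeOn O B (Y k).1.2) hPS
        (Sigma.ι (fun k => ModSite.freeOn O (Y k).1.1) k ≫ inclS ≫ pmap O B F)
        (inclS ≫ pmap O B F) (Sigma.ι (fun k => ModSite.freeOn O (Y k).1.1) k) rfl]
    congr 1
    rw [← Category.assoc, hincl, ι_pmap]
  rw [n2, ← n1, ← Category.assoc, cokernel.condition, zero_comp]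

include hB₁ hB₂ in
lemma m0_kills {V : C} (hV : V ∈ B) (r : (Sig0 O B F).val.obj (op V))
    (hr : (pmap O B F).val.app (op V) r = 0) : (m0 s).val.app (op V) r = 0 := by
  classical
  obtain ⟨S, hS⟩ := SC.coprod_sections_surj (genF O B F) V (hB₂ V hV) r
  obtain ⟨inclS, hincl⟩ : ∃ inclS : PB O (fun k : ↥S => k.1.1.1) ⟶ Sig0 O B F,
      inclS = Sigma.desc (fun k : ↥S => Sigma.ι (genF O B F) k.1) := ⟨_, rfl⟩
  have hincl' : ∀ k : ↥S, Sigma.ι (fun k : ↥S => ModSite.freeOn O k.1.1.1) k ≫ inclS =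
      Sigma.ι (genF O B F) k.1 := fun k => by rw [hincl]; exact Sigma.ι_desc _ _
  obtain ⟨xS, hxS⟩ : ∃ xS : (PB O (fun k : ↥S => k.1.1.1)).val.obj (op V),
      xS = ∑ k : ↥S, (Sigma.ι (fun k : ↥S => ModSite.freeOn O k.1.1.1) k).val.app (op V)
        ((Sigma.π (genF O B F) k.1).val.app (op V) r) := ⟨_, rfl⟩
  have hx : inclS.val.app (op V) xS = r := by
    have e1 : inclS.val.app (op V) xS = ∑ k : ↥S,
        (Sigma.ι (genF O B F) k.1).val.app (op V)
          ((Sigma.π (genF O B F) k.1).val.app (op V) r) := by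
      rw [hxS, map_sum]
      refine Finset.sum_congr rfl fun k _ => ?_
      show (Sigma.ι (fun k : ↥S => ModSite.freeOn O k.1.1.1) k ≫ inclS).val.app (op V) _ = _
      rw [hincl']
    rw [e1, Finset.sum_coe_sort S (fun a => (Sigma.ι (genF O B F) a).val.app (op V)
      ((Sigma.π (genF O B F) a).val.app (op V) r))]
    exact hS.symm
  have hrS : ofSec O _ xS ≫ inclS = ofSec O _ r := by rw [ofSec_comp, hx]
  have hφS : ofSec O (PB O (fun k : ↥S => k.1.1.1)) xS ≫ (inclS ≫ pmap O B F) = 0 := by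
    rw [← Category.assoc, hrS, ofSec_comp, hr, ofSec_zero]
  have h0 : ofSec O (PB O (fun k : ↥S => k.1.1.1)) xS ≫ inclS ≫ m0 s = 0 :=
    m0_kills_aux hB₁ hB₂ s hV (fun k : ↥S => k.1) inclS hincl' _ hφS
  have h1 : ofSec O _ r ≫ m0 s = 0 := by rw [← hrS, Category.assoc, h0]
  rw [ofSec_comp] at h1
  apply ofSec_injective O s.pt
  rw [h1, ofSec_zero]

include hB₁ hB₂ in
lemma kernel_m0 : kernel.ι (pmap O B F) ≫ m0 s = 0 := by
  apply hom_ext_sections
  intro W x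
  show (m0 s).val.app (op W) ((kernel.ι (pmap O B F)).val.app (op W) x) = 0
  have hy : (pmap O B F).val.app (op W) ((kernel.ι (pmap O B F)).val.app (op W) x) = 0 := by
    have h : (kernel.ι (pmap O B F) ≫ pmap O B F).val.app (op W) x = 0 := by
      rw [kernel.condition]
      rfl
    exact h
  obtain ⟨κ, Y, g, hcov, hYB⟩ := hB₁ W
  apply eq_of_ofArrows s.pt Y g hcov
  intro k
  rw [rs_zero, ← app_rs]
  apply m0_kills hB₁ hB₂ s (hYB k)
  rw [app_rs, hy, rs_zero]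

/-- the induced map out of `F`. -/
noncomputable def mOf : F ⟶ s.pt :=
  haveI := epi_pmap O B F hB₁
  Abelian.epiDesc (pmap O B F) (m0 s) (kernel_m0 hB₁ hB₂ s)

lemma pmap_mOf : pmap O B F ≫ mOf hB₁ hB₂ s = m0 s := by
  haveI := epi_pmap O B F hB₁
  exact Abelian.comp_epiDesc _ _ _

end Kills

lemma good_PB (s : Cocone (Dfun O B F)) (m : F ⟶ s.pt) (hm : pmap O B F ≫ m = m0 s) {n : ℕ}
    (U : Fin n → C) (hU : ∀ i, U i ∈ B) (φP : PB O U ⟶ F) :
    φP ≫ m = cT s (typeA_PB O B U hU) φP := by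
  apply Sigma.hom_ext
  intro i
  rw [cT_nat s (typeA_freeOn O B (hU i)) (typeA_PB O B U hU)
    (Sigma.ι (fun i => ModSite.freeOn O (U i)) i ≫ φP) φP
    (Sigma.ι (fun i => ModSite.freeOn O (U i)) i) rfl]
  obtain ⟨σ, hσ⟩ : ∃ σ : F.val.obj (op (U i)),
      Sigma.ι (fun i => ModSite.freeOn O (U i)) i ≫ φP = ofSec O F σ :=
    ⟨_, (ofSec_freeOnEquiv O F _).symm⟩
  rw [← Category.assoc, hσ]
  have h1 := ι_pmap O B F (⟨⟨U i, hU i⟩, σ⟩ : Gen O B F)
  have h2 := ι_m0 s (⟨⟨U i, hU i⟩, σ⟩ : Gen O B F)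
  have h1' : Sigma.ι (genF O B F) (⟨⟨U i, hU i⟩, σ⟩ : Gen O B F) ≫ pmap O B F = ofSec O F σ :=
    h1
  have h2' : Sigma.ι (genF O B F) (⟨⟨U i, hU i⟩, σ⟩ : Gen O B F) ≫ m0 s =
      cT s (typeA_freeOn O B (hU i)) (ofSec O F σ) := h2
  calc ofSec O F σ ≫ m
      = (Sigma.ι (genF O B F) (⟨⟨U i, hU i⟩, σ⟩ : Gen O B F) ≫ pmap O B F) ≫ m := by rw [h1']
    _ = Sigma.ι (genF O B F) (⟨⟨U i, hU i⟩, σ⟩ : Gen O B F) ≫ m0 s := by
        rw [Category.assoc, hm]
    _ = cT s (typeA_freeOn O B (hU i)) (ofSec O F σ) := h2'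

lemma good_of_pmap (s : Cocone (Dfun O B F)) (m : F ⟶ s.pt) (hm : pmap O B F ≫ m = m0 s)
    {T : ModSite.Mod O} (hT : TypeA O B T) (φ : T ⟶ F) : φ ≫ m = cT s hT φ := by
  obtain ⟨m', n', hP⟩ := hT.toPresByB O
  obtain ⟨V, U, ψ, π, hV, hU, hc⟩ := hP
  haveI := hc.epi
  rw [← cancel_epi π, ← Category.assoc, good_PB s m hm U hU (π ≫ φ)]
  exact (cT_nat s (typeA_PB O B U hU) hT (π ≫ φ) φ π rfl).symm

section Final
variable
    (hB₁ : ∀ X : C, ∃ (κ : Type u) (Y : κ → C) (g : ∀ k, Y k ⟶ X),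
      Sieve.ofArrows Y g ∈ J X ∧ ∀ k, Y k ∈ B)
    (hB₂ : ∀ U ∈ B, CohCx.IsQcObject ((presheafToSheaf J (Type u)).obj (yoneda.obj U)))

include hB₁ hB₂ in
theorem isColimit_cocone : Nonempty (IsColimit (Cocone.mk F (ιfun O B F))) := by
  refine ⟨{ desc := fun s => mOf hB₁ hB₂ s, fac := ?_, uniq := ?_ }⟩
  · intro s l
    show l.φ ≫ mOf hB₁ hB₂ s = sι s l
    rw [good_of_pmap s _ (pmap_mOf hB₁ hB₂ s) (typeA_D O B F l) l.φ,
      cT_eq s (typeA_D O B F l) l.φ ⟨l, Iso.refl _, (Category.id_comp _).symm⟩]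
    exact Category.id_comp _
  · intro s m' hm'
    haveI := epi_pmap O B F hB₁
    rw [← cancel_epi (pmap O B F), pmap_mOf]
    apply Sigma.hom_ext
    intro a
    rw [← Category.assoc, ι_pmap, ι_m0]
    obtain ⟨d⟩ := nonempty_idxFor O B F (typeA_freeOn O B a.1.2) (ofSec O F a.2)
    have hm'' : d.l.φ ≫ m' = sι s d.l := hm' d.l
    rw [cT_eq s _ _ d, ← hm'', d.he, Category.assoc, Iso.inv_hom_id_assoc]

include hB₁ hB₂ in
lemma isFiltered_idx : IsFiltered (Idx O B F) := by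
  haveI : Nonempty (Idx O B F) :=
    ⟨⟨0, 0, Fin.elim0, Fin.elim0, fun j => j.elim0, fun i => i.elim0, 0, 0⟩⟩
  haveI : IsFilteredOrEmpty (Idx O B F) := by
    constructor
    · intro l1 l2
      obtain ⟨d⟩ := nonempty_idxFor O B F
        (typeA_biprod (typeA_D O B F l1) (typeA_D O B F l2)) (biprod.desc l1.φ l2.φ)
      refine ⟨d.l, ⟨biprod.inl ≫ d.e.inv, ?_⟩, ⟨biprod.inr ≫ d.e.inv, ?_⟩, trivial⟩
      · rw [d.he, Category.assoc, Iso.inv_hom_id_assoc, biprod.inl_desc]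
      · rw [d.he, Category.assoc, Iso.inv_hom_id_assoc, biprod.inr_desc]
    · intro l1 l2 f g
      have h0 : (f.1 - g.1) ≫ l2.φ = 0 := by rw [Preadditive.sub_comp, f.2, g.2, sub_self]
      obtain ⟨d⟩ := nonempty_idxFor O B F
        (typeA_cokernel O hB₁ hB₂ (f.1 - g.1) (typeA_D O B F l1) (typeA_D O B F l2))
        (cokernel.desc (f.1 - g.1) l2.φ h0)
      refine ⟨d.l, ⟨cokernel.π _ ≫ d.e.inv, ?_⟩, ?_⟩
      · rw [d.he, Category.assoc, Iso.inv_hom_id_assoc, cokernel.π_desc]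
      · apply Subtype.ext
        show f.1 ≫ cokernel.π (f.1 - g.1) ≫ d.e.inv = g.1 ≫ cokernel.π (f.1 - g.1) ≫ d.e.inv
        rw [← sub_eq_zero, ← Preadditive.sub_comp, ← Category.assoc, cokernel.condition,
          zero_comp]
  exact {}

variable (O B F) in
include hB₁ hB₂ in
/-- **S9114**. -/
theorem exists_filtered_colimit :
    ∃ (Λ : Type u) (_ : SmallCategory Λ) (_ : IsFiltered Λ) (D : Λ ⥤ ModSite.Mod O)
      (ι : D ⟶ (Functor.const Λ).obj F),
      (∀ l, TypeA O B (D.obj l)) ∧ Nonempty (IsColimit (Cocone.mk F ι)) :=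
  ⟨Idx O B F, inferInstance, isFiltered_idx hB₁ hB₂, Dfun O B F, ιfun O B F,
    fun l => typeA_D O B F l,
    isColimit_cocone hB₁ hB₂⟩

end Final

end Colim

end Groth.Agent.LD.RSp.TA
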