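import Mathlib
import Groth.Agent.Lib.Lead.RSp.TypeAKer

/-! # Extensions of finitely presented objects relative to a class of "free" objects with a strong
refinement property (abstract abelian-category part). -/

set_option autoImplicit false
universe u
open CategoryTheory Opposite Limits

namespace Groth.Agent.LD.RSp.TAK

open Groth.Agent.LD.MS

variable {𝒜 : Type*} [Category 𝒜] [Abelian 𝒜]

lemma ExR.comp_mono {X Y Z Z' : 𝒜} {f : X ⟶ Y} {g : Y ⟶ Z} (h : ExR f g) (m : Z ⟶ Z')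
    [Mono m] : ExR f (g ≫ m) := by
  refine ⟨by rw [← Category.assoc, h.1, zero_comp], fun A y hy => h.2 y ?_⟩
  rw [← cancel_mono m, zero_comp, Category.assoc]
  exact hy

/-- relations for the composite `PL ⟶ P ⟶ F` of a refinement and a presentation. -/
lemma exR_relations {P' P PL P2 D F : 𝒜} {ψ : P' ⟶ P} {π : P ⟶ F} (hc : ExR ψ π)
    {ρ : PL ⟶ P} {ρ' : P2 ⟶ P'} [Epi ρ'] {β' : P2 ⟶ PL} (hβ' : β' ≫ ρ = ρ' ≫ ψ)
    {d : D ⟶ PL} (hd : ExR d ρ) : ExR (biprod.desc β' d) (ρ ≫ π) := by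
  constructor
  · apply biprod.hom_ext'
    · rw [biprod.inl_desc_assoc, comp_zero, ← Category.assoc, hβ', Category.assoc, hc.1,
        comp_zero]
    · rw [biprod.inr_desc_assoc, comp_zero, ← Category.assoc, hd.1, zero_comp]
  · intro A x hx
    have hx' : (x ≫ ρ) ≫ π = 0 := by rw [Category.assoc]; exact hx
    obtain ⟨A1, p1, hp1, w, hw⟩ := hc.2 (x ≫ ρ) hx'
    obtain ⟨A2, p2, hp2, v, hv⟩ := surjective_up_to_refinements_of_epi ρ' w
    have h0 : (p2 ≫ p1 ≫ x - v ≫ β') ≫ ρ = 0 := by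
      rw [Preadditive.sub_comp, Category.assoc, Category.assoc, hw, Category.assoc, hβ',
        ← Category.assoc v, ← hv, Category.assoc, sub_self]
    obtain ⟨A3, p3, hp3, t, ht⟩ := hd.2 _ h0
    refine ⟨A3, p3 ≫ p2 ≫ p1, epi_comp _ _, biprod.lift (p3 ≫ v) t, ?_⟩
    rw [biprod.lift_desc, ← ht, Preadditive.comp_sub]
    simp only [Category.assoc]
    abel

section Ext

variable {PL P1 P1' Q F1 F2 F3 : 𝒜} (f : F1 ⟶ F2) (g : F2 ⟶ F3) (π1 : P1 ⟶ F1)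
  (ψ1 : P1' ⟶ P1) (lam : PL ⟶ F2) (τ : PL ⟶ F3) (ζ : Q ⟶ PL) (μ : Q ⟶ P1)

/-- the generators of the middle term. -/
noncomputable abbrev sig : PL ⊞ P1 ⟶ F2 := biprod.desc lam (π1 ≫ f)

/-- the relations of the middle term. -/
noncomputable abbrev tht : Q ⊞ P1' ⟶ PL ⊞ P1 :=
  biprod.desc (biprod.lift ζ (-μ)) (ψ1 ≫ biprod.inr)

variable (hfg : ExR f g) (h1 : ExR ψ1 π1) (hτ : lam ≫ g = τ) (hζ : ExR ζ τ)
  (hμ : μ ≫ π1 ≫ f = ζ ≫ lam)

include hfg hτ in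
lemma epi_sig [Epi π1] [Epi τ] : Epi (sig f π1 lam) := by
  rw [epi_iff_surjective_up_to_refinements]
  intro A y
  obtain ⟨A1, p1, hp1, x, hx⟩ := surjective_up_to_refinements_of_epi τ (y ≫ g)
  have h0 : (p1 ≫ y - x ≫ lam) ≫ g = 0 := by
    rw [Preadditive.sub_comp, Category.assoc, hx, Category.assoc, hτ, sub_self]
  obtain ⟨A2, p2, hp2, z, hz⟩ := hfg.2 _ h0
  obtain ⟨A3, p3, hp3, w, hw⟩ := surjective_up_to_refinements_of_epi π1 z
  refine ⟨A3, p3 ≫ p2 ≫ p1, epi_comp _ _, biprod.lift (p3 ≫ p2 ≫ x) w, ?_⟩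
  rw [biprod.lift_desc]
  have e : w ≫ π1 ≫ f = p3 ≫ p2 ≫ (p1 ≫ y - x ≫ lam) := by
    rw [← Category.assoc w, ← hw, Category.assoc, ← hz]
  rw [e, Preadditive.comp_sub, Preadditive.comp_sub]
  simp only [Category.assoc]
  abel

include hfg h1 hτ hζ hμ in
lemma exR_tht_sig [Mono f] : ExR (tht ψ1 ζ μ) (sig f π1 lam) := by
  constructor
  · apply biprod.hom_ext'
    · rw [biprod.inl_desc_assoc, comp_zero, biprod.lift_desc, Preadditive.neg_comp, hμ,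
        add_neg_cancel]
    · rw [biprod.inr_desc_assoc, comp_zero, Category.assoc, biprod.inr_desc,
        ← Category.assoc, h1.1, zero_comp]
  · intro A y hy
    have hxy : (y ≫ biprod.fst) ≫ lam + (y ≫ biprod.snd) ≫ π1 ≫ f = 0 := by
      have h : y ≫ (biprod.fst ≫ lam + biprod.snd ≫ π1 ≫ f) = 0 := by
        rw [← biprod.desc_eq]
        exact hy
      rw [Preadditive.comp_add] at h
      simpa only [Category.assoc] using h
    have hxτ : (y ≫ biprod.fst) ≫ τ = 0 := by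
      have h2 : (y ≫ biprod.fst) ≫ lam = -((y ≫ biprod.snd) ≫ π1 ≫ f) :=
        eq_neg_of_add_eq_zero_left hxy
      rw [← hτ, ← Category.assoc, h2, Preadditive.neg_comp]
      simp only [Category.assoc, hfg.1, comp_zero, neg_zero]
    obtain ⟨A1, p1, hp1, q, hq⟩ := hζ.2 _ hxτ
    have hs : (p1 ≫ (y ≫ biprod.snd) + q ≫ μ) ≫ π1 = 0 := by
      rw [← cancel_mono f, zero_comp]
      have e1 : (q ≫ μ) ≫ π1 ≫ f = p1 ≫ (y ≫ biprod.fst) ≫ lam := by
        rw [Category.assoc, hμ, ← Category.assoc, ← hq, Category.assoc]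
      have e2 : ((p1 ≫ (y ≫ biprod.snd) + q ≫ μ) ≫ π1) ≫ f =
          p1 ≫ ((y ≫ biprod.fst) ≫ lam + (y ≫ biprod.snd) ≫ π1 ≫ f) := by
        rw [Category.assoc, Preadditive.add_comp, e1, Preadditive.comp_add, Category.assoc,
          add_comm]
      rw [e2, hxy, comp_zero]
    obtain ⟨A2, p2, hp2, r, hr⟩ := h1.2 _ hs
    refine ⟨A2, p2 ≫ p1, epi_comp _ _, biprod.lift (p2 ≫ q) r, ?_⟩
    rw [biprod.lift_desc]
    apply biprod.hom_ext
    · simp only [Category.assoc, Preadditive.add_comp, biprod.lift_fst, biprod.inr_fst,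
        comp_zero, add_zero]
      rw [← hq]
    · simp only [Category.assoc, Preadditive.add_comp, biprod.lift_snd, biprod.inr_snd,
        Category.comp_id]
      rw [← hr]
      simp only [Preadditive.comp_add, Preadditive.comp_neg, Category.assoc]
      abel

include hfg h1 hτ hζ hμ in
theorem isCok_tht_sig [Mono f] [Epi π1] [Epi τ] : IsCok (tht ψ1 ζ μ) (sig f π1 lam) :=
  isCok_of_exR (exR_tht_sig f g π1 ψ1 lam τ ζ μ hfg h1 hτ hζ hμ) (epi_sig f g π1 lam τ hfg hτ)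

end Ext

section Class

variable (Pr : 𝒜 → Prop)

/-- the strong refinement property: refinements whose kernel is generated by the class. -/
def RefinesK : Prop :=
  ∀ ⦃P N G : 𝒜⦄ (π : N ⟶ G) (_ : Epi π) (γ : P ⟶ G), Pr P →
    ∃ (P' : 𝒜) (ρ : P' ⟶ P) (β : P' ⟶ N), Pr P' ∧ Epi ρ ∧ β ≫ π = ρ ≫ γ ∧
      ∃ (D : 𝒜) (d : D ⟶ P'), Pr D ∧ ExR d ρ

variable {Pr}

lemma RefinesK.refines (h : RefinesK Pr) : Refines Pr := by
  intro P N G π hπ γ hP
  obtain ⟨P', ρ, β, hP', hρ, hβ, -⟩ := h π hπ γ hP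
  exact ⟨P', ρ, β, hP', hρ, hβ⟩

/-- **extensions**. -/
theorem TA.extension (hR : RefinesK Pr) (hsum : ∀ P P' : 𝒜, Pr P → Pr P' → Pr (P ⊞ P'))
    (S : ShortComplex 𝒜) (hS : S.ShortExact) (h1 : TA Pr S.X₁) (h3 : TA Pr S.X₃) :
    TA Pr S.X₂ := by
  obtain ⟨P1', P1, ψ1, π1, hP1', hP1, hc1⟩ := h1
  obtain ⟨P3', P3, ψ3, π3, hP3', hP3, hc3⟩ := h3
  haveI := hS.mono_f
  haveI := hS.epi_g
  haveI : Epi π1 := hc1.epi
  haveI : Epi π3 := hc3.epi
  have hfg : ExR S.f S.g := ⟨S.zero, fun A y hy => hS.exact.exact_up_to_refinements y hy⟩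
  obtain ⟨PL, ρ, lam, hPL, hρ, hlam, D, d, hD, hd⟩ := hR S.g inferInstance π3 hP3
  haveI := hρ
  obtain ⟨P2, ρ', β', hP2, hρ', hβ'⟩ := hR.refines ρ hρ ψ3 hP3'
  haveI := hρ'
  have hζ0 : ExR (biprod.desc β' d) (ρ ≫ π3) := exR_relations (exR_of_isCok hc3) hβ' hd
  have hγ0 : (biprod.desc β' d ≫ lam) ≫ S.g = 0 := by
    rw [Category.assoc, hlam, hζ0.1]
  have hf' : ExR (π1 ≫ S.f) S.g := hfg.of_epi_comp π1
  obtain ⟨Q, ρ'', μ, hQ, hρ'', hμ⟩ :=
    hR.refines.exact hf' (biprod.desc β' d ≫ lam) hγ0 (hsum _ _ hP2 hD)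
  haveI := hρ''
  have hζ : ExR (ρ'' ≫ biprod.desc β' d) (ρ ≫ π3) := hζ0.of_epi_comp ρ''
  have hμ' : μ ≫ π1 ≫ S.f = (ρ'' ≫ biprod.desc β' d) ≫ lam := by
    rw [hμ, Category.assoc]
  have hcok := isCok_tht_sig S.f S.g π1 ψ1 lam (ρ ≫ π3) (ρ'' ≫ biprod.desc β' d) μ hfg
    (exR_of_isCok hc1) hlam hζ hμ'
  exact ⟨Q ⊞ P1', PL ⊞ P1, _, _, hsum _ _ hQ hP1', hsum _ _ hPL hP1, hcok⟩

end Class

end Groth.Agent.LD.RSp.TAK
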