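import Mathlib
import Groth.Agent.Lib.Lead.RSp.TypeAKer2
import Groth.Agent.Lib.Lead.RSp.TypeAExt

/-! # Extensions of modules of type A on a ringed site (fibre products of members of `B`
quasi-compact). -/

set_option autoImplicit false
universe u w w'
open CategoryTheory Opposite Limits

namespace Groth.Agent.LD.RSp.TA

open Groth.Agent.LD.RSp Groth.Agent.LD.MS Groth.Agent.LD.EZ Groth.Agent.LD.RSp.TAK

section Glue
variable {C : Type u} [SmallCategory C] {J : GrothendieckTopology C} {R : Sheaf J RingCat.{u}}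

/-- gluing of sections along a covering family. -/
theorem exists_glue (M : SheafOfModules.{u} R) {W : C} {K : Type w} (Y : K → C)
    (g : ∀ k, Y k ⟶ W) (h : Sieve.ofArrows Y g ∈ J W) (t : ∀ k, M.val.obj (op (Y k)))
    (ht : ∀ (k k' : K) (Z : C) (a : Z ⟶ Y k) (b : Z ⟶ Y k'), a ≫ g k = b ≫ g k' →
      rs M a (t k) = rs M b (t k')) :
    ∃ s : M.val.obj (op W), ∀ k, rs M (g k) s = t k := by
  have hsh : Presieve.IsSheaf J (SC.setSh M).obj :=
    (isSheaf_iff_isSheaf_of_type _ _).1 (SC.setSh M).property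
  have h1 : Presieve.IsSheafFor (SC.setSh M).obj (Presieve.ofArrows Y g) :=
    (Presieve.isSheafFor_iff_generate _).2 (hsh _ h)
  rw [Presieve.isSheafFor_arrows_iff] at h1
  obtain ⟨s, hs, -⟩ := h1 (fun k => SC.ofSec M (Y k) (t k))
    (fun k k' Z a b hab => ht k k' Z a b hab)
  exact ⟨SC.toSec M W s, hs⟩

end Glue

variable {C : Type u} [SmallCategory C] {J : GrothendieckTopology C}
  (O : Sheaf J CommRingCat.{u}) (B : Set C)

lemma fmap_comp {V U W : C} (a : V ⟶ U) (b : U ⟶ W) :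
    fmap O (a ≫ b) = fmap O a ≫ fmap O b := by
  have h := fmap_ofSec O a (ModSite.freeOn O W) (rs (ModSite.freeOn O W) b (uSec O W))
  rw [rs_rs] at h
  exact h.symm

include O in
/-- a quasi-compact object has a finite covering family by members of `B`. -/
lemma exists_finite_cover
    (hB₁ : ∀ X : C, ∃ (κ : Type u) (Y : κ → C) (g : ∀ k, Y k ⟶ X),
      Sieve.ofArrows Y g ∈ J X ∧ ∀ k, Y k ∈ B)
    (W : C) (hW : CohCx.IsQcObject ((presheafToSheaf J (Type u)).obj (yoneda.obj W))) :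
    ∃ (M : Type u) (_ : Finite M) (Z : M → C) (h : ∀ m, Z m ⟶ W),
      (∀ m, Z m ∈ B) ∧ Sieve.ofArrows Z h ∈ J W := by
  obtain ⟨K, hK, Y, g, -, hY, hcov, -⟩ := exists_local_lifts O B hB₁ W hW
    (𝟙 (ModSite.freeOn O W)) (0 : (ModSite.freeOn O W).val.obj (op W))
  exact ⟨K, hK, Y, g, hY, hcov⟩

/-- refinement with explicit covering families. -/
theorem exists_refinement_full
    (hB₁ : ∀ X : C, ∃ (κ : Type u) (Y : κ → C) (g : ∀ k, Y k ⟶ X),
      Sieve.ofArrows Y g ∈ J X ∧ ∀ k, Y k ∈ B)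
    (hB₂ : ∀ U ∈ B, CohCx.IsQcObject ((presheafToSheaf J (Type u)).obj (yoneda.obj U)))
    {I : Type u} [Finite I] (U : I → C) (hU : ∀ i, U i ∈ B)
    {N G : ModSite.Mod O} (π : N ⟶ G) [Epi π] (γ : PB O U ⟶ G) :
    ∃ (K : I → Type u) (_ : ∀ i, Finite (K i)) (Y : ∀ i, K i → C) (g : ∀ i k, Y i k ⟶ U i)
      (β : PB O (fun p : Σ i, K i => Y p.1 p.2) ⟶ N),
      (∀ i k, Y i k ∈ B) ∧ (∀ i, Sieve.ofArrows (Y i) (g i) ∈ J (U i)) ∧
      β ≫ π = Sigma.desc (fun p : Σ i, K i =>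
        fmap O (g p.1 p.2) ≫ Sigma.ι (fun i => ModSite.freeOn O (U i)) p.1) ≫ γ := by
  have h := fun i => exists_local_lifts O B hB₁ (U i) (hB₂ _ (hU i)) π
    (freeOnEquiv O (U i) G (Sigma.ι (fun i => ModSite.freeOn O (U i)) i ≫ γ))
  choose K hK Y g t hYB hcov ht using h
  haveI : ∀ i, Finite (K i) := hK
  refine ⟨K, hK, Y, g, dS O (fun p : Σ i, K i => Y p.1 p.2) N (fun p => t p.1 p.2), hYB, hcov,
    ?_⟩
  apply Sigma.hom_ext
  intro p
  rw [← Category.assoc, ι_dS, ← Category.assoc, Sigma.ι_desc, Category.assoc, ofSec_comp, ht,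
    ← ofSec_freeOnEquiv O G (Sigma.ι (fun i => ModSite.freeOn O (U i)) p.1 ≫ γ), fmap_ofSec,
    ofSec_freeOnEquiv]

section KerGens
variable [HasPullbacks C]
  {I : Type u} [Finite I] (U : I → C) (K : I → Type u) [∀ i, Finite (K i)]
  (Y : ∀ i, K i → C) (g : ∀ i k, Y i k ⟶ U i)

/-- the inclusion of a summand of the refined sum. -/
noncomputable abbrev inY (i : I) (k : K i) :
    ModSite.freeOn O (Y i k) ⟶ PB O (fun p : Σ i, K i => Y p.1 p.2) :=
  Sigma.ι (fun p : Σ i, K i => ModSite.freeOn O (Y p.1 p.2)) ⟨i, k⟩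

/-- the kernel of the refinement map is generated by finitely many `j_{W!}O`, `W ∈ B`. -/
theorem exists_ker_gens
    (hB₁ : ∀ X : C, ∃ (κ : Type u) (Y : κ → C) (g : ∀ k, Y k ⟶ X),
      Sieve.ofArrows Y g ∈ J X ∧ ∀ k, Y k ∈ B)
    (hB₃ : ∀ (U U₁ U₂ : C) (f₁ : U₁ ⟶ U) (f₂ : U₂ ⟶ U), U ∈ B → U₁ ∈ B → U₂ ∈ B →
      CohCx.IsQcObject ((presheafToSheaf J (Type u)).obj (yoneda.obj (pullback f₁ f₂))))
    (hU : ∀ i, U i ∈ B) (hY : ∀ i k, Y i k ∈ B)
    (hcov : ∀ i, Sieve.ofArrows (Y i) (g i) ∈ J (U i))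
    (ρ : PB O (fun p : Σ i, K i => Y p.1 p.2) ⟶ PB O U) [Epi ρ]
    (hρ : ∀ (i : I) (k : K i), inY O K Y i k ≫ ρ =
      fmap O (g i k) ≫ Sigma.ι (fun i => ModSite.freeOn O (U i)) i) :
    ∃ (M : Type u) (_ : Finite M) (W : M → C)
      (d : PB O W ⟶ PB O (fun p : Σ i, K i => Y p.1 p.2)), (∀ m, W m ∈ B) ∧ IsCok d ρ := by
  have h := fun q : (Σ i, K i × K i) => exists_finite_cover O B hB₁
    (pullback (g q.1 q.2.1) (g q.1 q.2.2))
    (hB₃ _ _ _ (g q.1 q.2.1) (g q.1 q.2.2) (hU q.1) (hY _ _) (hY _ _))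
  choose M hM Z h hZB hZcov using h
  haveI : ∀ q, Finite (M q) := hM
  let cmp : ∀ r : (Σ q : (Σ i, K i × K i), M q),
      ModSite.freeOn O (Z r.1 r.2) ⟶ PB O (fun p : Σ i, K i => Y p.1 p.2) := fun r =>
    fmap O (h r.1 r.2 ≫ pullback.fst (g r.1.1 r.1.2.1) (g r.1.1 r.1.2.2)) ≫
        inY O K Y r.1.1 r.1.2.1 -
      fmap O (h r.1 r.2 ≫ pullback.snd (g r.1.1 r.1.2.1) (g r.1.1 r.1.2.2)) ≫
        inY O K Y r.1.1 r.1.2.2
  have hd : ∀ r : (Σ q : (Σ i, K i × K i), M q),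
      Sigma.ι (fun r : (Σ q : (Σ i, K i × K i), M q) => ModSite.freeOn O (Z r.1 r.2)) r ≫
        Sigma.desc cmp = cmp r := fun r => Sigma.ι_desc _ _
  refine ⟨Σ q : (Σ i, K i × K i), M q, inferInstance, fun r => Z r.1 r.2, Sigma.desc cmp,
    fun r => hZB _ _, ?_, ?_⟩
  · -- zero
    apply Sigma.hom_ext
    intro r
    rw [← Category.assoc, hd r, comp_zero]
    show (fmap O (h r.1 r.2 ≫ pullback.fst (g r.1.1 r.1.2.1) (g r.1.1 r.1.2.2)) ≫
        inY O K Y r.1.1 r.1.2.1 -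
      fmap O (h r.1 r.2 ≫ pullback.snd (g r.1.1 r.1.2.1) (g r.1.1 r.1.2.2)) ≫
        inY O K Y r.1.1 r.1.2.2) ≫ ρ = 0
    rw [Preadditive.sub_comp, Category.assoc, Category.assoc, hρ, hρ, ← Category.assoc,
      ← Category.assoc, ← fmap_comp, ← fmap_comp, Category.assoc, Category.assoc,
      pullback.condition, sub_self]
  · -- universal property
    intro T k hk
    let t : ∀ (i : I) (k1 : K i), T.val.obj (op (Y i k1)) := fun i k1 =>
      freeOnEquiv O (Y i k1) T (inY O K Y i k1 ≫ k)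
    have ht : ∀ (i : I) (k1 : K i), inY O K Y i k1 ≫ k = ofSec O T (t i k1) := fun i k1 =>
      (ofSec_freeOnEquiv O T _).symm
    have hcomp : ∀ (i : I) (k1 k2 : K i),
        rs T (pullback.fst (g i k1) (g i k2)) (t i k1) =
          rs T (pullback.snd (g i k1) (g i k2)) (t i k2) := by
      intro i k1 k2
      apply eq_of_ofArrows T (Z ⟨i, (k1, k2)⟩) (h ⟨i, (k1, k2)⟩) (hZcov ⟨i, (k1, k2)⟩)
      intro m
      rw [rs_rs, rs_rs]
      apply ofSec_injective O T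
      rw [← fmap_ofSec, ← fmap_ofSec, ← ht, ← ht]
      have e : Sigma.ι (fun r : (Σ q : (Σ i, K i × K i), M q) => ModSite.freeOn O (Z r.1 r.2))
          ⟨⟨i, (k1, k2)⟩, m⟩ ≫ Sigma.desc cmp ≫ k = 0 := by rw [hk, comp_zero]
      rw [← Category.assoc, hd] at e
      have e' : (fmap O (h ⟨i, (k1, k2)⟩ m ≫ pullback.fst (g i k1) (g i k2)) ≫
            inY O K Y i k1 -
          fmap O (h ⟨i, (k1, k2)⟩ m ≫ pullback.snd (g i k1) (g i k2)) ≫
            inY O K Y i k2) ≫ k = 0 := e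
      rw [Preadditive.sub_comp, sub_eq_zero, Category.assoc, Category.assoc] at e'
      exact e'
    have hglue : ∀ i, ∃ s : T.val.obj (op (U i)), ∀ k1, rs T (g i k1) s = t i k1 := by
      intro i
      apply exists_glue T (Y i) (g i) (hcov i) (fun k1 => t i k1)
      intro k1 k2 Z' a b hab
      calc rs T a (t i k1)
          = rs T (pullback.lift a b hab ≫ pullback.fst (g i k1) (g i k2)) (t i k1) := by
            rw [pullback.lift_fst]
        _ = rs T (pullback.lift a b hab ≫ pullback.snd (g i k1) (g i k2)) (t i k2) := by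
            rw [← rs_rs, hcomp, rs_rs]
        _ = rs T b (t i k2) := by rw [pullback.lift_snd]
    choose s hs using hglue
    have hfac : ρ ≫ dS O U T s = k := by
      apply Sigma.hom_ext
      intro p
      obtain ⟨i, k1⟩ := p
      show inY O K Y i k1 ≫ ρ ≫ dS O U T s = inY O K Y i k1 ≫ k
      rw [← Category.assoc, hρ, Category.assoc, ι_dS, fmap_ofSec, hs, ← ht]
    refine ⟨dS O U T s, hfac, fun y hy => ?_⟩
    have hy' : ρ ≫ y = k := hy
    rw [← cancel_epi ρ, hfac, hy']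

end KerGens

/-- the strong refinement property of finite sums of `j_{U!}O`, `U ∈ B`. -/
lemma refinesK_isPB [HasPullbacks C]
    (hB₁ : ∀ X : C, ∃ (κ : Type u) (Y : κ → C) (g : ∀ k, Y k ⟶ X),
      Sieve.ofArrows Y g ∈ J X ∧ ∀ k, Y k ∈ B)
    (hB₂ : ∀ U ∈ B, CohCx.IsQcObject ((presheafToSheaf J (Type u)).obj (yoneda.obj U)))
    (hB₃ : ∀ (U U₁ U₂ : C) (f₁ : U₁ ⟶ U) (f₂ : U₂ ⟶ U), U ∈ B → U₁ ∈ B → U₂ ∈ B →
      CohCx.IsQcObject ((presheafToSheaf J (Type u)).obj (yoneda.obj (pullback f₁ f₂)))) :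
    RefinesK (IsPB O B) := by
  intro P N G π hπ γ hP
  obtain ⟨I, hI, U, hU, ⟨e⟩⟩ := hP
  haveI := hI
  haveI := hπ
  obtain ⟨K, hK, Y, g, β, hY, hcov, hβ⟩ :=
    exists_refinement_full O B hB₁ hB₂ U hU π (e.inv ≫ γ)
  haveI := hK
  haveI := epi_refine O U K Y g hcov
  obtain ⟨M, hM, W, d, hW, hd⟩ := exists_ker_gens O B U K Y g hB₁ hB₃ hU hY hcov
    (Sigma.desc (fun p : Σ i, K i =>
      fmap O (g p.1 p.2) ≫ Sigma.ι (fun i => ModSite.freeOn O (U i)) p.1))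
    (fun i k => Sigma.ι_desc _ _)
  haveI := hM
  refine ⟨PB O (fun p : Σ i, K i => Y p.1 p.2), _ ≫ e.inv, β,
    isPB_PB O B _ (fun p => hY _ _), epi_comp _ _, ?_, PB O W, d, isPB_PB O B W hW,
    (exR_of_isCok hd).comp_mono e.inv⟩
  rw [hβ, Category.assoc]

/-- **S9116**: an extension of modules of type A is of type A. -/
theorem typeA_extension [HasPullbacks C]
    (hB₁ : ∀ X : C, ∃ (κ : Type u) (Y : κ → C) (g : ∀ k, Y k ⟶ X),
      Sieve.ofArrows Y g ∈ J X ∧ ∀ k, Y k ∈ B)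
    (hB₂ : ∀ U ∈ B, CohCx.IsQcObject ((presheafToSheaf J (Type u)).obj (yoneda.obj U)))
    (hB₃ : ∀ (U U₁ U₂ : C) (f₁ : U₁ ⟶ U) (f₂ : U₂ ⟶ U), U ∈ B → U₁ ∈ B → U₂ ∈ B →
      CohCx.IsQcObject ((presheafToSheaf J (Type u)).obj (yoneda.obj (pullback f₁ f₂))))
    (S : ShortComplex (ModSite.Mod O)) (hS : S.ShortExact)
    (h₁ : TypeA O B S.X₁) (h₃ : TypeA O B S.X₃) : TypeA O B S.X₂ :=
  typeA_of_ta (TA.extension (refinesK_isPB O B hB₁ hB₂ hB₃) (isPB_biprod O B) S hS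
    (ta_of_typeA h₁) (ta_of_typeA h₃))

end Groth.Agent.LD.RSp.TA
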